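import Mathlib

set_option autoImplicit false

namespace Cfsg.Agent.Lib.Helper66

open MulAction

/-- If `Y` is an invariant finite set on which a group acts and every orbit has cardinality divisible
by `d`, then `d` divides the cardinality of `Y`. -/
theorem dvd_card_of_invariant {G Z : Type*} [Group G] [MulAction G Z] [DecidableEq Z]
    (d : ℕ) : ∀ (Y : Finset Z), (∀ g : G, ∀ y ∈ Y, g • y ∈ Y) →
      (∀ y ∈ Y, d ∣ (MulAction.orbit G y).ncard) → d ∣ Y.card := by
  intro Y
  induction' hn : Y.card using Nat.strong_induction_on with n ih generalizing Y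
  intro hinv h
  rcases Y.eq_empty_or_nonempty with rfl | ⟨y, hy⟩
  · simp at hn; subst hn; exact dvd_zero d
  · have hOsub : MulAction.orbit G y ⊆ (Y : Set Z) := by
      rintro _ ⟨g, rfl⟩
      exact hinv g y hy
    have hOfin : (MulAction.orbit G y).Finite := Y.finite_toSet.subset hOsub
    let O : Finset Z := hOfin.toFinset
    have hO : ∀ z, z ∈ O ↔ z ∈ MulAction.orbit G y := fun z => hOfin.mem_toFinset
    have hOY : O ⊆ Y := fun z hz => hOsub ((hO z).mp hz)
    have hOcard : O.card = (MulAction.orbit G y).ncard := (Set.ncard_eq_toFinset_card _ hOfin).symm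
    have hyO : y ∈ O := (hO y).mpr (MulAction.mem_orbit_self y)
    let Y' := Y \ O
    have hY'card : Y'.card + O.card = Y.card := Finset.card_sdiff_add_card_eq_card hOY
    have hOpos : 0 < O.card := Finset.card_pos.mpr ⟨y, hyO⟩
    have hlt : Y'.card < n := by omega
    have hinv' : ∀ g : G, ∀ z ∈ Y', g • z ∈ Y' := by
      intro g z hz
      rw [Finset.mem_sdiff] at hz ⊢
      refine ⟨hinv g z hz.1, ?_⟩
      intro hgz
      apply hz.2
      rw [hO] at hgz ⊢
      have : z = g⁻¹ • (g • z) := by simp
      rw [this]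
      exact MulAction.mem_orbit_of_mem_orbit g⁻¹ hgz
    have h' : ∀ z ∈ Y', d ∣ (MulAction.orbit G z).ncard := fun z hz => h z (Finset.mem_sdiff.mp hz).1
    have h1 := ih Y'.card hlt Y' rfl hinv' h'
    have h2 : d ∣ O.card := by rw [hOcard]; exact h y hy
    rw [← hn, ← hY'card]
    exact dvd_add h1 h2

/-- For a finite `p`-group acting, an invariant finite set has as many elements modulo `p` as its
subset of fixed points. -/
theorem card_modEq_card_fixed_of_invariant {G Z : Type*} [Group G] [Finite G] [MulAction G Z]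
    [DecidableEq Z] (p : ℕ) [hp : Fact p.Prime] (hG : IsPGroup p G) (Y : Finset Z)
    (hinv : ∀ g : G, ∀ y ∈ Y, g • y ∈ Y) (F : Finset Z) (hF : ∀ y, y ∈ F ↔ y ∈ Y ∧ ∀ g : G, g • y = y) :
    Y.card ≡ F.card [MOD p] := by
  classical
  have hFY : F ⊆ Y := fun y hy => ((hF y).mp hy).1
  have hsplit : (Y \ F).card + F.card = Y.card := Finset.card_sdiff_add_card_eq_card hFY
  have hdvd : p ∣ (Y \ F).card := by
    apply dvd_card_of_invariant (G := G) p (Y \ F)
    · intro g y hy
      rw [Finset.mem_sdiff] at hy ⊢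
      refine ⟨hinv g y hy.1, ?_⟩
      intro hgy
      apply hy.2
      rw [hF] at hgy ⊢
      refine ⟨hy.1, ?_⟩
      intro h
      have h1 := hgy.2 (g * h * g⁻¹)
      rw [mul_smul, mul_smul, inv_smul_smul] at h1
      exact smul_left_cancel g h1
    · intro y hy
      rw [Finset.mem_sdiff] at hy
      rw [← MulAction.index_stabilizer]
      obtain ⟨j, hj⟩ := hG.index (MulAction.stabilizer G y)
      rw [hj]
      have hj0 : j ≠ 0 := by
        rintro rfl
        rw [pow_zero, Subgroup.index_eq_one] at hj
        apply hy.2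
        rw [hF]
        refine ⟨hy.1, fun g => ?_⟩
        have : g ∈ MulAction.stabilizer G y := by rw [hj]; exact Subgroup.mem_top g
        exact this
      exact dvd_pow_self p hj0
  obtain ⟨t, ht⟩ := hdvd
  rw [← hsplit, ht]
  simp [Nat.ModEq, Nat.add_mod]

end Cfsg.Agent.Lib.Helper66
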