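import Mathlib
import Cfsg.Agent.Lib.Helper66.Orbits

set_option autoImplicit false

namespace Cfsg.Agent.Lib.Helper66

open scoped Pointwise
open MulAction

/-- Lucas: `C(p^β m - 1, p^β - 1) ≡ 1 (mod p)`. -/
theorem choose_pred_modEq_one (p : ℕ) [hp : Fact p.Prime] (β m : ℕ) (hm : 0 < m) :
    Nat.choose (p ^ β * m - 1) (p ^ β - 1) ≡ 1 [MOD p] := by
  have hp0 : 0 < p := hp.1.pos
  induction β with
  | zero => simp [Nat.ModEq]
  | succ β ih =>
    have hpos : 0 < p ^ β * m := Nat.mul_pos (pow_pos hp0 β) hm
    have hpos' : 0 < p ^ β := pow_pos hp0 β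
    have e1 : p ^ (β + 1) * m - 1 = (p - 1) + p * (p ^ β * m - 1) := by
      have h1 : p ^ (β + 1) * m = p * (p ^ β * m) := by ring
      rw [h1]
      have h2 : p * (p ^ β * m) = p * (p ^ β * m - 1) + p := by
        conv_lhs => rw [show p ^ β * m = (p ^ β * m - 1) + 1 by omega]
        ring
      omega
    have e2 : p ^ (β + 1) - 1 = (p - 1) + p * (p ^ β - 1) := by
      have h1 : p ^ (β + 1) = p * p ^ β := by ring
      rw [h1]
      have h2 : p * p ^ β = p * (p ^ β - 1) + p := by
        conv_lhs => rw [show p ^ β = (p ^ β - 1) + 1 by omega]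
        ring
      omega
    have hlt : p - 1 < p := by omega
    have m1 : (p ^ (β + 1) * m - 1) % p = p - 1 := by
      rw [e1, Nat.add_mul_mod_self_left, Nat.mod_eq_of_lt hlt]
    have d1 : (p ^ (β + 1) * m - 1) / p = p ^ β * m - 1 := by
      rw [e1, Nat.add_mul_div_left _ _ hp0, Nat.div_eq_of_lt hlt, zero_add]
    have m2 : (p ^ (β + 1) - 1) % p = p - 1 := by
      rw [e2, Nat.add_mul_mod_self_left, Nat.mod_eq_of_lt hlt]
    have d2 : (p ^ (β + 1) - 1) / p = p ^ β - 1 := by
      rw [e2, Nat.add_mul_div_left _ _ hp0, Nat.div_eq_of_lt hlt, zero_add]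
    have := Choose.choose_modEq_choose_mod_mul_choose_div_nat (p := p)
      (n := p ^ (β + 1) * m - 1) (k := p ^ (β + 1) - 1)
    rw [m1, d1, m2, d2, Nat.choose_self, one_mul] at this
    exact this.trans ih

section stab

variable {G : Type*} [Group G] [DecidableEq G]

/-- The stabilizer of a finite subset under left multiplication has order dividing the size of the subset. -/
theorem card_stabilizer_dvd_card (S : Finset G) : Nat.card (stabilizer G S) ∣ S.card := by
  apply dvd_card_of_invariant (G := stabilizer G S) (Z := G) (Nat.card (stabilizer G S)) S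
  · intro t s hs
    have ht : (t : G) • S = S := t.2
    have : (t : G) • s ∈ (t : G) • S := Finset.smul_mem_smul_finset hs
    rw [ht] at this
    exact this
  · intro s _
    have hinj : Function.Injective (fun t : stabilizer G S => t • s) := by
      intro t t' h
      apply Subtype.ext
      have h' : (t : G) * s = (t' : G) * s := h
      exact mul_right_cancel h'
    have : MulAction.orbit (stabilizer G S) s = Set.range (fun t : stabilizer G S => t • s) := rfl
    rw [this, Set.ncard_range_of_injective hinj]

/-- right coset of a subgroup as a finset -/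
noncomputable def rcoset [Fintype G] (H : Subgroup G) (g : G) : Finset G :=
  open Classical in (Finset.univ.filter (fun x => x ∈ H)).image (fun x => x * g)

theorem mem_rcoset [Fintype G] (H : Subgroup G) (g x : G) : x ∈ rcoset H g ↔ ∃ h ∈ H, h * g = x := by
  classical
  simp only [rcoset, Finset.mem_image, Finset.mem_filter, Finset.mem_univ, true_and]

theorem card_rcoset [Fintype G] (H : Subgroup G) (g : G) : (rcoset H g).card = Nat.card H := by
  classical
  rw [rcoset, Finset.card_image_of_injective _ (mul_left_injective g)]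
  rw [Nat.card_eq_fintype_card, Fintype.card_subtype]

theorem stabilizer_rcoset [Fintype G] (H : Subgroup G) (g : G) : stabilizer G (rcoset H g) = H := by
  ext x
  rw [mem_stabilizer_iff]
  constructor
  · intro hx
    have hg : g ∈ rcoset H g := (mem_rcoset H g g).mpr ⟨1, H.one_mem, one_mul g⟩
    have : x • g ∈ x • rcoset H g := Finset.smul_mem_smul_finset hg
    rw [hx, mem_rcoset] at this
    obtain ⟨h, hh, hhg⟩ := this
    have : h = x := mul_right_cancel hhg
    rw [← this]; exact hh
  · intro hx
    ext y
    rw [Finset.mem_smul_finset]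
    constructor
    · rintro ⟨z, hz, rfl⟩
      rw [mem_rcoset] at hz ⊢
      obtain ⟨h, hh, rfl⟩ := hz
      exact ⟨x * h, H.mul_mem hx hh, by simp [mul_assoc]⟩
    · intro hy
      rw [mem_rcoset] at hy
      obtain ⟨h, hh, rfl⟩ := hy
      refine ⟨x⁻¹ * h * g, (mem_rcoset H g _).mpr ⟨x⁻¹ * h, H.mul_mem (H.inv_mem hx) hh, rfl⟩, ?_⟩
      simp [mul_assoc]

theorem eq_rcoset_of_card [Fintype G] (S : Finset G) (h : Nat.card (stabilizer G S) = S.card)
    (g : G) (hg : g ∈ S) : rcoset (stabilizer G S) g = S := by
  apply Finset.eq_of_subset_of_card_le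
  · intro x hx
    rw [mem_rcoset] at hx
    obtain ⟨t, ht, rfl⟩ := hx
    have ht' : t • S = S := ht
    have : t • g ∈ t • S := Finset.smul_mem_smul_finset hg
    rw [ht'] at this
    exact this
  · rw [card_rcoset, h]

end stab

/-- Frobenius/Wielandt: the number of subgroups of order `p ^ β` of a finite group whose order is
divisible by `p ^ β` is congruent to `1` modulo `p`. -/
theorem card_subgroups_modEq_one {G : Type*} [Group G] [Finite G] (p β : ℕ) [hp : Fact p.Prime]
    (hdiv : p ^ β ∣ Nat.card G) :
    Nat.card {H : Subgroup G // Nat.card H = p ^ β} ≡ 1 [MOD p] := by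
  classical
  haveI : Fintype G := Fintype.ofFinite G
  haveI : Fintype (Subgroup G) := Fintype.ofFinite _
  obtain ⟨m, hm⟩ := hdiv
  have hc := choose_pred_modEq_one p β m
  generalize hk : p ^ β = k at hm hc ⊢
  have hkpos : 0 < k := by rw [← hk]; exact pow_pos hp.1.pos β
  have hGpos : 0 < Nat.card G := Nat.card_pos
  have hmpos : 0 < m := by
    rcases Nat.eq_zero_or_pos m with h | h
    · rw [h, mul_zero] at hm; omega
    · exact h
  have hcardG : Fintype.card G = k * m := by rw [← Nat.card_eq_fintype_card, hm]
  let X : Finset (Finset G) := (Finset.univ : Finset G).powersetCard k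
  let sc : Finset G → ℕ := fun S => Nat.card (stabilizer G S)
  let X0 := X.filter (fun S => sc S = k)
  let X1 := X.filter (fun S => ¬ sc S = k)
  have hXcard : X.card = Nat.choose (k * m) k := by
    rw [Finset.card_powersetCard, Finset.card_univ, hcardG]
  have hsplit : X0.card + X1.card = X.card := Finset.card_filter_add_card_filter_not _
  -- the non-full part
  have hX1 : p * m ∣ X1.card := by
    apply dvd_card_of_invariant (G := G) (p * m) X1
    · intro g S hS
      rw [Finset.mem_filter, Finset.mem_powersetCard] at hS ⊢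
      refine ⟨⟨Finset.subset_univ _, ?_⟩, ?_⟩
      · rw [Finset.card_smul_finset]; exact hS.1.2
      · have : sc (g • S) = sc S := by
          change Nat.card (stabilizer G (g • S)) = Nat.card (stabilizer G S)
          rw [MulAction.stabilizer_smul_eq_stabilizer_map_conj]
          exact Subgroup.card_map_of_injective (MulAut.conj g).injective
        rw [this]; exact hS.2
    · intro S hS
      rw [Finset.mem_filter, Finset.mem_powersetCard] at hS
      have h1 : sc S ∣ p ^ β := by
        have := card_stabilizer_dvd_card S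
        rw [hS.1.2, ← hk] at this; exact this
      obtain ⟨j, hj, hjeq⟩ := (Nat.dvd_prime_pow hp.1).mp h1
      have hjlt : j < β := by
        rcases hj.lt_or_eq with h | h
        · exact h
        · exfalso; apply hS.2; rw [hjeq, h, hk]
      rw [← MulAction.index_stabilizer]
      have h2 := (stabilizer G S).card_mul_index
      have hjeq' : Nat.card (stabilizer G S) = p ^ j := hjeq
      have h3 : (stabilizer G S).index = p ^ (β - j) * m := by
        have h4 : p ^ j * (stabilizer G S).index = p ^ j * (p ^ (β - j) * m) := by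
          rw [← hjeq', h2, hm, ← hk, hjeq', ← mul_assoc, ← pow_add]
          congr 2
          omega
        exact Nat.eq_of_mul_eq_mul_left (pow_pos hp.1.pos j) h4
      rw [h3]
      exact Nat.mul_dvd_mul_right (dvd_pow_self p (by omega)) m
  -- the full part
  let Hs : Finset (Subgroup G) := Finset.univ.filter (fun H => Nat.card H = k)
  have hN : Nat.card {H : Subgroup G // Nat.card H = k} = Hs.card := by
    rw [Nat.card_eq_fintype_card, Fintype.card_subtype]
  let P : Finset (Subgroup G × G) := Hs ×ˢ Finset.univ
  have hPcard : P.card = Hs.card * (k * m) := by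
    rw [Finset.card_product, Finset.card_univ, hcardG]
  let φ : Subgroup G × G → Finset G := fun x => rcoset x.1 x.2
  have hmaps : (P : Set (Subgroup G × G)).MapsTo φ X0 := by
    rintro ⟨H, g⟩ hx
    have hx' : (H, g) ∈ P := hx
    have hH : Nat.card H = k := (Finset.mem_filter.mp (Finset.mem_product.mp hx').1).2
    rw [Finset.mem_coe, Finset.mem_filter, Finset.mem_powersetCard]
    refine ⟨⟨Finset.subset_univ _, ?_⟩, ?_⟩
    · change (rcoset H g).card = k
      rw [card_rcoset, hH]
    · change Nat.card (stabilizer G (rcoset H g)) = k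
      rw [stabilizer_rcoset, hH]
  have hfib : ∀ S ∈ X0, (P.filter (fun x => φ x = S)).card = k := by
    intro S hS
    rw [Finset.mem_filter, Finset.mem_powersetCard] at hS
    have hSk : S.card = k := hS.1.2
    have hsc : Nat.card (stabilizer G S) = k := hS.2
    have : P.filter (fun x => φ x = S) = S.image (fun g => (stabilizer G S, g)) := by
      ext ⟨H, g⟩
      simp only [Finset.mem_filter, Finset.mem_image, Prod.mk.injEq]
      constructor
      · rintro ⟨_, hφ⟩
        have hφ' : rcoset H g = S := hφ
        have hHS : stabilizer G S = H := by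
          rw [← hφ']; exact stabilizer_rcoset H g
        have hgS : g ∈ S := by
          rw [← hφ']; exact (mem_rcoset H g g).mpr ⟨1, H.one_mem, one_mul g⟩
        exact ⟨g, hgS, hHS, rfl⟩
      · rintro ⟨g', hg', hH, rfl⟩
        subst hH
        refine ⟨?_, ?_⟩
        · rw [Finset.mem_product]
          exact ⟨Finset.mem_filter.mpr ⟨Finset.mem_univ _, hsc⟩, Finset.mem_univ _⟩
        · exact eq_rcoset_of_card S (hsc.trans hSk.symm) g' hg'
    rw [this, Finset.card_image_of_injective _ (fun a b h => (Prod.mk.inj h).2), hSk]
  have hcount : P.card = X0.card * k := by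
    rw [Finset.card_eq_sum_card_fiberwise hmaps, Finset.sum_congr rfl hfib, Finset.sum_const,
      smul_eq_mul]
  have hX0 : X0.card = Hs.card * m := by
    have : X0.card * k = (Hs.card * m) * k := by rw [← hcount, hPcard]; ring
    exact Nat.eq_of_mul_eq_mul_right hkpos this
  -- the binomial coefficient
  have hchoose : Nat.choose (k * m) k = m * Nat.choose (k * m - 1) (k - 1) := by
    have h := Nat.add_one_mul_choose_eq (k * m - 1) (k - 1)
    have hkm : 1 ≤ k * m := Nat.mul_pos hkpos hmpos
    rw [Nat.sub_add_cancel hkm, Nat.sub_add_cancel hkpos] at h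
    have : Nat.choose (k * m) k * k = (m * Nat.choose (k * m - 1) (k - 1)) * k := by
      rw [← h]; ring
    exact Nat.eq_of_mul_eq_mul_right hkpos this
  obtain ⟨t, ht⟩ := hX1
  have hmain : m * Nat.choose (k * m - 1) (k - 1) = m * (Hs.card + p * t) := by
    rw [← hchoose, ← hXcard, ← hsplit, hX0, ht]; ring
  have hc' : Nat.choose (k * m - 1) (k - 1) = Hs.card + p * t :=
    Nat.eq_of_mul_eq_mul_left hmpos hmain
  rw [hN]
  have h1 := hc hmpos
  rw [hc'] at h1
  have h2 : Hs.card ≡ Hs.card + p * t [MOD p] := by
    simp [Nat.ModEq, Nat.add_mul_mod_self_left]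
  exact h2.trans h1

end Cfsg.Agent.Lib.Helper66
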