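import Mathlib

set_option autoImplicit false

/-!
# Derived length of `p`-subgroups of symmetric groups

* `dsIn H k` : the derived series of a subgroup `H`, computed inside the ambient group.
* `smul_eq_of_mem_derivedSeries` : a `p`-group acting on a set; a point whose orbit has fewer than
  `p ^ (k+1)` elements is fixed by the `k`-th derived subgroup.
* `W A` : the wreath product `A ≀ C_p` inside `Perm (ZMod p × Y)`, for `A ≤ Perm Y`.
* `exists_pgroup_perm` : a `p`-subgroup of `Perm Y`, `|Y| = p ^ L`, of derived length at least `L`.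
-/

namespace Cfsg.Agent.Lib.Helper66.PD

universe u v

section dsIn
variable {G : Type*} [Group G]

/-- derived series of a subgroup, inside the ambient group -/
def dsIn (H : Subgroup G) : ℕ → Subgroup G
  | 0 => H
  | (k + 1) => ⁅dsIn H k, dsIn H k⁆

@[simp] lemma dsIn_zero (H : Subgroup G) : dsIn H 0 = H := rfl
lemma dsIn_succ (H : Subgroup G) (k : ℕ) : dsIn H (k + 1) = ⁅dsIn H k, dsIn H k⁆ := rfl

lemma dsIn_mono {H K : Subgroup G} (h : H ≤ K) (k : ℕ) : dsIn H k ≤ dsIn K k := by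
  induction k with
  | zero => exact h
  | succ k ih => exact Subgroup.commutator_mono ih ih

lemma dsIn_map {G' : Type*} [Group G'] (f : G →* G') (H : Subgroup G) (k : ℕ) :
    dsIn (H.map f) k = (dsIn H k).map f := by
  induction k with
  | zero => rfl
  | succ k ih => rw [dsIn_succ, dsIn_succ, ih, Subgroup.map_commutator]

lemma map_derivedSeries_eq (H : Subgroup G) (k : ℕ) :
    (derivedSeries H k).map H.subtype = dsIn H k := by
  induction k with
  | zero =>
    rw [derivedSeries_zero, dsIn_zero, ← MonoidHom.range_eq_map, Subgroup.range_subtype]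
  | succ k ih => rw [derivedSeries_succ, Subgroup.map_commutator, ih, dsIn_succ]

lemma derivedSeries_eq_bot_iff (H : Subgroup G) (k : ℕ) :
    derivedSeries H k = ⊥ ↔ dsIn H k = ⊥ := by
  rw [← map_derivedSeries_eq, Subgroup.map_eq_bot_iff_of_injective _ H.subtype_injective]

lemma dsIn_map_ne_bot {G' : Type*} [Group G'] (f : G →* G') (hf : Function.Injective f)
    (H : Subgroup G) (k : ℕ) (h : dsIn H k ≠ ⊥) : dsIn (H.map f) k ≠ ⊥ := by
  rw [dsIn_map]
  intro h1
  exact h ((Subgroup.map_eq_bot_iff_of_injective _ hf).1 h1)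

end dsIn

section upper
variable (p : ℕ) [Fact p.Prime]

lemma exists_normal_index_p {Q : Type*} [Group Q] [Finite Q] (hQ : IsPGroup p Q)
    (S : Subgroup Q) (hS : S ≠ ⊤) : ∃ M : Subgroup Q, S ≤ M ∧ M.Normal ∧ M.index = p := by
  obtain ⟨m, hm⟩ := IsPGroup.iff_card.1 hQ
  obtain ⟨s, hs⟩ := IsPGroup.iff_card.1 (hQ.to_subgroup S)
  have hp := (Fact.out : p.Prime)
  have hsm : s < m := by
    by_contra hcon
    have h1 : m ≤ s := not_lt.mp hcon
    have h2 : Nat.card S ∣ Nat.card Q := Subgroup.card_subgroup_dvd_card S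
    rw [hm, hs] at h2
    have h3 : s ≤ m := (Nat.pow_dvd_pow_iff_le_right hp.one_lt).1 h2
    have h4 : s = m := le_antisymm h3 h1
    apply hS
    apply Subgroup.eq_top_of_card_eq
    rw [hs, hm, h4]
  obtain ⟨M, hM, hSM⟩ := Sylow.exists_subgroup_card_pow_prime_le p (m := m - 1)
    (by rw [hm]; exact pow_dvd_pow p (Nat.sub_le m 1)) S hs (by omega)
  have hidx : M.index = p := by
    have h1 := Subgroup.index_mul_card M
    rw [hM, hm] at h1
    have h2 : p ^ m = p * p ^ (m - 1) := by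
      rw [← pow_succ']; congr 1; omega
    rw [h2] at h1
    exact Nat.eq_of_mul_eq_mul_right (pow_pos hp.pos _) h1
  refine ⟨M, hSM, ?_, hidx⟩
  apply Subgroup.normal_of_index_eq_minFac_card
  rw [hidx, hm, Nat.Prime.pow_minFac hp (by omega)]

lemma derivedSeries_succ_le_dsIn {Q : Type*} [Group Q] (M : Subgroup Q) [M.Normal]
    (hM : M.index = p) (k : ℕ) : derivedSeries Q (k + 1) ≤ dsIn M k := by
  induction k with
  | zero =>
    rw [derivedSeries_succ, derivedSeries_zero, dsIn_zero]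
    have hcard : Nat.card (Q ⧸ M) = p := by rw [← Subgroup.index_eq_card, hM]
    have hcyc : IsCyclic (Q ⧸ M) := isCyclic_of_prime_card hcard
    let _ : CommGroup (Q ⧸ M) := IsCyclic.commGroup
    have := Abelianization.commutator_subset_ker (QuotientGroup.mk' M)
    rw [QuotientGroup.ker_mk'] at this
    exact this
  | succ k ih =>
    rw [derivedSeries_succ, dsIn_succ]
    exact Subgroup.commutator_mono ih ih

/-- A `p`-group acting on a set: a point whose stabilizer has index `< p ^ (k+1)` is fixed by the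
`k`-th derived subgroup. -/
theorem smul_eq_of_mem_derivedSeries {X : Type v} :
    ∀ (k : ℕ) (Q : Type u) [Group Q] [Finite Q] [MulAction Q X] (_ : IsPGroup p Q) (x : X),
      (MulAction.stabilizer Q x).index < p ^ (k + 1) → ∀ g ∈ derivedSeries Q k, g • x = x := by
  have hp := (Fact.out : p.Prime)
  intro k
  induction k with
  | zero =>
    intro Q _ _ _ hQ x hlt g _
    obtain ⟨a, ha⟩ := hQ.index (MulAction.stabilizer Q x)
    rw [ha] at hlt
    have ha0 : a = 0 := by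
      by_contra h0
      have : p ^ 1 ≤ p ^ a := Nat.pow_le_pow_right hp.pos (Nat.one_le_iff_ne_zero.mpr h0)
      simp only [zero_add] at hlt
      omega
    rw [ha0, pow_zero, Subgroup.index_eq_one] at ha
    have : g ∈ MulAction.stabilizer Q x := by rw [ha]; exact Subgroup.mem_top g
    exact this
  | succ k ih =>
    intro Q _ _ _ hQ x hlt g hg
    by_cases hS : MulAction.stabilizer Q x = ⊤
    · have : g ∈ MulAction.stabilizer Q x := by rw [hS]; exact Subgroup.mem_top g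
      exact this
    · obtain ⟨M, hSM, hMn, hidx⟩ := exists_normal_index_p p hQ _ hS
      have hg' : g ∈ dsIn M k := derivedSeries_succ_le_dsIn p M hidx k hg
      rw [← map_derivedSeries_eq] at hg'
      obtain ⟨m, hm, rfl⟩ := hg'
      have hstab : MulAction.stabilizer M x = (MulAction.stabilizer Q x).subgroupOf M := by
        ext y
        simp only [MulAction.mem_stabilizer_iff, Subgroup.mem_subgroupOf]
        rfl
      have hlt' : (MulAction.stabilizer M x).index < p ^ (k + 1) := by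
        rw [hstab]
        have h1 : (MulAction.stabilizer Q x).relIndex M * M.index = (MulAction.stabilizer Q x).index :=
          Subgroup.relIndex_mul_index hSM
        rw [hidx] at h1
        change (MulAction.stabilizer Q x).relIndex M < p ^ (k + 1)
        rw [← h1, pow_succ] at hlt
        exact lt_of_mul_lt_mul_right hlt (Nat.zero_le p)
      have := ih M (hQ.to_subgroup M) x hlt' m hm
      exact this

end upper

section wreath
open scoped commutatorElement
variable (p : ℕ) [Fact p.Prime] {Y : Type*}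

/-- the wreath product `A ≀ C_p` inside `Perm (ZMod p × Y)` -/
def W (A : Subgroup (Equiv.Perm Y)) : Subgroup (Equiv.Perm (ZMod p × Y)) where
  carrier := {σ | ∃ c : ZMod p, ∃ φ : ZMod p → Equiv.Perm Y,
    (∀ j, φ j ∈ A) ∧ ∀ j y, σ (j, y) = (j + c, φ j y)}
  one_mem' := ⟨0, fun _ => 1, fun _ => A.one_mem, fun j y => by simp⟩
  mul_mem' := by
    rintro σ τ ⟨c, φ, hφ, hσ⟩ ⟨d, ψ, hψ, hτ⟩
    refine ⟨d + c, fun j => φ (j + d) * ψ j, fun j => A.mul_mem (hφ _) (hψ _), ?_⟩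
    intro j y
    rw [Equiv.Perm.mul_apply, hτ, hσ, Equiv.Perm.mul_apply, add_assoc]
  inv_mem' := by
    rintro σ ⟨c, φ, hφ, hσ⟩
    refine ⟨-c, fun j => (φ (j - c))⁻¹, fun j => A.inv_mem (hφ _), ?_⟩
    intro j y
    rw [Equiv.Perm.inv_eq_iff_eq, hσ]
    simp [sub_eq_add_neg]

lemma mem_W {A : Subgroup (Equiv.Perm Y)} {σ : Equiv.Perm (ZMod p × Y)} :
    σ ∈ W p A ↔ ∃ c : ZMod p, ∃ φ : ZMod p → Equiv.Perm Y,
      (∀ j, φ j ∈ A) ∧ ∀ j y, σ (j, y) = (j + c, φ j y) := Iff.rfl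

/-- the shift `(j, y) ↦ (j + 1, y)` -/
def shift (Y : Type*) : Equiv.Perm (ZMod p × Y) :=
  Equiv.prodCongr (Equiv.addRight (1 : ZMod p)) (Equiv.refl Y)

@[simp] lemma shift_apply (j : ZMod p) (y : Y) : shift p Y (j, y) = (j + 1, y) := rfl

lemma shift_mem (A : Subgroup (Equiv.Perm Y)) : shift p Y ∈ W p A :=
  ⟨1, fun _ => 1, fun _ => A.one_mem, fun j y => by simp⟩

lemma shift_inv_apply (j : ZMod p) (y : Y) : (shift p Y)⁻¹ (j, y) = (j - 1, y) := by
  rw [Equiv.Perm.inv_eq_iff_eq, shift_apply]; simp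

/-- `a` acting on the block `{0} × Y` -/
noncomputable def at0 (a : Equiv.Perm Y) : Equiv.Perm (ZMod p × Y) :=
  Equiv.Perm.prodExtendRight (0 : ZMod p) a

lemma at0_apply_zero (a : Equiv.Perm Y) (y : Y) : at0 p a (0, y) = (0, a y) :=
  Equiv.Perm.prodExtendRight_apply_eq _ _ _

lemma at0_apply_ne (a : Equiv.Perm Y) (j : ZMod p) (hj : j ≠ 0) (y : Y) : at0 p a (j, y) = (j, y) :=
  Equiv.Perm.prodExtendRight_apply_ne _ hj _

lemma at0_inv (a : Equiv.Perm Y) : (at0 p a)⁻¹ = at0 p a⁻¹ := by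
  rw [inv_eq_iff_mul_eq_one]
  ext ⟨j, y⟩ : 1
  rw [Equiv.Perm.mul_apply, Equiv.Perm.one_apply]
  by_cases hj : j = 0
  · subst hj
    rw [at0_apply_zero, at0_apply_zero]; simp
  · rw [at0_apply_ne p _ j hj, at0_apply_ne p _ j hj]

lemma at0_mem {A : Subgroup (Equiv.Perm Y)} {a : Equiv.Perm Y} (ha : a ∈ A) : at0 p a ∈ W p A := by
  classical
  refine ⟨0, fun j => if j = 0 then a else 1, fun j => ?_, fun j y => ?_⟩
  · by_cases hj : j = 0
    · simp [hj, ha]
    · simp [hj, A.one_mem]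
  · by_cases hj : j = 0
    · subst hj; simp [at0_apply_zero]
    · simp [hj, at0_apply_ne p a j hj]

/-- the relation between a permutation of `ZMod p × Y` preserving first coordinates and its action
on the block `{0} × Y`, as a subgroup of the product -/
def Rsub (Y : Type*) : Subgroup (Equiv.Perm (ZMod p × Y) × Equiv.Perm Y) where
  carrier := {q | (∀ j y, (q.1 (j, y)).1 = j) ∧ ∀ y, q.1 (0, y) = (0, q.2 y)}
  one_mem' := ⟨fun j y => rfl, fun y => rfl⟩
  mul_mem' := by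
    rintro ⟨σ, a⟩ ⟨τ, b⟩ ⟨h1, h2⟩ ⟨h3, h4⟩
    refine ⟨fun j y => ?_, fun y => ?_⟩
    · change (σ (τ (j, y))).1 = j
      have : τ (j, y) = ((τ (j, y)).1, (τ (j, y)).2) := rfl
      rw [this, h1, h3]
    · change σ (τ (0, y)) = (0, a (b y))
      rw [h4, h2]
  inv_mem' := by
    rintro ⟨σ, a⟩ ⟨h1, h2⟩
    refine ⟨fun j y => ?_, fun y => ?_⟩
    · change (σ⁻¹ (j, y)).1 = j
      have h3 : σ (σ⁻¹ (j, y)) = (j, y) := by simp
      have h4 : σ⁻¹ (j, y) = ((σ⁻¹ (j, y)).1, (σ⁻¹ (j, y)).2) := rfl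
      rw [h4] at h3
      have h5 := h1 (σ⁻¹ (j, y)).1 (σ⁻¹ (j, y)).2
      rw [h3] at h5
      exact h5.symm
    · change σ⁻¹ (0, y) = (0, a⁻¹ y)
      rw [Equiv.Perm.inv_eq_iff_eq, h2]; simp

lemma mem_Rsub {q : Equiv.Perm (ZMod p × Y) × Equiv.Perm Y} :
    q ∈ Rsub p Y ↔ (∀ j y, (q.1 (j, y)).1 = j) ∧ ∀ y, q.1 (0, y) = (0, q.2 y) := Iff.rfl

lemma zero_ne_one_zmod : (0 : ZMod p) ≠ 1 := by
  have : Fact (1 < p) := ⟨(Fact.out : p.Prime).one_lt⟩
  exact zero_ne_one

lemma comm_mem_Rsub (a : Equiv.Perm Y) : (⁅at0 p a, shift p Y⁆, a) ∈ Rsub p Y := by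
  have h01 := zero_ne_one_zmod p
  refine ⟨fun j y => ?_, fun y => ?_⟩
  · change ((at0 p a * shift p Y * (at0 p a)⁻¹ * (shift p Y)⁻¹) (j, y)).1 = j
    simp only [Equiv.Perm.mul_apply, shift_inv_apply, at0_inv]
    by_cases hj : j - 1 = 0
    · rw [hj, at0_apply_zero, shift_apply]
      have : (0 : ZMod p) + 1 ≠ 0 := by rw [zero_add]; exact h01.symm
      rw [at0_apply_ne p a _ this]
      rw [← hj]; simp
    · rw [at0_apply_ne p _ _ hj, shift_apply]
      by_cases hj2 : j - 1 + 1 = 0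
      · rw [hj2, at0_apply_zero]; rw [← hj2]; simp
      · rw [at0_apply_ne p _ _ hj2]; simp
  · change (at0 p a * shift p Y * (at0 p a)⁻¹ * (shift p Y)⁻¹) (0, y) = (0, a y)
    simp only [Equiv.Perm.mul_apply, shift_inv_apply, at0_inv]
    have h1 : (0 : ZMod p) - 1 ≠ 0 := by
      intro h; apply h01; rw [sub_eq_zero] at h; exact h
    rw [at0_apply_ne p _ _ h1, shift_apply]
    have h2 : (0 : ZMod p) - 1 + 1 = 0 := by ring
    rw [h2, at0_apply_zero]

/-- projection of a subgroup through `Rsub` -/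
def proj (T : Subgroup (Equiv.Perm (ZMod p × Y))) : Subgroup (Equiv.Perm Y) :=
  ((T.prod ⊤) ⊓ Rsub p Y).map (MonoidHom.snd _ _)

lemma mem_proj {T : Subgroup (Equiv.Perm (ZMod p × Y))} {a : Equiv.Perm Y} :
    a ∈ proj p T ↔ ∃ σ ∈ T, (σ, a) ∈ Rsub p Y := by
  unfold proj
  rw [Subgroup.mem_map]
  constructor
  · rintro ⟨⟨σ, b⟩, ⟨⟨hσ, -⟩, hR⟩, rfl⟩
    exact ⟨σ, hσ, hR⟩
  · rintro ⟨σ, hσ, hR⟩
    exact ⟨(σ, a), ⟨⟨hσ, Subgroup.mem_top _⟩, hR⟩, rfl⟩

lemma commutator_proj_le (T : Subgroup (Equiv.Perm (ZMod p × Y))) :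
    ⁅proj p T, proj p T⁆ ≤ proj p ⁅T, T⁆ := by
  rw [Subgroup.commutator_le]
  intro a ha b hb
  obtain ⟨σ, hσ, hσa⟩ := (mem_proj p).1 ha
  obtain ⟨τ, hτ, hτb⟩ := (mem_proj p).1 hb
  refine (mem_proj p).2 ⟨⁅σ, τ⁆, Subgroup.commutator_mem_commutator hσ hτ, ?_⟩
  have : ((⁅σ, τ⁆, ⁅a, b⁆) : Equiv.Perm (ZMod p × Y) × Equiv.Perm Y) = ⁅(σ, a), (τ, b)⁆ := rfl
  rw [this]
  exact (Rsub p Y).mul_mem ((Rsub p Y).mul_mem ((Rsub p Y).mul_mem hσa hτb)
    ((Rsub p Y).inv_mem hσa)) ((Rsub p Y).inv_mem hτb)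

lemma dsIn_le_proj (A : Subgroup (Equiv.Perm Y)) (k : ℕ) :
    dsIn A k ≤ proj p (dsIn (W p A) (k + 1)) := by
  induction k with
  | zero =>
    intro a ha
    rw [dsIn_zero] at ha
    refine (mem_proj p).2 ⟨⁅at0 p a, shift p Y⁆, ?_, comm_mem_Rsub p a⟩
    rw [dsIn_succ, dsIn_zero]
    exact Subgroup.commutator_mem_commutator (at0_mem p ha) (shift_mem p A)
  | succ k ih =>
    rw [dsIn_succ, dsIn_succ (W p A) (k + 1)]
    exact le_trans (Subgroup.commutator_mono ih ih) (commutator_proj_le p _)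

lemma dsIn_W_ne_bot (A : Subgroup (Equiv.Perm Y)) (k : ℕ) (h : dsIn A k ≠ ⊥) :
    dsIn (W p A) (k + 1) ≠ ⊥ := by
  intro hbot
  apply h
  rw [eq_bot_iff]
  intro a ha
  obtain ⟨σ, hσ, hR⟩ := (mem_proj p).1 (dsIn_le_proj p A k ha)
  rw [hbot, Subgroup.mem_bot] at hσ
  subst hσ
  rw [Subgroup.mem_bot]
  ext y
  have := hR.2 y
  simp only [Equiv.Perm.coe_one, id_eq, Prod.mk.injEq, true_and] at this
  rw [Equiv.Perm.one_apply]
  exact this.symm

lemma W_ne_bot [Nonempty Y] (A : Subgroup (Equiv.Perm Y)) : W p A ≠ ⊥ := by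
  intro hbot
  have h1 := shift_mem p A
  rw [hbot, Subgroup.mem_bot] at h1
  obtain ⟨y⟩ := (inferInstance : Nonempty Y)
  have h2 := shift_apply p (0 : ZMod p) y
  rw [h1, Equiv.Perm.one_apply, zero_add] at h2
  exact zero_ne_one_zmod p (Prod.ext_iff.1 h2).1

lemma fst_pow {σ : Equiv.Perm (ZMod p × Y)} {c : ZMod p} (h : ∀ j y, (σ (j, y)).1 = j + c)
    (r : ℕ) (j : ZMod p) (y : Y) : ((σ ^ r) (j, y)).1 = j + r • c := by
  induction r generalizing j y with
  | zero => simp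
  | succ r ih =>
    rw [pow_succ, Equiv.Perm.mul_apply]
    have : σ (j, y) = ((σ (j, y)).1, (σ (j, y)).2) := rfl
    rw [this, ih, h, succ_nsmul]
    ring

lemma isPGroup_W [Finite Y] (A : Subgroup (Equiv.Perm Y)) (hA : IsPGroup p A) :
    IsPGroup p (W p A) := by
  obtain ⟨e, he⟩ := IsPGroup.iff_card.1 hA
  rintro ⟨σ, hσ⟩
  refine ⟨e + 1, ?_⟩
  apply Subtype.ext
  rw [Subgroup.coe_pow, Subgroup.coe_one]
  have hτ : σ ^ p ∈ W p A := (W p A).pow_mem hσ p
  obtain ⟨c, φ, hφ, hσ'⟩ := hσ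
  obtain ⟨c', ψ, hψ, hτ'⟩ := hτ
  rw [pow_succ', pow_mul]
  ext ⟨j, y⟩ : 1
  have hc' : c' = 0 := by
    have h1 := fst_pow p (σ := σ) (c := c) (fun j y => by rw [hσ']) p j y
    rw [hτ'] at h1
    simp only [nsmul_eq_mul, ZMod.natCast_self, zero_mul, add_zero] at h1
    have h2 : j + c' = j + 0 := by rw [add_zero]; exact h1
    exact add_left_cancel h2
  subst hc'
  have hpow : ∀ m : ℕ, ∀ j y, ((σ ^ p) ^ m) (j, y) = (j, (ψ j ^ m) y) := by
    intro m
    induction m with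
    | zero => intro j y; simp
    | succ m ih =>
      intro j y
      rw [pow_succ, Equiv.Perm.mul_apply, hτ', add_zero, ih, pow_succ, Equiv.Perm.mul_apply]
  rw [hpow]
  have h3 : (⟨ψ j, hψ j⟩ : A) ^ Nat.card A = 1 := pow_card_eq_one'
  have h4 : ψ j ^ p ^ e = 1 := by
    rw [he] at h3
    have := congrArg Subtype.val h3
    simpa using this
  rw [h4]
  rfl

/-- A `p`-subgroup of `Perm Y`, `|Y| = p ^ L`, of derived length at least `L`. -/
theorem exists_pgroup_perm (L : ℕ) : ∃ (Y : Type) (_ : Finite Y) (A : Subgroup (Equiv.Perm Y)),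
    Nat.card Y = p ^ L ∧ IsPGroup p A ∧ (1 ≤ L → dsIn A (L - 1) ≠ ⊥) := by
  have hp := (Fact.out : p.Prime)
  have : NeZero p := ⟨hp.ne_zero⟩
  induction L with
  | zero => exact ⟨Unit, inferInstance, ⊥, by simp, IsPGroup.of_bot, by omega⟩
  | succ L ih =>
    obtain ⟨Y, hfin, A, hcard, hA, hds⟩ := ih
    have hne : Nonempty Y := by
      have : 0 < Nat.card Y := by rw [hcard]; exact pow_pos hp.pos L
      exact (Nat.card_pos_iff.1 this).1
    refine ⟨ZMod p × Y, inferInstance, W p A, ?_, isPGroup_W p A hA, ?_⟩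
    · rw [Nat.card_prod, Nat.card_zmod, hcard, pow_succ']
    · intro _
      rcases L with _ | L
      · exact W_ne_bot p A
      · exact dsIn_W_ne_bot p A L (hds (by omega))

end wreath

end Cfsg.Agent.Lib.Helper66.PD
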