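import Mathlib

set_option autoImplicit false
set_option linter.unusedSectionVars false

/-!
# Groups in which elements of equal order are conjugate (OC-groups)

Elementary tools towards: a finite solvable OC-group has order `1`, `2` or is `S₃`.
-/

namespace Cfsg.Agent.Lib.Helper66.OC

/-- all elements of the same order are conjugate -/
def IsOC (G : Type*) [Group G] : Prop := ∀ x y : G, orderOf x = orderOf y → IsConj x y

section Basic

variable {G : Type*} [Group G] [Finite G]

/-- a commutative OC-group has at most two elements -/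
theorem card_le_two_of_comm (h : IsOC G) (hc : ∀ a b : G, a * b = b * a) : Nat.card G ≤ 2 := by
  classical
  have heq : ∀ x y : G, orderOf x = orderOf y → x = y := by
    intro x y hxy
    obtain ⟨c, hc'⟩ := isConj_iff.mp (h x y hxy)
    rw [← hc', hc c x, mul_inv_cancel_right]
  have hinv : ∀ x : G, x⁻¹ = x := fun x => heq _ _ (orderOf_inv x)
  have h2 : ∀ x : G, x ≠ 1 → orderOf x = 2 := by
    intro x hx
    refine orderOf_eq_prime ?_ hx
    rw [pow_two]
    nth_rewrite 2 [← hinv x]
    exact mul_inv_cancel x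
  have huniq : ∀ x y : G, x ≠ 1 → y ≠ 1 → x = y := fun x y hx hy =>
    heq x y ((h2 x hx).trans (h2 y hy).symm)
  by_contra hlt
  have hlt' : 2 < Nat.card G := Nat.lt_of_not_le hlt
  have := Fintype.ofFinite G
  rw [Nat.card_eq_fintype_card, Fintype.two_lt_card_iff] at hlt'
  obtain ⟨a, b, c, hab, hac, hbc⟩ := hlt'
  by_cases ha : a = 1
  · have hb : b ≠ 1 := fun hb => hab (ha.trans hb.symm)
    have hc1 : c ≠ 1 := fun hc1 => hac (ha.trans hc1.symm)
    exact hbc (huniq b c hb hc1)
  · by_cases hb : b = 1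
    · have hc1 : c ≠ 1 := fun hc1 => hbc (hb.trans hc1.symm)
      exact hac (huniq a c ha hc1)
    · exact hab (huniq a b ha hb)

omit [Finite G] in
/-- class size = index of the centralizer -/
theorem index_centralizer_eq (x : G) :
    (Subgroup.centralizer {x}).index = Set.ncard {y : G | IsConj x y} := by
  have hmap : (Subgroup.centralizer {x}).map (ConjAct.toConjAct (G := G)).toMonoidHom
      = MulAction.stabilizer (ConjAct G) x := by
    ext g
    constructor
    · rintro ⟨k, hk, rfl⟩
      rw [MulAction.mem_stabilizer_iff]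
      show ConjAct.toConjAct k • x = x
      rw [ConjAct.toConjAct_smul]
      have hk' : k ∈ Subgroup.centralizer {x} := hk
      rw [Subgroup.mem_centralizer_singleton_iff] at hk'
      rw [hk', mul_inv_cancel_right]
    · intro hg
      refine ⟨ConjAct.ofConjAct g, ?_, ConjAct.toConjAct_ofConjAct g⟩
      rw [MulAction.mem_stabilizer_iff, ConjAct.smul_def] at hg
      show ConjAct.ofConjAct g ∈ Subgroup.centralizer {x}
      rw [Subgroup.mem_centralizer_singleton_iff]
      exact mul_inv_eq_iff_eq_mul.mp hg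
  have h1 := Subgroup.index_map_equiv (Subgroup.centralizer {x}) (ConjAct.toConjAct (G := G))
  rw [← h1]
  have h2 : (Subgroup.centralizer {x}).map (ConjAct.toConjAct (G := G))
      = MulAction.stabilizer (ConjAct G) x := hmap
  rw [h2, MulAction.index_stabilizer]
  congr 1
  ext y
  rw [ConjAct.mem_orbit_conjAct]
  exact ⟨IsConj.symm, IsConj.symm⟩

/-- `orderOf x * (class size of x) ≤ |G|` -/
theorem orderOf_mul_ncard_le (x : G) :
    orderOf x * Set.ncard {y : G | IsConj x y} ≤ Nat.card G := by
  rw [← index_centralizer_eq, ← Subgroup.card_mul_index (Subgroup.centralizer {x})]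
  refine Nat.mul_le_mul_right _ ?_
  have hle : Subgroup.zpowers x ≤ Subgroup.centralizer {x} := by
    rw [Subgroup.zpowers_le]
    rw [Subgroup.mem_centralizer_singleton_iff]
  rw [← Nat.card_zpowers]
  exact Nat.le_of_dvd Nat.card_pos (Subgroup.card_dvd_of_le hle)

end Basic

section Quot

variable {G : Type*} [Group G] [Finite G]

/-- `N` has exponent `p` and contains every element of order `p` -/
structure Good (N : Subgroup G) (p : ℕ) : Prop where
  prime : p.Prime
  exp : ∀ n ∈ N, n ^ p = 1
  all : ∀ g : G, orderOf g = p → g ∈ N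

variable {N : Subgroup G} [N.Normal] {p : ℕ}

omit [Finite G] in
theorem pow_orderOf_mk_mem (g : G) : g ^ orderOf (g : G ⧸ N) ∈ N := by
  rw [← QuotientGroup.eq_one_iff, QuotientGroup.mk_pow, pow_orderOf_eq_one]

omit [Finite G] in
theorem orderOf_mk_dvd (g : G) : orderOf (g : G ⧸ N) ∣ orderOf g := by
  apply orderOf_dvd_of_pow_eq_one
  rw [← QuotientGroup.mk_pow, pow_orderOf_eq_one, QuotientGroup.mk_one]

/-- if `p` divides the order of `gN` then `g` has order `p * o(gN)` -/
theorem orderOf_eq_mul_of_dvd (hN : Good N p) (g : G) (hd : p ∣ orderOf (g : G ⧸ N)) :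
    orderOf g = p * orderOf (g : G ⧸ N) := by
  have hp := hN.prime
  set m := orderOf (g : G ⧸ N) with hm
  have hmpos : 0 < m := orderOf_pos _
  have h1 : g ^ m ∈ N := pow_orderOf_mk_mem g
  have h2 : g ^ (m * p) = 1 := by rw [pow_mul]; exact hN.exp _ h1
  have h3 : orderOf g ∣ m * p := orderOf_dvd_of_pow_eq_one h2
  obtain ⟨d, hd'⟩ : m ∣ orderOf g := orderOf_mk_dvd g
  rw [hd'] at h3
  have h4 : d ∣ p := Nat.dvd_of_mul_dvd_mul_left hmpos h3
  rcases (Nat.dvd_prime hp).mp h4 with h5 | h5
  · exfalso
    rw [h5, mul_one] at hd'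
    obtain ⟨k, hk⟩ := hd
    have hkpos : 0 < k := by
      rcases Nat.eq_zero_or_pos k with h0 | h0
      · rw [h0, mul_zero] at hk; omega
      · exact h0
    have hkdvd : k ∣ orderOf g := by rw [hd', hk]; exact Dvd.intro_left p rfl
    have h6 : orderOf (g ^ k) = p := by
      rw [orderOf_pow_of_dvd hkpos.ne' hkdvd, hd', hk, Nat.mul_div_cancel _ hkpos]
    have h7 : g ^ k ∈ N := hN.all _ h6
    have h8 : (g : G ⧸ N) ^ k = 1 := by
      rw [← QuotientGroup.mk_pow]; exact (QuotientGroup.eq_one_iff _).mpr h7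
    have h9 : m ∣ k := orderOf_dvd_of_pow_eq_one h8
    have h10 : m ≤ k := Nat.le_of_dvd hkpos h9
    have h11 : 2 ≤ p := hp.two_le
    nlinarith
  · rw [hd', h5, mul_comm]

/-- if `p` does not divide the order of `X ∈ G/N` then `X` lifts to an element of the same order -/
theorem exists_lift_of_not_dvd (hN : Good N p) (X : G ⧸ N) (hd : ¬ p ∣ orderOf X) :
    ∃ g : G, (g : G ⧸ N) = X ∧ orderOf g = orderOf X := by
  have hp := hN.prime
  obtain ⟨g0, rfl⟩ := QuotientGroup.mk_surjective X
  set m := orderOf (g0 : G ⧸ N) with hm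
  have hmpos : 0 < m := orderOf_pos _
  rcases Nat.lt_or_ge 1 m with h1m | h1m
  · have hcop : Nat.Coprime p m := (Nat.Prime.coprime_iff_not_dvd hp).mpr hd
    obtain ⟨q, -, hq⟩ := Nat.exists_mul_mod_eq_one_of_coprime hcop h1m
    refine ⟨g0 ^ (p * q), ?_, ?_⟩
    · rw [QuotientGroup.mk_pow, ← pow_mod_orderOf, ← hm, hq, pow_one]
    · have h1 : g0 ^ m ∈ N := pow_orderOf_mk_mem g0
      have h2 : (g0 ^ (p * q)) ^ m = 1 := by
        rw [← pow_mul, mul_comm (p * q) m, ← mul_assoc, pow_mul, pow_mul, hN.exp _ h1, one_pow]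
      have h3 : orderOf (g0 ^ (p * q)) ∣ m := orderOf_dvd_of_pow_eq_one h2
      have h4 : orderOf ((g0 ^ (p * q) : G) : G ⧸ N) ∣ orderOf (g0 ^ (p * q)) := orderOf_mk_dvd _
      have h5 : ((g0 ^ (p * q) : G) : G ⧸ N) = (g0 : G ⧸ N) := by
        rw [QuotientGroup.mk_pow, ← pow_mod_orderOf, ← hm, hq, pow_one]
      rw [h5, ← hm] at h4
      exact Nat.dvd_antisymm h3 h4
  · have hm1 : m = 1 := by omega
    refine ⟨1, ?_, ?_⟩
    · rw [QuotientGroup.mk_one]
      exact (orderOf_eq_one_iff.mp hm1).symm
    · rw [orderOf_one, hm1]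

/-- the OC property passes to `G/N` -/
theorem isOC_quotient (h : IsOC G) (hN : Good N p) : IsOC (G ⧸ N) := by
  intro X Y hXY
  by_cases hd : p ∣ orderOf X
  · obtain ⟨x, rfl⟩ := QuotientGroup.mk_surjective X
    obtain ⟨y, rfl⟩ := QuotientGroup.mk_surjective Y
    have hx := orderOf_eq_mul_of_dvd hN x hd
    have hy := orderOf_eq_mul_of_dvd hN y (hXY ▸ hd)
    have hxy : orderOf x = orderOf y := by rw [hx, hy, hXY]
    exact (QuotientGroup.mk' N).map_isConj (h x y hxy)
  · obtain ⟨x, rfl, hx⟩ := exists_lift_of_not_dvd hN X hd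
    obtain ⟨y, rfl, hy⟩ := exists_lift_of_not_dvd hN Y (hXY ▸ hd)
    have hxy : orderOf x = orderOf y := by rw [hx, hy, hXY]
    exact (QuotientGroup.mk' N).map_isConj (h x y hxy)

end Quot

section Exists

open scoped commutatorElement

variable {G : Type*} [Group G] [Finite G]

/-- a nontrivial solvable OC-group has a nontrivial normal elementary abelian `p`-subgroup
containing all elements of order `p` -/
theorem exists_good [Group.IsSolvable G] [Nontrivial G] (h : IsOC G) :
    ∃ (p : ℕ) (N : Subgroup G), N.Normal ∧ Good N p ∧ N ≠ ⊥ ∧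
      (∀ a ∈ N, ∀ b ∈ N, a * b = b * a) := by
  classical
  have hsol : ∃ n, derivedSeries G n = ⊥ := (Group.isSolvable_def G).mp inferInstance
  set n0 := Nat.find hsol with hn0def
  have hn0 : derivedSeries G n0 = ⊥ := Nat.find_spec hsol
  have hn0pos : n0 ≠ 0 := by
    intro h0
    rw [h0, derivedSeries_zero] at hn0
    exact top_ne_bot hn0
  obtain ⟨k, hk⟩ := Nat.exists_eq_succ_of_ne_zero hn0pos
  set A := derivedSeries G k with hA
  have hAne : A ≠ ⊥ := Nat.find_min hsol (by omega : k < n0)
  have hAcomm : ⁅A, A⁆ = ⊥ := by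
    have := derivedSeries_succ G k
    rw [← hA] at this
    rw [← this, ← Nat.succ_eq_add_one, ← hk]
    exact hn0
  have hAn : A.Normal := derivedSeries_normal G k
  have hcomm : ∀ a ∈ A, ∀ b ∈ A, a * b = b * a := by
    intro a ha b hb
    have hle := Subgroup.commutator_eq_bot_iff_le_centralizer.mp hAcomm
    have := Subgroup.mem_centralizer_iff.mp (hle ha) b hb
    exact this.symm
  have hcard : Nat.card A ≠ 1 := fun h1 => hAne (Subgroup.card_eq_one.mp h1)
  obtain ⟨p, hp, hpd⟩ := Nat.exists_prime_and_dvd hcard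
  have : Fact p.Prime := ⟨hp⟩
  obtain ⟨x, hx⟩ := exists_prime_orderOf_dvd_card' (G := A) p hpd
  have hxG : orderOf (x : G) = p := by rw [Subgroup.orderOf_coe]; exact hx
  let N : Subgroup G :=
    { carrier := {g | g ∈ A ∧ g ^ p = 1}
      one_mem' := ⟨A.one_mem, one_pow p⟩
      mul_mem' := by
        rintro a b ⟨ha, hap⟩ ⟨hb, hbp⟩
        refine ⟨A.mul_mem ha hb, ?_⟩
        have hc : Commute a b := hcomm a ha b hb
        rw [hc.mul_pow, hap, hbp, one_mul]
      inv_mem' := by
        rintro a ⟨ha, hap⟩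
        exact ⟨A.inv_mem ha, by rw [inv_pow, hap, inv_one]⟩ }
  have hNmem : ∀ g, g ∈ N ↔ g ∈ A ∧ g ^ p = 1 := fun g => Iff.rfl
  have hNn : N.Normal := by
    constructor
    intro n hn g
    rw [hNmem] at hn ⊢
    exact ⟨hAn.conj_mem n hn.1 g, by rw [conj_pow, hn.2, mul_one, mul_inv_cancel]⟩
  have hxN : (x : G) ∈ N := by
    rw [hNmem]
    exact ⟨x.2, by rw [← hxG]; exact pow_orderOf_eq_one _⟩
  refine ⟨p, N, hNn, ⟨hp, fun n hn => ((hNmem n).mp hn).2, ?_⟩, ?_, ?_⟩
  · intro g hg
    obtain ⟨c, hc⟩ := isConj_iff.mp (h (x : G) g (hxG.trans hg.symm))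
    rw [← hc]
    exact hNn.conj_mem _ hxN c
  · intro hbot
    rw [hbot, Subgroup.mem_bot] at hxN
    rw [hxN, orderOf_one] at hxG
    exact hp.one_lt.ne hxG
  · intro a ha b hb
    exact hcomm a ((hNmem a).mp ha).1 b ((hNmem b).mp hb).1

/-- a noncommutative group of order six is the symmetric group of degree three -/
theorem equiv_perm_of_card_six (h6 : Nat.card G = 6) (hna : ¬ ∀ a b : G, a * b = b * a) :
    Nonempty (G ≃* Equiv.Perm (Fin 3)) := by
  classical
  have : Fact (Nat.Prime 2) := ⟨Nat.prime_two⟩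
  have : Fact (Nat.Prime 3) := ⟨Nat.prime_three⟩
  obtain ⟨t, ht⟩ := exists_prime_orderOf_dvd_card' (G := G) 2 (by rw [h6]; norm_num)
  set H := Subgroup.zpowers t with hH
  have hHcard : Nat.card H = 2 := by rw [Nat.card_zpowers, ht]
  have hidx : H.index = 3 := by
    have := Subgroup.card_mul_index H
    rw [hHcard, h6] at this
    omega
  let φ : G →* Equiv.Perm (G ⧸ H) := MulAction.toPermHom G (G ⧸ H)
  have hker : φ.ker = H.normalCore := (Subgroup.normalCore_eq_ker H).symm
  have hkerle : φ.ker ≤ H := by rw [hker]; exact Subgroup.normalCore_le H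
  have hkerbot : φ.ker = ⊥ := by
    by_contra hne
    have hc : Nat.card φ.ker ∣ 2 := by rw [← hHcard]; exact Subgroup.card_dvd_of_le hkerle
    have hc1 : Nat.card φ.ker ≠ 1 := fun h1 => hne (Subgroup.card_eq_one.mp h1)
    have hc2 : Nat.card φ.ker = 2 := by
      rcases (Nat.dvd_prime Nat.prime_two).mp hc with h | h
      · exact absurd h hc1
      · exact h
    have heq : φ.ker = H := by
      apply Subgroup.eq_of_le_of_card_ge hkerle
      rw [hc2, hHcard]
    -- H normal of order 2 → central
    have hHn : H.Normal := heq ▸ (inferInstance : φ.ker.Normal)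
    have hcen : H ≤ Subgroup.center G := by
      intro y hy
      rw [Subgroup.mem_center_iff]
      intro g
      -- g * y * g⁻¹ ∈ H, has same order as y
      have hyH : g * y * g⁻¹ ∈ H := hHn.conj_mem y hy g
      -- elements of H: 1 or t
      have hmem : ∀ z ∈ H, z = 1 ∨ z = t := by
        intro z hz
        obtain ⟨k, rfl⟩ := Subgroup.mem_zpowers_iff.mp hz
        have h2 : t ^ (2 : ℤ) = 1 := by
          have := pow_orderOf_eq_one t
          rw [ht] at this
          exact_mod_cast this
        rcases Int.emod_two_eq_zero_or_one k with hk | hk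
        · left
          have : k = 2 * (k / 2) := by omega
          rw [this, zpow_mul, h2, one_zpow]
        · right
          have : k = 2 * (k / 2) + 1 := by omega
          rw [this, zpow_add, zpow_mul, h2, one_zpow, one_mul, zpow_one]
      have htc : g * t = t * g := by
        have htH : g * t * g⁻¹ ∈ H := hHn.conj_mem t (Subgroup.mem_zpowers t) g
        rcases hmem _ htH with h1 | h1
        · exfalso
          have h2 : t = 1 := by
            have := congrArg (fun z => g⁻¹ * z * g) h1
            simpa [mul_assoc] using this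
          rw [h2, orderOf_one] at ht
          omega
        · have := congrArg (fun z => z * g) h1
          simpa [mul_assoc] using this
      rcases hmem y hy with hy1 | hy1
      · rw [hy1, mul_one, one_mul]
      · rw [hy1]; exact htc
    have hcyc : IsCyclic (G ⧸ H) := by
      apply isCyclic_of_prime_card (p := 3)
      rw [← hidx]; rfl
    apply hna
    intro a b
    have hcm : IsMulCommutative G :=
      MonoidHom.isMulCommutative_of_isCyclic_of_ker_le_center (QuotientGroup.mk' H)
        (by rw [QuotientGroup.ker_mk']; exact hcen)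
    exact (IsMulCommutative.is_comm (M := G)).comm a b
  have hinj : Function.Injective φ := (MonoidHom.ker_eq_bot_iff φ).mp hkerbot
  have hcardQ : Nat.card (G ⧸ H) = 3 := hidx
  have hfin : Finite (G ⧸ H) := Nat.finite_of_card_ne_zero (by rw [hcardQ]; norm_num)
  have e1 : (G ⧸ H) ≃ Fin 3 := by
    have := Fintype.ofFinite (G ⧸ H)
    exact Fintype.equivFinOfCardEq (by rw [← Nat.card_eq_fintype_card]; exact hcardQ)
  let ψ : G →* Equiv.Perm (Fin 3) := (Equiv.permCongrHom e1).toMonoidHom.comp φ
  have hψinj : Function.Injective ψ := (Equiv.permCongrHom e1).injective.comp hinj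
  have hcard : Nat.card G = Nat.card (Equiv.Perm (Fin 3)) := by
    rw [h6, Nat.card_eq_fintype_card, Fintype.card_perm, Fintype.card_fin]
    rfl
  have hbij : Function.Bijective ψ :=
    (Nat.bijective_iff_injective_and_card ψ).mpr ⟨hψinj, hcard⟩
  exact ⟨MulEquiv.ofBijective ψ hbij⟩

end Exists

section Count

variable {G : Type*} [Group G] [Finite G] {N : Subgroup G} [N.Normal] {p : ℕ}

omit [Finite G] [N.Normal] in
theorem orderOf_of_mem (hN : Good N p) (v : G) (hv : v ∈ N) (hv1 : v ≠ 1) : orderOf v = p :=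
  haveI : Fact p.Prime := ⟨hN.prime⟩
  orderOf_eq_prime (hN.exp v hv) hv1

omit [Finite G] in
theorem ncard_class_eq (h : IsOC G) (hN : Good N p) (v : G) (hv : v ∈ N) (hv1 : v ≠ 1) :
    Set.ncard {y : G | IsConj v y} = Nat.card N - 1 := by
  have hset : {y : G | IsConj v y} = (N : Set G) \ {1} := by
    ext y
    constructor
    · intro hy
      obtain ⟨c, hc⟩ := isConj_iff.mp hy
      refine ⟨?_, ?_⟩
      · rw [← hc]
        exact (inferInstance : N.Normal).conj_mem v hv c
      · intro hy1
        have hy1' : y = 1 := hy1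
        rw [hy1'] at hc
        apply hv1
        have := congrArg (fun z => c⁻¹ * z * c) hc
        simpa [mul_assoc] using this
    · rintro ⟨hyN, hy1⟩
      have hy1' : y ≠ 1 := hy1
      exact h v y ((orderOf_of_mem hN v hv hv1).trans (orderOf_of_mem hN y hyN hy1').symm)
  rw [hset, Set.ncard_sdiff_singleton_of_mem (N.one_mem)]
  rfl

theorem index_centralizer_of_mem (h : IsOC G) (hN : Good N p) (v : G) (hv : v ∈ N) (hv1 : v ≠ 1) :
    (Subgroup.centralizer {v}).index = Nat.card N - 1 := by
  rw [index_centralizer_eq, ncard_class_eq h hN v hv hv1]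

omit [Finite G] [N.Normal] in
theorem le_centralizer_of_comm (hcomm : ∀ a ∈ N, ∀ b ∈ N, a * b = b * a) (v : G) (hv : v ∈ N) :
    N ≤ Subgroup.centralizer {v} := by
  intro n hn
  rw [Subgroup.mem_centralizer_singleton_iff]
  exact hcomm n hn v hv

theorem card_sub_one_dvd_index (h : IsOC G) (hN : Good N p)
    (hcomm : ∀ a ∈ N, ∀ b ∈ N, a * b = b * a) (hne : N ≠ ⊥) : (Nat.card N - 1) ∣ N.index := by
  obtain ⟨v, hv1⟩ := (Subgroup.ne_bot_iff_exists_ne_one).mp hne
  have hv : (v : G) ∈ N := v.2
  have hv1' : (v : G) ≠ 1 := fun h => hv1 (Subtype.ext h)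
  rw [← index_centralizer_of_mem h hN (v : G) hv hv1']
  exact Subgroup.index_dvd_of_le (le_centralizer_of_comm hcomm (v : G) hv)

omit [Finite G] [N.Normal] in
theorem ncard_preimage (t : Set (G ⧸ N)) :
    Set.ncard (QuotientGroup.mk ⁻¹' t : Set G) = Nat.card N * Set.ncard t := by
  rw [← Nat.card_coe_set_eq, Nat.card_congr (QuotientGroup.preimageMkEquivSubgroupProdSet N t),
    Nat.card_prod, Nat.card_coe_set_eq]

theorem false_of_many (h : IsOC G) (x : G) (T : Set G) (hT : ∀ y ∈ T, orderOf y = orderOf x)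
    (hlt : Nat.card G < orderOf x * T.ncard) : False := by
  have hsub : T ⊆ {y : G | IsConj x y} := fun y hy => h x y (hT y hy).symm
  have hle : T.ncard ≤ Set.ncard {y : G | IsConj x y} := Set.ncard_le_ncard hsub (Set.toFinite _)
  have := orderOf_mul_ncard_le x
  have h2 : orderOf x * T.ncard ≤ orderOf x * Set.ncard {y : G | IsConj x y} :=
    Nat.mul_le_mul_left _ hle
  omega

omit [Finite G] [N.Normal] in
/-- facts about `S₃` -/
theorem s3_facts : (∃ a b : Equiv.Perm (Fin 3), orderOf a = 2 ∧ orderOf b = 2 ∧ a ≠ b) ∧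
    (∃ c : Equiv.Perm (Fin 3), orderOf c = 3) ∧
    (∃ a b : Equiv.Perm (Fin 3), a * b ≠ b * a) := by
  have : Fact (Nat.Prime 2) := ⟨Nat.prime_two⟩
  have : Fact (Nat.Prime 3) := ⟨Nat.prime_three⟩
  refine ⟨⟨Equiv.swap 0 1, Equiv.swap 0 2, orderOf_eq_prime (by decide) (by decide),
    orderOf_eq_prime (by decide) (by decide), by decide⟩,
    ⟨Equiv.swap 0 1 * Equiv.swap 1 2, orderOf_eq_prime (by decide) (by decide)⟩,
    ⟨Equiv.swap 0 1, Equiv.swap 0 2, by decide⟩⟩

/-- every lift of an element of order `p` of `G/N` has order `p²` -/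
theorem orderOf_lift_sq (hN : Good N p) (g : G) (hg : orderOf (g : G ⧸ N) = p) :
    orderOf g = p * p := by
  have := orderOf_eq_mul_of_dvd hN g (by rw [hg])
  rw [this, hg]

theorem not_quotient_S3 (h : IsOC G) (hN : Good N p)
    (hcomm : ∀ a ∈ N, ∀ b ∈ N, a * b = b * a) (hne : N ≠ ⊥)
    (e : G ⧸ N ≃* Equiv.Perm (Fin 3)) : False := by
  have hp := hN.prime
  have hidx : N.index = 6 := by
    show Nat.card (G ⧸ N) = 6
    rw [Nat.card_congr e.toEquiv, Nat.card_eq_fintype_card, Fintype.card_perm, Fintype.card_fin]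
    rfl
  have hcardG : Nat.card G = Nat.card N * 6 := by rw [← hidx, Subgroup.card_mul_index]
  have hNpos : 0 < Nat.card N := Nat.card_pos
  obtain ⟨⟨a, b, ha, hb, hab⟩, ⟨c, hc⟩, ⟨a', b', hab'⟩⟩ := s3_facts
  by_cases hp2 : p = 2
  · -- two cosets of elements of order 4
    subst hp2
    set X₁ : G ⧸ N := e.symm a with hX₁
    set X₂ : G ⧸ N := e.symm b with hX₂
    have hX₁o : orderOf X₁ = 2 := by rw [hX₁, MulEquiv.orderOf_eq]; exact ha
    have hX₂o : orderOf X₂ = 2 := by rw [hX₂, MulEquiv.orderOf_eq]; exact hb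
    have hX₁₂ : X₁ ≠ X₂ := fun h12 => hab (e.symm.injective h12)
    set T : Set G := QuotientGroup.mk ⁻¹' ({X₁, X₂} : Set (G ⧸ N)) with hT
    have hTord : ∀ y ∈ T, orderOf y = 4 := by
      intro y hy
      have hy' : (y : G ⧸ N) = X₁ ∨ (y : G ⧸ N) = X₂ := hy
      rcases hy' with h1 | h1
      · exact orderOf_lift_sq hN y (by rw [h1]; exact hX₁o)
      · exact orderOf_lift_sq hN y (by rw [h1]; exact hX₂o)
    obtain ⟨x, hx⟩ := QuotientGroup.mk_surjective X₁
    have hxT : x ∈ T := Or.inl hx
    have hxo : orderOf x = 4 := hTord x hxT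
    have hTcard : T.ncard = Nat.card N * 2 := by
      rw [hT, ncard_preimage, Set.ncard_pair hX₁₂]
    apply false_of_many h x T (fun y hy => (hTord y hy).trans hxo.symm)
    rw [hxo, hTcard, hcardG]
    omega
  by_cases hp3 : p = 3
  · subst hp3
    set X : G ⧸ N := e.symm c with hX
    have hXo : orderOf X = 3 := by rw [hX, MulEquiv.orderOf_eq]; exact hc
    set T : Set G := QuotientGroup.mk ⁻¹' ({X} : Set (G ⧸ N)) with hT
    have hTord : ∀ y ∈ T, orderOf y = 9 := by
      intro y hy
      have hy' : (y : G ⧸ N) = X := hy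
      exact orderOf_lift_sq hN y (by rw [hy']; exact hXo)
    obtain ⟨x, hx⟩ := QuotientGroup.mk_surjective X
    have hxT : x ∈ T := hx
    have hxo : orderOf x = 9 := hTord x hxT
    have hTcard : T.ncard = Nat.card N * 1 := by
      rw [hT, ncard_preimage, Set.ncard_singleton]
    apply false_of_many h x T (fun y hy => (hTord y hy).trans hxo.symm)
    rw [hxo, hTcard, hcardG]
    omega
  · -- p ≥ 5 : |N| = 7
    obtain ⟨v, hv1⟩ := (Subgroup.ne_bot_iff_exists_ne_one).mp hne
    have hv : (v : G) ∈ N := v.2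
    have hv1' : (v : G) ≠ 1 := fun h => hv1 (Subtype.ext h)
    have hvo : orderOf (v : G) = p := orderOf_of_mem hN _ hv hv1'
    have hpdvd : p ∣ Nat.card N := by
      rw [← hvo, Subgroup.orderOf_coe]
      exact orderOf_dvd_natCard v
    have hdvd := card_sub_one_dvd_index h hN hcomm hne
    rw [hidx] at hdvd
    have hle : Nat.card N - 1 ≤ 6 := Nat.le_of_dvd (by norm_num) hdvd
    have hp5 : 5 ≤ p := by
      have := hp.two_le
      by_contra hlt
      have : p = 4 := by omega
      rw [this] at hp
      exact absurd hp (by decide)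
    have hpN : p ≤ Nat.card N := Nat.le_of_dvd hNpos hpdvd
    have hN7 : Nat.card N = 7 := by
      have h7 : Nat.card N ≤ 7 := by omega
      have h5 : 5 ≤ Nat.card N := le_trans hp5 hpN
      interval_cases hc7 : Nat.card N
      · exfalso; revert hdvd; decide
      · exfalso; revert hdvd; decide
      · rfl
    have hp7 : p = 7 := by
      rw [hN7] at hpdvd
      exact ((Nat.prime_dvd_prime_iff_eq hp (by decide)).mp hpdvd)
    -- centralizer of v is N
    have hcen : Subgroup.centralizer {(v : G)} = N := by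
      have hle' := le_centralizer_of_comm hcomm (v : G) hv
      have hi := index_centralizer_of_mem h hN (v : G) hv hv1'
      rw [hN7] at hi
      have hrel := Subgroup.relIndex_mul_index hle'
      rw [hi, hidx] at hrel
      have hrel1 : N.relIndex (Subgroup.centralizer {(v : G)}) = 1 := by omega
      exact le_antisymm (Subgroup.relIndex_eq_one.mp hrel1) hle'
    have : Fact (Nat.Prime 7) := ⟨by decide⟩
    have hcyc : IsCyclic N := isCyclic_of_prime_card (p := 7) hN7
    -- MulAut N is commutative
    have hautcomm : ∀ α β : MulAut N, α * β = β * α := by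
      intro α β
      apply (IsCyclic.mulAutMulEquiv N).injective
      rw [map_mul, map_mul, mul_comm]
    have hquot : ∀ X Y : G ⧸ N, X * Y = Y * X := by
      intro X Y
      obtain ⟨g, rfl⟩ := QuotientGroup.mk_surjective X
      obtain ⟨k, rfl⟩ := QuotientGroup.mk_surjective Y
      rw [← QuotientGroup.mk_mul, ← QuotientGroup.mk_mul, QuotientGroup.eq]
      -- (g*k)⁻¹ * (k*g) ∈ N
      rw [← hcen, Subgroup.mem_centralizer_singleton_iff]
      have h1 := hautcomm (MulAut.conjNormal (H := N) g) (MulAut.conjNormal (H := N) k)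
      rw [← map_mul, ← map_mul] at h1
      have h2 := congrArg (fun α : MulAut N => ((α v : N) : G)) h1
      simp only [MulAut.conjNormal_apply] at h2
      -- h2 : g*k*v*(g*k)⁻¹ = k*g*v*(k*g)⁻¹
      have h3 : (g * k)⁻¹ * (k * g) * v = v * ((g * k)⁻¹ * (k * g)) := by
        have h4 : (g * k)⁻¹ * (k * g * ↑v * (k * g)⁻¹) * (k * g) = (g * k)⁻¹ * (g * k * ↑v * (g * k)⁻¹) * (k * g) := by
          rw [h2]
        calc (g * k)⁻¹ * (k * g) * v = (g * k)⁻¹ * (k * g * ↑v * (k * g)⁻¹) * (k * g) := by group
          _ = (g * k)⁻¹ * (g * k * ↑v * (g * k)⁻¹) * (k * g) := h4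
          _ = v * ((g * k)⁻¹ * (k * g)) := by group
      exact h3
    apply hab'
    have := hquot (e.symm a') (e.symm b')
    rw [← map_mul, ← map_mul] at this
    exact e.symm.injective this

end Count

section Main

universe u

/-- a finite solvable OC-group has order `1`, `2` or is `S₃` (induction form) -/
theorem main_aux : ∀ (n : ℕ) (G : Type u) [Group G] [Finite G] [Group.IsSolvable G],
    Nat.card G = n → IsOC G →
    Nat.card G = 1 ∨ Nat.card G = 2 ∨ Nonempty (G ≃* Equiv.Perm (Fin 3)) := by
  intro n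
  induction n using Nat.strong_induction_on with
  | _ n ih =>
    intro G _ _ _ hn h
    by_cases hnt : Nontrivial G
    · obtain ⟨p, N, hNn, hN, hne, hcomm⟩ := exists_good h
      have hp := hN.prime
      have hNcard : 2 ≤ Nat.card N := by
        have h1 : Nat.card N ≠ 1 := fun h1 => hne (Subgroup.card_eq_one.mp h1)
        have h0 : 0 < Nat.card N := Nat.card_pos
        omega
      have hmul : Nat.card N * N.index = Nat.card G := Subgroup.card_mul_index N
      have hidxpos : 0 < N.index := Nat.pos_of_ne_zero Subgroup.index_ne_zero_of_finite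
      have hlt : Nat.card (G ⧸ N) < n := by
        show N.index < n
        rw [← hn, ← hmul]
        nlinarith
      have hQ := ih (Nat.card (G ⧸ N)) hlt (G ⧸ N) rfl (isOC_quotient h hN)
      have hGcard2 : 2 ≤ Nat.card G := by
        rw [← hmul]; nlinarith
      rcases hQ with h1 | h2 | ⟨⟨e⟩⟩
      · -- G = N commutative
        have hidx : N.index = 1 := h1
        have htop : N = ⊤ := Subgroup.index_eq_one.mp hidx
        have hcG : ∀ a b : G, a * b = b * a := fun a b =>
          hcomm a (htop ▸ Subgroup.mem_top a) b (htop ▸ Subgroup.mem_top b)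
        have := card_le_two_of_comm h hcG
        right; left; omega
      · have hidx : N.index = 2 := h2
        have hdvd := card_sub_one_dvd_index h hN hcomm hne
        rw [hidx] at hdvd
        have hle : Nat.card N - 1 ≤ 2 := Nat.le_of_dvd (by norm_num) hdvd
        have hnc : ¬ ∀ a b : G, a * b = b * a := by
          intro hcG
          have := card_le_two_of_comm h hcG
          rw [← hmul, hidx] at this
          omega
        have hN23 : Nat.card N = 2 ∨ Nat.card N = 3 := by omega
        rcases hN23 with hN2 | hN3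
        · exfalso
          apply hnc
          have : Fact (Nat.Prime 2) := ⟨Nat.prime_two⟩
          have hcm : IsMulCommutative G :=
            IsPGroup.isMulCommutative_of_card_eq_prime_sq (p := 2) (by rw [← hmul, hidx, hN2]; norm_num)
          intro a b
          exact (IsMulCommutative.is_comm (M := G)).comm a b
        · right; right
          exact equiv_perm_of_card_six (by rw [← hmul, hidx, hN3]) hnc
      · exact (not_quotient_S3 h hN hcomm hne e).elim
    · left
      rw [not_nontrivial_iff_subsingleton] at hnt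
      exact Nat.card_unique

/-- a finite solvable OC-group has order `1`, `2` or is `S₃` -/
theorem solvable_isOC {G : Type u} [Group G] [Finite G] [Group.IsSolvable G] (h : IsOC G) :
    Nat.card G = 1 ∨ Nat.card G = 2 ∨ Nonempty (G ≃* Equiv.Perm (Fin 3)) :=
  main_aux (Nat.card G) G rfl h

end Main

end Cfsg.Agent.Lib.Helper66.OC
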