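import Mathlib

/-!
# Definitions for the S4305 hive (tag `S3`)

`S₃ = Equiv.Perm (Fin 3)` acting fixed-point-freely on a finite solvable group of order prime to 6:
the derived subgroup is nilpotent (Shult 1966).  Owner: helper66.  Paper proof and skeleton:
`tools/helper66/S3Proof.md`, `tools/helper66/S3Skel.lean.txt`.
-/

set_option autoImplicit false

namespace Cfsg.Agent.Lib.Helper66.S3

universe u

/-- The acting group `S₃`. -/
abbrev A3 : Type := Equiv.Perm (Fin 3)

/-- The 3-cycle `σ`. -/
def sig : A3 := finRotate 3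

/-- The transposition `τ = τ₁`. -/
def tau : A3 := Equiv.swap (0 : Fin 3) 1

section abstract

variable (H V : Type u) [Group H] [CommGroup V]
  [MulDistribMulAction A3 H] [MulDistribMulAction A3 V] [MulDistribMulAction H V]

/-- Hypotheses of the key proposition: `A3` acts on `H` and on the commutative group `V`, `H` acts on
`V`, compatibly; everything finite of order prime to 6, `H` solvable, `A3` fixed-point-free on both,
and `V` has no proper nontrivial subgroup invariant under both `H` and `A3`. -/
structure KPHyp : Prop where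
  finH : Finite H
  finV : Finite V
  solv : Group.IsSolvable H
  compat : ∀ (a : A3) (h : H) (v : V), a • (h • v) = (a • h) • (a • v)
  copH : (Nat.card H).Coprime 6
  copV : (Nat.card V).Coprime 6
  fpfH : ∀ h : H, (∀ a : A3, a • h = h) → h = 1
  fpfV : ∀ v : V, (∀ a : A3, a • v = v) → v = 1
  irr : ∀ U : Subgroup V, (∀ h : H, ∀ u ∈ U, h • u ∈ U) → (∀ a : A3, ∀ u ∈ U, a • u ∈ U) →
    U = ⊥ ∨ U = ⊤

/-- Conclusion of the key proposition: the derived subgroup of `H` acts trivially on `V`. -/
def KPConcl : Prop := ∀ h ∈ commutator H, ∀ v : V, h • v = v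

/-- `H` acts faithfully on `V`. -/
def Faithful : Prop := ∀ h : H, (∀ v : V, h • v = v) → h = 1

variable {H V}

/-- `U` is a minimal nontrivial `F`-invariant subgroup of `V`. -/
def IsMinInv (F : Subgroup H) (U : Subgroup V) : Prop :=
  U ≠ ⊥ ∧ (∀ f ∈ F, ∀ u ∈ U, f • u ∈ U) ∧
    ∀ W : Subgroup V, W ≤ U → (∀ f ∈ F, ∀ w ∈ W, f • w ∈ W) → W = ⊥ ∨ W = U

/-- The kernel of `F` on the subgroup `U` of `V`, as a subgroup of `H`. -/
def kerOn (F : Subgroup H) (U : Subgroup V) : Subgroup H where
  carrier := {f | f ∈ F ∧ ∀ u ∈ U, f • u = u}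
  one_mem' := ⟨F.one_mem, fun u _ => one_smul H u⟩
  mul_mem' := by
    rintro x y ⟨hx, hx'⟩ ⟨hy, hy'⟩
    exact ⟨F.mul_mem hx hy, fun u hu => by rw [mul_smul, hy' u hu, hx' u hu]⟩
  inv_mem' := by
    rintro x ⟨hx, hx'⟩
    refine ⟨F.inv_mem hx, fun u hu => ?_⟩
    have := hx' u hu
    calc x⁻¹ • u = x⁻¹ • (x • u) := by rw [this]
      _ = u := by rw [← mul_smul, inv_mul_cancel, one_smul]

/-- The component of `V` attached to the subgroup `C` of `F`: generated by the minimal `F`-invariant
subgroups of `V` whose kernel in `F` is exactly `C`. -/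
def comp (F C : Subgroup H) : Subgroup V :=
  ⨆ (U : Subgroup V) (_ : IsMinInv F U ∧ kerOn F U = C), U

/-- Image of a subgroup of `H` under `a : A3`. -/
def mapA (a : A3) (C : Subgroup H) : Subgroup H :=
  C.map (MulDistribMulAction.toMonoidEnd A3 H a)

/-- Image of a subgroup of `H` under conjugation by `h`. -/
def mapH (h : H) (C : Subgroup H) : Subgroup H :=
  C.map (MulAut.conj h).toMonoidHom

variable (H V)

/-- The configuration reached in a minimal counterexample (faithful case): `F` is an abelian normal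
`A3`-invariant `p'`-subgroup, `V` has exponent `p`, `H/F` is an elementary abelian `r`-group with no
proper nontrivial `A3`-invariant subgroup, and `H` is not abelian. -/
structure Config (p r : ℕ) (F : Subgroup H) : Prop where
  hyp : KPHyp H V
  faithful : Faithful H V
  pprime : p.Prime
  rprime : r.Prime
  Vexp : ∀ v : V, v ^ p = 1
  Fnormal : F.Normal
  FA : ∀ a : A3, ∀ f ∈ F, a • f ∈ F
  Fcomm : ∀ x ∈ F, ∀ y ∈ F, x * y = y * x
  Fcop : (Nat.card F).Coprime p
  Fne : F ≠ ⊤
  quot_comm : commutator H ≤ F
  quot_exp : ∀ h : H, h ^ r ∈ F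
  quot_irr : ∀ M : Subgroup H, F ≤ M → (∀ a : A3, ∀ m ∈ M, a • m ∈ M) → M = F ∨ M = ⊤
  nonab : ∃ x y : H, x * y ≠ y * x

end abstract

/-- Induction hypothesis for the key proposition: it holds for all strictly smaller acting groups
(in the same universe), with any module. -/
def IHyp (H : Type u) [Group H] : Prop :=
  ∀ (H' V' : Type u) [Group H'] [CommGroup V'] [MulDistribMulAction A3 H']
    [MulDistribMulAction A3 V'] [MulDistribMulAction H' V'],
    Nat.card H' < Nat.card H → KPHyp H' V' → KPConcl H' V'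

end Cfsg.Agent.Lib.Helper66.S3
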