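import Mathlib

/-!
# Tp hive (owner helper66) : definitions for S4017

`S4017`: `p ≠ q` primes dividing `|G|`, `p` odd, `p ∣ |H|` for every proper subgroup `H` of `G` with `q ∣ |H|`
that is not a `q`-group; `q^a = |G|_q`; if `p > q^a - 1`, or `p = q^a - 1` and the Sylow `p`-subgroups are abelian,
then `π(G) = {p, q}`.
-/

set_option autoImplicit false

namespace Cfsg.Agent.Lib.Helper66.Tp

universe u

/-- every proper subgroup of even order is a `{2,p}`-group -/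
def Star (p : ℕ) (G : Type*) [Group G] : Prop :=
  ∀ H : Subgroup G, H ≠ ⊤ → 2 ∣ Nat.card H → ∀ r : ℕ, r.Prime → r ∣ Nat.card H → r = 2 ∨ r = p

/-- the hypotheses of case B (`q = 2`), in the form that is inherited by subgroups and quotients -/
def Hyp (p : ℕ) (G : Type u) [Group G] : Prop :=
  2 ∣ Nat.card G ∧ p ∣ Nat.card G ∧
  (∀ H : Subgroup G, H ≠ ⊤ → ¬ IsPGroup 2 H → 2 ∣ Nat.card H → p ∣ Nat.card H) ∧
  2 ^ (Nat.card G).factorization 2 - 1 ≤ p ∧ (∀ P : Sylow p G, IsMulCommutative P)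

/-- the conclusion of case B -/
def Concl (p : ℕ) (G : Type u) [Group G] : Prop :=
  ∀ r : ℕ, r.Prime → r ∣ Nat.card G → r = 2 ∨ r = p

/-- the induction hypothesis of case B -/
def IH (p : ℕ) (G : Type u) [Group G] : Prop :=
  ∀ (G' : Type u) [Group G'] [Finite G'], Nat.card G' < Nat.card G → Hyp p G' → Concl p G'

/-- a prime other than `2` and `p` divides `|G|` -/
def Bad (p : ℕ) (G : Type*) [Group G] : Prop :=
  ∃ r : ℕ, r.Prime ∧ r ∣ Nat.card G ∧ r ≠ 2 ∧ r ≠ p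

/-- the minimal counterexample of case B -/
structure Ctx (p : ℕ) (G : Type*) [Group G] [Finite G] : Prop where
  hp : p.Prime
  hp2 : p ≠ 2
  simple : IsSimpleGroup G
  star : Star p G
  two_part : 2 ^ (Nat.card G).factorization 2 = p + 1
  abel : ∀ P : Sylow p G, IsMulCommutative P
  pdvd : p ∣ Nat.card G
  bad : Bad p G

/-- the Sylow `2`-subgroup `Q` (elementary abelian of order `p + 1`) together with a `p`-element `x ∈ N(Q)`
transitive on `Q \ {1}` -/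
structure Setup (p : ℕ) (G : Type*) [Group G] [Finite G] where
  ctx : Ctx p G
  Q : Sylow 2 G
  x : G
  hxN : x ∈ Subgroup.normalizer ((Q : Subgroup G) : Set G)
  hxp : ∃ k : ℕ, orderOf x = p ^ k
  hexp : ∀ u ∈ (Q : Subgroup G), u * u = 1
  htrans : ∀ u ∈ (Q : Subgroup G), ∀ v ∈ (Q : Subgroup G), u ≠ 1 → v ≠ 1 →
    ∃ k : ℕ, x ^ k * u * (x ^ k)⁻¹ = v

/-- `Y_u` : the subgroup generated by the `p`-elements of `C_G(u)` -/
def Yof {G : Type*} [Group G] (p : ℕ) (u : G) : Subgroup G :=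
  Subgroup.closure {g : G | g ∈ Subgroup.centralizer ({u} : Set G) ∧ ∃ k : ℕ, orderOf g = p ^ k}

/-- case (I) : `Q` centralizes `Y_u` for every `u ∈ Q \ {1}` -/
def CaseI {p : ℕ} {G : Type*} [Group G] [Finite G] (s : Setup p G) : Prop :=
  ∀ u ∈ (s.Q : Subgroup G), u ≠ 1 → ∀ v ∈ (s.Q : Subgroup G), ∀ y ∈ Yof p u, v * y = y * v

/-- case (II) : `p = 3`, `|Q| = 4`, `R = Y_u` is a Sylow `3`-subgroup inverted by `Q \ ⟨u⟩`, `C(z) ≤ C(u)` for
`z ∈ R \ {1}` -/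
structure CaseII {p : ℕ} {G : Type*} [Group G] [Finite G] (s : Setup p G) (u : G) : Prop where
  p3 : p = 3
  ne_bot : Yof p u ≠ ⊥
  sylow : ∃ R : Sylow p G, (R : Subgroup G) = Yof p u
  inv : ∀ v ∈ (s.Q : Subgroup G), v ≠ 1 → v ≠ u → ∀ y ∈ Yof p u, v * y * v⁻¹ = y⁻¹
  cent : ∀ z ∈ Yof p u, z ≠ 1 →
    Subgroup.centralizer ({z} : Set G) ≤ Subgroup.centralizer ({u} : Set G)

/-- the conclusion of the abstract Brauer-Suzuki-Wall theorem `S3282` -/
def BSWConcl (G : Type*) [Group G] : Prop :=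
  ∃ Q D : Subgroup G, 2 * Nat.card G = Nat.card ↥Q * (Nat.card ↥Q + 1) * (Nat.card ↥Q - 1) ∧
      (∀ x ∈ Q, x ≠ 1 → Subgroup.centralizer ({x} : Set G) = Q) ∧
      IsMulCommutative ↥D ∧ 2 * Nat.card ↥D + 1 = Nat.card ↥Q ∧ Q ⊓ D = ⊥ ∧
      Subgroup.normalizer (Q : Set G) = Q ⊔ D ∧
      ∀ X : Subgroup G, X ≤ D → X ≠ ⊥ →
        Subgroup.normalizer (X : Set G) = Subgroup.normalizer (D : Set G) ∧
        ∃ u : G, orderOf u = 2 ∧ u ∉ D ∧ (∀ d ∈ D, u * d * u⁻¹ = d⁻¹) ∧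
          Subgroup.normalizer (D : Set G) = D ⊔ Subgroup.zpowers u

theorem Yof_le_centralizer {G : Type*} [Group G] (p : ℕ) (u : G) :
    Yof p u ≤ Subgroup.centralizer ({u} : Set G) :=
  (Subgroup.closure_le _).2 fun _ hg => hg.1

theorem mem_Yof {G : Type*} [Group G] {p : ℕ} {u g : G}
    (hg : g ∈ Subgroup.centralizer ({u} : Set G)) (hgp : ∃ k : ℕ, orderOf g = p ^ k) : g ∈ Yof p u :=
  Subgroup.subset_closure ⟨hg, hgp⟩

end Cfsg.Agent.Lib.Helper66.Tp
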