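import Mathlib

set_option autoImplicit false

/-! Statements (as `Prop`s) used in the proof of the Hall–Higman bound `l_p ≤ 2 e_p` (helper66). -/

namespace Cfsg.Agent.Lib.Helper66.HHPair

open scoped commutatorElement

universe u v w t

/-- **Pair statement** ("Claim C"): a finite `p`-group `T` acting on a finite `q`-group `Q`
(`q ≠ p`), both acting compatibly on a finite-dimensional space `V` over an algebraically closed
field of characteristic `p`.  If `x, y ∈ T` are both *exceptional* (`x^(p^n) = 1` but already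
`(ρ x - 1)^(p^n - 1) = 0`, same for `y` with `n'`), then the commutator of `x^(p^(n-1))` and
`y^(p^(n'-1))` commutes with the image of `Q`. -/
def PairStmt (p : ℕ) : Prop :=
  ∀ (K : Type v) [Field K] [IsAlgClosed K] [CharP K p]
    (q : ℕ) (_ : q.Prime) (_ : q ≠ p)
    (Q : Type w) [Group Q] [Finite Q] (_ : IsPGroup q Q)
    (V : Type u) [AddCommGroup V] [Module K V] [FiniteDimensional K V]
    (T : Type t) [Group T] [Finite T] (_ : IsPGroup p T)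
    (r : Q →* Module.End K V) (θ : T →* MulAut Q) (ρ : T →* Module.End K V)
    (_ : ∀ (g : T) (u : Q), ρ g * r u = r (θ g u) * ρ g)
    (x y : T) (n n' : ℕ) (_ : 1 ≤ n) (_ : 1 ≤ n')
    (_ : x ^ p ^ n = 1) (_ : (ρ x - 1) ^ (p ^ n - 1) = 0)
    (_ : y ^ p ^ n' = 1) (_ : (ρ y - 1) ^ (p ^ n' - 1) = 0) (u : Q),
    ρ ⁅x ^ p ^ (n - 1), y ^ p ^ (n' - 1)⁆ * r u = r u * ρ ⁅x ^ p ^ (n - 1), y ^ p ^ (n' - 1)⁆

/-- **Lemma M** (pure group action): a finite `p`-group `T = ⟨x, y⟩` (`p` odd) acting irreducibly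
on an elementary abelian `q`-group `U`, `q ≠ p`; `x^(p^n) = 1`, `y^(p^n') = 1`, and for
`a = x^(p^(n-1))`: `|U| ≤ |C_U(a)| (p^n - 1)^2` with equality only if `x` is trivial on `C_U(a)`;
same for `b = y^(p^(n'-1))`.  Then `a` and `b` commute on `U`. -/
def LemmaMStmt (p : ℕ) : Prop :=
  ∀ (q : ℕ) (_ : q.Prime) (_ : q ≠ p)
    (U : Type w) [Group U] [Finite U] (_ : ∀ a b : U, a * b = b * a) (_ : ∀ a : U, a ^ q = 1)
    (T : Type t) [Group T] [Finite T] (_ : IsPGroup p T) (θ : T →* MulAut U)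
    (_ : ∀ W : Subgroup U, (∀ (g : T), ∀ w ∈ W, θ g w ∈ W) → W = ⊥ ∨ W = ⊤)
    (x y : T) (_ : Subgroup.closure {x, y} = ⊤)
    (n n' : ℕ) (_ : 1 ≤ n) (_ : 1 ≤ n') (_ : x ^ p ^ n = 1) (_ : y ^ p ^ n' = 1)
    (_ : Nat.card U ≤ Nat.card {u : U // θ (x ^ p ^ (n - 1)) u = u} * (p ^ n - 1) ^ 2)
    (_ : Nat.card U = Nat.card {u : U // θ (x ^ p ^ (n - 1)) u = u} * (p ^ n - 1) ^ 2 →
        ∀ u : U, θ (x ^ p ^ (n - 1)) u = u → θ x u = u)
    (_ : Nat.card U ≤ Nat.card {u : U // θ (y ^ p ^ (n' - 1)) u = u} * (p ^ n' - 1) ^ 2)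
    (_ : Nat.card U = Nat.card {u : U // θ (y ^ p ^ (n' - 1)) u = u} * (p ^ n' - 1) ^ 2 →
        ∀ u : U, θ (y ^ p ^ (n' - 1)) u = u → θ y u = u),
    θ (x ^ p ^ (n - 1)) * θ (y ^ p ^ (n' - 1)) = θ (y ^ p ^ (n' - 1)) * θ (x ^ p ^ (n - 1))

end Cfsg.Agent.Lib.Helper66.HHPair
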