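import Mathlib

set_option autoImplicit false

namespace Cfsg.Agent.Lib.Helper66

open MulAction

/-- Weighted orbit counting: if `w` is invariant and `d` divides `|orbit y| * w y` for every `y` in the
invariant finite set `Y`, then `d` divides the sum of `w` over `Y`. -/
theorem dvd_sum_of_invariant {G Z : Type*} [Group G] [MulAction G Z] [DecidableEq Z]
    (d : ℕ) (w : Z → ℕ) (hw : ∀ (g : G) (z : Z), w (g • z) = w z) :
    ∀ (Y : Finset Z), (∀ g : G, ∀ y ∈ Y, g • y ∈ Y) →
      (∀ y ∈ Y, d ∣ (MulAction.orbit G y).ncard * w y) → d ∣ ∑ y ∈ Y, w y := by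
  intro Y
  induction' hn : Y.card using Nat.strong_induction_on with n ih generalizing Y
  intro hinv h
  rcases Y.eq_empty_or_nonempty with rfl | ⟨y, hy⟩
  · simp
  · have hOsub : MulAction.orbit G y ⊆ (Y : Set Z) := by
      rintro _ ⟨g, rfl⟩
      exact hinv g y hy
    have hOfin : (MulAction.orbit G y).Finite := Y.finite_toSet.subset hOsub
    let O : Finset Z := hOfin.toFinset
    have hO : ∀ z, z ∈ O ↔ z ∈ MulAction.orbit G y := fun z => hOfin.mem_toFinset
    have hOY : O ⊆ Y := fun z hz => hOsub ((hO z).mp hz)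
    have hOcard : O.card = (MulAction.orbit G y).ncard := (Set.ncard_eq_toFinset_card _ hOfin).symm
    have hyO : y ∈ O := (hO y).mpr (MulAction.mem_orbit_self y)
    let Y' := Y \ O
    have hY'card : Y'.card + O.card = Y.card := Finset.card_sdiff_add_card_eq_card hOY
    have hOpos : 0 < O.card := Finset.card_pos.mpr ⟨y, hyO⟩
    have hlt : Y'.card < n := by omega
    have hinv' : ∀ g : G, ∀ z ∈ Y', g • z ∈ Y' := by
      intro g z hz
      rw [Finset.mem_sdiff] at hz ⊢
      refine ⟨hinv g z hz.1, ?_⟩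
      intro hgz
      apply hz.2
      rw [hO] at hgz ⊢
      have : z = g⁻¹ • (g • z) := by simp
      rw [this]
      exact MulAction.mem_orbit_of_mem_orbit g⁻¹ hgz
    have h' : ∀ z ∈ Y', d ∣ (MulAction.orbit G z).ncard * w z :=
      fun z hz => h z (Finset.mem_sdiff.mp hz).1
    have h1 := ih Y'.card hlt Y' rfl hinv' h'
    have hsumO : ∑ z ∈ O, w z = O.card * w y := by
      rw [Finset.sum_congr rfl (g := fun _ => w y), Finset.sum_const, smul_eq_mul]
      intro z hz
      obtain ⟨g, rfl⟩ := (hO z).mp hz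
      exact hw g y
    have h2 : d ∣ ∑ z ∈ O, w z := by rw [hsumO, hOcard]; exact h y hy
    have hsplit : ∑ z ∈ Y, w z = ∑ z ∈ Y', w z + ∑ z ∈ O, w z :=
      (Finset.sum_sdiff hOY).symm
    rw [hsplit]
    exact dvd_add h1 h2

end Cfsg.Agent.Lib.Helper66
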