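import Mathlib
import Cfsg.Agent.Lib.Helper66.Orbits2

set_option autoImplicit false

namespace Cfsg.Agent.Lib.Helper66

/-- number of solutions of `x ^ m = 1` -/
noncomputable def cnt (X : Type*) [Group X] (m : ℕ) : ℕ := Nat.card {g : X // g ^ m = 1}

theorem cnt_gcd (X : Type*) [Group X] [Finite X] (m : ℕ) :
    cnt X (Nat.gcd m (Nat.card X)) = cnt X m := by
  unfold cnt
  apply Nat.card_congr
  apply Equiv.subtypeEquivRight
  intro g
  constructor
  · intro h
    obtain ⟨k, hk⟩ := Nat.gcd_dvd_left m (Nat.card X)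
    rw [hk, pow_mul, h, one_pow]
  · intro h
    rw [← orderOf_dvd_iff_pow_eq_one] at h ⊢
    exact Nat.dvd_gcd h (orderOf_dvd_natCard g)

theorem cnt_card (X : Type*) [Group X] [Finite X] : cnt X (Nat.card X) = Nat.card X := by
  unfold cnt
  apply Nat.card_congr
  exact Equiv.subtypeUnivEquiv (fun g => pow_card_eq_one')

/-- Passing to the quotient by a central subgroup of order prime to `s` does not change the number of
solutions of `x ^ s = 1`. -/
theorem cnt_quotient_central {C : Type*} [Group C] [Finite C] (Z : Subgroup C) [Z.Normal]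
    (hZ : Z ≤ Subgroup.center C) (s : ℕ) (hcop : Nat.Coprime (Nat.card Z) s) :
    cnt (C ⧸ Z) s = cnt C s := by
  unfold cnt
  symm
  let f : {z : C // z ^ s = 1} → {x : C ⧸ Z // x ^ s = 1} := fun z =>
    ⟨(z.1 : C ⧸ Z), by rw [← QuotientGroup.mk_pow, z.2]; rfl⟩
  apply Nat.card_congr (Equiv.ofBijective f ⟨?_, ?_⟩)
  · rintro ⟨z, hz⟩ ⟨z', hz'⟩ h
    have h1 : (z : C ⧸ Z) = (z' : C ⧸ Z) := congrArg Subtype.val h
    rw [QuotientGroup.eq] at h1
    set ζ := z⁻¹ * z' with hζ
    have hζc : ∀ g : C, g * ζ = ζ * g := Subgroup.mem_center_iff.mp (hZ h1)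
    have hz'eq : z' = z * ζ := by rw [hζ]; group
    have hcomm : Commute z ζ := hζc z
    have h2 : ζ ^ s = 1 := by
      have : (z * ζ) ^ s = 1 := by rw [← hz'eq]; exact hz'
      rw [hcomm.mul_pow, hz, one_mul] at this
      exact this
    have h3 : orderOf ζ ∣ s := orderOf_dvd_of_pow_eq_one h2
    have h4 : orderOf ζ ∣ Nat.card Z := by
      have : orderOf (⟨ζ, h1⟩ : Z) ∣ Nat.card Z := orderOf_dvd_natCard _
      rwa [← Subgroup.orderOf_coe] at this
    have h5 : orderOf ζ = 1 := Nat.eq_one_of_dvd_coprimes hcop h4 h3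
    rw [orderOf_eq_one_iff] at h5
    apply Subtype.ext
    change z = z'
    rw [hz'eq, h5, mul_one]
  · rintro ⟨x, hx⟩
    obtain ⟨y, rfl⟩ := QuotientGroup.mk_surjective x
    have hys : y ^ s ∈ Z := by
      rw [← QuotientGroup.eq_one_iff, QuotientGroup.mk_pow]; exact hx
    let t : Z := ⟨y ^ s, hys⟩
    let ζ : Z := (powCoprime hcop).symm t⁻¹
    have hζs : ζ ^ s = t⁻¹ := (powCoprime hcop).apply_symm_apply t⁻¹
    have hζc : ∀ g : C, g * (ζ : C) = (ζ : C) * g := Subgroup.mem_center_iff.mp (hZ ζ.2)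
    have hcomm : Commute y (ζ : C) := hζc y
    have h1 : (y * (ζ : C)) ^ s = 1 := by
      rw [hcomm.mul_pow]
      have : ((ζ : C)) ^ s = (y ^ s)⁻¹ := by
        have := congrArg Subtype.val hζs
        simpa [t] using this
      rw [this, mul_inv_cancel]
    refine ⟨⟨y * (ζ : C), h1⟩, ?_⟩
    apply Subtype.ext
    change ((y * (ζ : C) : C) : C ⧸ Z) = (y : C ⧸ Z)
    rw [QuotientGroup.eq]
    have : (y * (ζ : C))⁻¹ * y = (ζ : C)⁻¹ := by
      rw [mul_inv_rev, mul_assoc, inv_mul_cancel, mul_one]
    rw [this]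
    exact Z.inv_mem ζ.2

universe u



theorem pow_congr_mod {X : Type*} [Group X] {x : X} {P a b : ℕ} (hx : x ^ P = 1)
    (h : a ≡ b [MOD P]) : x ^ a = x ^ b :=
  pow_eq_pow_iff_modEq.mpr (h.of_dvd (orderOf_dvd_of_pow_eq_one hx))

theorem pow_eq_one_of_dvd' {X : Type*} [Monoid X] {x : X} {P a : ℕ} (hx : x ^ P = 1)
    (h : P ∣ a) : x ^ a = 1 := by
  obtain ⟨k, rfl⟩ := h
  rw [pow_mul, hx, one_pow]

theorem card_Y_eq_sum {G : Type*} [Group G] [Fintype G] [DecidableEq G] (p a s : ℕ)
    (hp : p.Prime) (hps : ¬ p ∣ s) :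
    (Finset.univ.filter (fun g : G => g ^ (p ^ (a + 1) * s) = 1 ∧ g ^ (p ^ a * s) ≠ 1)).card =
      ∑ y ∈ Finset.univ.filter (fun y : G => orderOf y = p ^ (a + 1)),
        (Finset.univ.filter (fun z : G => z * y = y * z ∧ z ^ s = 1)).card := by
  set P := p ^ (a + 1) with hP
  have co : Nat.Coprime P s := ((Nat.Prime.coprime_iff_not_dvd hp).mpr hps).pow_left _
  obtain ⟨α, hα1, hα0⟩ := Nat.chineseRemainder co 1 0
  obtain ⟨β, hβ0, hβ1⟩ := Nat.chineseRemainder co 0 1
  have hαβ : α + β ≡ 1 [MOD P * s] := by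
    rw [← Nat.modEq_and_modEq_iff_modEq_mul co]
    exact ⟨by simpa using hα1.add hβ0, by simpa using hα0.add hβ1⟩
  have hsα : s ∣ α := (Nat.modEq_zero_iff_dvd).mp hα0
  have hPβ : P ∣ β := (Nat.modEq_zero_iff_dvd).mp hβ0
  have hM : p ^ a * s * p = P * s := by rw [hP, pow_succ]; ring
  rw [Finset.card_eq_sum_card_fiberwise (f := fun g => g ^ α)
    (t := Finset.univ.filter (fun y : G => orderOf y = P))]
  · apply Finset.sum_congr rfl
    intro y hy
    rw [Finset.mem_filter] at hy
    have hyo : orderOf y = P := hy.2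
    have hyP : y ^ P = 1 := by rw [← hyo]; exact pow_orderOf_eq_one y
    apply Finset.card_nbij' (fun g => g ^ β) (fun z => y * z)
    · intro g hg
      simp only [Finset.mem_coe, Finset.mem_filter, Finset.mem_univ, true_and] at hg ⊢
      obtain ⟨⟨hgN, hgM⟩, hgy⟩ := hg
      refine ⟨?_, ?_⟩
      · rw [← hgy]
        exact (Commute.refl g).pow_pow β α
      · rw [← pow_mul]
        apply pow_eq_one_of_dvd' hgN
        exact Nat.mul_dvd_mul hPβ dvd_rfl
    · intro z hz
      simp only [Finset.mem_coe, Finset.mem_filter, Finset.mem_univ, true_and] at hz ⊢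
      obtain ⟨hzy, hzs⟩ := hz
      have hc : Commute y z := hzy.symm
      refine ⟨⟨?_, ?_⟩, ?_⟩
      · rw [hc.mul_pow, pow_eq_one_of_dvd' hyP (Dvd.intro _ rfl),
          pow_eq_one_of_dvd' hzs (Dvd.intro_left _ rfl), one_mul]
      · rw [hc.mul_pow, pow_eq_one_of_dvd' hzs (Dvd.intro_left _ rfl), mul_one]
        intro h
        have h1 : P ∣ p ^ a * s := by rw [← hyo]; exact orderOf_dvd_of_pow_eq_one h
        have h2 : P ∣ p ^ a := co.dvd_of_dvd_mul_right h1
        have h3 : P ≤ p ^ a := Nat.le_of_dvd (pow_pos hp.pos a) h2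
        rw [hP] at h3
        exact absurd h3 (not_le.mpr (Nat.pow_lt_pow_right hp.one_lt (Nat.lt_succ_self a)))
      · rw [hc.mul_pow, pow_eq_one_of_dvd' hzs hsα, mul_one]
        have := pow_congr_mod hyP hα1
        rwa [pow_one] at this
    · intro g hg
      simp only [Finset.mem_coe, Finset.mem_filter, Finset.mem_univ, true_and] at hg
      obtain ⟨⟨hgN, hgM⟩, hgy⟩ := hg
      change y * g ^ β = g
      rw [← hgy, ← pow_add]
      have := pow_congr_mod hgN hαβ
      rwa [pow_one] at this
    · intro z hz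
      simp only [Finset.mem_coe, Finset.mem_filter, Finset.mem_univ, true_and] at hz
      obtain ⟨hzy, hzs⟩ := hz
      have hc : Commute y z := hzy.symm
      change (y * z) ^ β = z
      rw [hc.mul_pow, pow_eq_one_of_dvd' hyP hPβ, one_mul]
      have := pow_congr_mod hzs hβ1
      rwa [pow_one] at this
  · intro g hg
    simp only [Finset.mem_coe, Finset.mem_filter, Finset.mem_univ, true_and] at hg ⊢
    obtain ⟨hgN, hgM⟩ := hg
    rw [hP]
    have : Fact p.Prime := ⟨hp⟩
    apply orderOf_eq_prime_pow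
    · intro h
      apply hgM
      -- g^M = g^(αM) * g^(βM)
      have h1 : g ^ (p ^ a * s) = g ^ ((α + β) * (p ^ a * s)) := by
        apply pow_congr_mod hgN
        have := hαβ.mul_right (p ^ a * s)
        rw [one_mul] at this
        exact this.symm
      rw [h1, add_mul, pow_add]
      have h2 : g ^ (α * (p ^ a * s)) = 1 := by
        rw [← mul_assoc, pow_mul, pow_mul, h, one_pow]
      have h3 : g ^ (β * (p ^ a * s)) = 1 := by
        apply pow_eq_one_of_dvd' hgN
        rw [mul_comm (p ^ a) s, ← mul_assoc]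
        exact Dvd.dvd.mul_right (Nat.mul_dvd_mul hPβ dvd_rfl) _
      rw [h2, h3, one_mul]
    · rw [← pow_mul]
      apply pow_eq_one_of_dvd' hgN
      rw [← hP, mul_comm]
      exact Nat.mul_dvd_mul hsα dvd_rfl




open Classical in
/-- power action of the units of `ZMod P` on the elements `g` with `g ^ P = 1` (trivial elsewhere). -/
@[reducible] noncomputable def powAction (G : Type*) [Group G] (P : ℕ) [NeZero P] : MulAction (ZMod P)ˣ G where
  smul u g := if g ^ P = 1 then g ^ (u : ZMod P).val else g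
  one_smul g := by
    change (if g ^ P = 1 then g ^ ((1 : (ZMod P)ˣ) : ZMod P).val else g) = g
    split_ifs with h
    · rw [Units.val_one, ZMod.val_one_eq_one_mod]
      have := pow_congr_mod h (Nat.mod_modEq 1 P)
      rwa [pow_one] at this
    · rfl
  mul_smul u v g := by
    change (if g ^ P = 1 then g ^ ((u * v : (ZMod P)ˣ) : ZMod P).val else g) =
      (if (if g ^ P = 1 then g ^ (v : ZMod P).val else g) ^ P = 1 then
        (if g ^ P = 1 then g ^ (v : ZMod P).val else g) ^ (u : ZMod P).val
        else (if g ^ P = 1 then g ^ (v : ZMod P).val else g))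
    by_cases h : g ^ P = 1
    · have h' : (g ^ (v : ZMod P).val) ^ P = 1 := by rw [← pow_mul, mul_comm, pow_mul, h, one_pow]
      simp only [if_pos h]
      rw [if_pos h', Units.val_mul, ZMod.val_mul, ← pow_mul]
      apply pow_congr_mod h
      rw [mul_comm]
      exact Nat.mod_modEq _ _
    · simp only [if_neg h]

theorem powAction_smul_def {G : Type*} [Group G] (P : ℕ) [NeZero P] (u : (ZMod P)ˣ) (g : G) :
    letI := powAction G P
    u • g = (open Classical in if g ^ P = 1 then g ^ (u : ZMod P).val else g) := rfl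

theorem powAction_smul_of_pow_eq_one {G : Type*} [Group G] (P : ℕ) [NeZero P] (u : (ZMod P)ˣ) (g : G)
    (h : g ^ P = 1) :
    letI := powAction G P
    u • g = g ^ (u : ZMod P).val := by
  rw [powAction_smul_def, if_pos h]

theorem powAction_commute {G : Type*} [Group G] (P : ℕ) [NeZero P] (u : (ZMod P)ˣ) (g x : G)
    (h : x * g = g * x) :
    letI := powAction G P
    x * (u • g) = (u • g) * x := by
  rw [powAction_smul_def]
  split_ifs
  · exact (Commute.pow_right (show Commute x g from h) _)
  · exact h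

theorem powAction_commute_iff {G : Type*} [Group G] (P : ℕ) [NeZero P] (u : (ZMod P)ˣ) (g x : G) :
    letI := powAction G P
    x * (u • g) = (u • g) * x ↔ x * g = g * x := by
  let _ := powAction G P
  constructor
  · intro h
    have := powAction_commute P u⁻¹ (u • g) x h
    rwa [inv_smul_smul] at this
  · exact powAction_commute P u g x

theorem powAction_orderOf {G : Type*} [Group G] (P : ℕ) [NeZero P] (u : (ZMod P)ˣ) (g : G)
    (h : orderOf g = P) :
    letI := powAction G P
    orderOf (u • g) = P := by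
  have hP : g ^ P = 1 := by rw [← h]; exact pow_orderOf_eq_one g
  rw [powAction_smul_of_pow_eq_one P u g hP]
  rw [Nat.Coprime.orderOf_pow, h]
  rw [h]
  exact (ZMod.val_coe_unit_coprime u).symm

theorem powAction_stabilizer {G : Type*} [Group G] (P : ℕ) [NeZero P] (g : G)
    (h : orderOf g = P) :
    letI := powAction G P
    MulAction.stabilizer (ZMod P)ˣ g = ⊥ := by
  let _ := powAction G P
  have hP : g ^ P = 1 := by rw [← h]; exact pow_orderOf_eq_one g
  rw [eq_bot_iff]
  intro u hu
  rw [MulAction.mem_stabilizer_iff, powAction_smul_of_pow_eq_one P u g hP] at hu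
  rw [Subgroup.mem_bot]
  have h1 : g ^ (u : ZMod P).val = g ^ 1 := by rw [hu, pow_one]
  rw [pow_eq_pow_iff_modEq, h, ← ZMod.natCast_eq_natCast_iff, ZMod.natCast_zmod_val, Nat.cast_one] at h1
  exact Units.ext h1

theorem powAction_orbit_ncard {G : Type*} [Group G] (P : ℕ) [NeZero P] (g : G)
    (h : orderOf g = P) :
    letI := powAction G P
    (MulAction.orbit (ZMod P)ˣ g).ncard = Nat.totient P := by
  let _ := powAction G P
  rw [← MulAction.index_stabilizer, powAction_stabilizer P g h, Subgroup.index_bot,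
    Nat.card_eq_fintype_card, ZMod.card_units_eq_totient]




theorem normal_of_le_center' {C : Type*} [Group C] (Z : Subgroup C) (hZ : Z ≤ Subgroup.center C) :
    Z.Normal := by
  constructor
  intro n hn g
  have h := Subgroup.mem_center_iff.mp (hZ hn) g
  rw [h, mul_inv_cancel_right]
  exact hn

theorem dvd_mul_gcd_of_dvd_mul (s A B : ℕ) (h : s ∣ A * B) : s ∣ A * Nat.gcd s B := by
  rw [← Nat.gcd_mul_left]
  exact Nat.dvd_gcd (Dvd.intro_left A rfl) h

/-- the weight `w y` is the number of solutions of `z ^ s = 1` in the centralizer of `y` -/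
theorem w_eq_cnt {G : Type*} [Group G] [Fintype G] [DecidableEq G] (y : G) (s : ℕ) :
    (Finset.univ.filter (fun z : G => z * y = y * z ∧ z ^ s = 1)).card =
      cnt (Subgroup.centralizer {y}) s := by
  unfold cnt
  rw [← Fintype.card_subtype, ← Nat.card_eq_fintype_card]
  apply Nat.card_congr
  refine ⟨fun z => ⟨⟨z.1, ?_⟩, ?_⟩, fun z => ⟨z.1.1, ?_, ?_⟩, ?_, ?_⟩
  · rw [Subgroup.mem_centralizer_singleton_iff]; exact z.2.1
  · apply Subtype.ext; exact z.2.2
  · have := z.1.2; rw [Subgroup.mem_centralizer_singleton_iff] at this; exact this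
  · have := congrArg Subtype.val z.2; exact this
  · intro z; rfl
  · intro z; rfl

theorem s_dvd_orbit_mul_w {G : Type u} [Group G] [Fintype G] [DecidableEq G] (P s : ℕ)
    (co : Nat.Coprime P s) (hP1 : 1 < P) (hdvd : P * s ∣ Nat.card G)
    (IH : ∀ (H : Type u) [Group H] [Finite H], Nat.card H < Nat.card G →
      ∀ m, m ∣ Nat.card H → m ∣ cnt H m) (y : G) (hy : orderOf y = P) :
    s ∣ (MulAction.orbit (ConjAct G) y).ncard *
      (Finset.univ.filter (fun z : G => z * y = y * z ∧ z ^ s = 1)).card := by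
  rw [w_eq_cnt]
  set C := Subgroup.centralizer {y} with hC
  have hyC : y ∈ C := by rw [hC, Subgroup.mem_centralizer_singleton_iff]
  let y' : C := ⟨y, hyC⟩
  let Z : Subgroup C := Subgroup.zpowers y'
  have hZc : Z ≤ Subgroup.center C := by
    rw [Subgroup.zpowers_le, Subgroup.mem_center_iff]
    intro c
    apply Subtype.ext
    have : (c : G) ∈ Subgroup.centralizer {y} := c.2
    rw [Subgroup.mem_centralizer_singleton_iff] at this
    exact this
  have : Z.Normal := normal_of_le_center' Z hZc
  have hZcard : Nat.card Z = P := by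
    rw [Nat.card_zpowers, ← hy]
    exact Subgroup.orderOf_mk y hyC
  have h1 : cnt (C ⧸ Z) s = cnt C s := cnt_quotient_central Z hZc s (by rw [hZcard]; exact co)
  have hcard : Nat.card (C ⧸ Z) * P = Nat.card C := by
    rw [← hZcard]; exact (Subgroup.card_eq_card_quotient_mul_card_subgroup Z).symm
  have horb : (MulAction.orbit (ConjAct G) y).ncard * Nat.card C = Nat.card G := by
    rw [← MulAction.index_stabilizer, Subgroup.nat_card_centralizer_nat_card_stabilizer, mul_comm]
    exact Subgroup.card_mul_index _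
  have hQpos : 0 < Nat.card (C ⧸ Z) := Nat.card_pos
  have hlt : Nat.card (C ⧸ Z) < Nat.card G := by
    have h2 : Nat.card C ≤ Nat.card G := Subgroup.card_le_card_group C
    have h3 : Nat.card (C ⧸ Z) * 2 ≤ Nat.card (C ⧸ Z) * P := Nat.mul_le_mul_left _ hP1
    omega
  have h4 := IH (C ⧸ Z) hlt (Nat.gcd s (Nat.card (C ⧸ Z))) (Nat.gcd_dvd_right _ _)
  rw [cnt_gcd, h1] at h4
  have h5 : s ∣ (MulAction.orbit (ConjAct G) y).ncard * Nat.card (C ⧸ Z) := by
    have : P * s ∣ P * ((MulAction.orbit (ConjAct G) y).ncard * Nat.card (C ⧸ Z)) := by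
      have e : P * ((MulAction.orbit (ConjAct G) y).ncard * Nat.card (C ⧸ Z)) = Nat.card G := by
        rw [← horb, ← hcard]; ring
      rw [e]; exact hdvd
    exact Nat.dvd_of_mul_dvd_mul_left (by omega) this
  exact (dvd_mul_gcd_of_dvd_mul s _ _ h5).trans (Nat.mul_dvd_mul_left _ h4)





theorem pow_dvd_sum {G : Type*} [Group G] [Fintype G] [DecidableEq G] (p a s : ℕ) (hp : p.Prime) :
    p ^ a ∣ ∑ y ∈ Finset.univ.filter (fun y : G => orderOf y = p ^ (a + 1)),
        (Finset.univ.filter (fun z : G => z * y = y * z ∧ z ^ s = 1)).card := by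
  have : NeZero (p ^ (a + 1)) := ⟨(pow_pos hp.pos _).ne'⟩
  let _ := powAction G (p ^ (a + 1))
  apply dvd_sum_of_invariant (G := (ZMod (p ^ (a + 1)))ˣ) (p ^ a)
    (fun y : G => (Finset.univ.filter (fun z : G => z * y = y * z ∧ z ^ s = 1)).card)
  · intro u y
    change (Finset.univ.filter (fun z : G => z * (u • y) = (u • y) * z ∧ z ^ s = 1)).card = _
    congr 1
    apply Finset.filter_congr
    intro z _
    rw [powAction_commute_iff]
  · intro u y hy
    rw [Finset.mem_filter] at hy ⊢
    exact ⟨Finset.mem_univ _, powAction_orderOf _ u y hy.2⟩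
  · intro y hy
    rw [Finset.mem_filter] at hy
    rw [powAction_orbit_ncard _ y hy.2, Nat.totient_prime_pow_succ hp a, mul_assoc]
    exact Dvd.intro _ rfl

theorem s_dvd_sum {G : Type u} [Group G] [Fintype G] [DecidableEq G] (P s : ℕ)
    (co : Nat.Coprime P s) (hP1 : 1 < P) (hdvd : P * s ∣ Nat.card G)
    (IH : ∀ (H : Type u) [Group H] [Finite H], Nat.card H < Nat.card G →
      ∀ m, m ∣ Nat.card H → m ∣ cnt H m) :
    s ∣ ∑ y ∈ Finset.univ.filter (fun y : G => orderOf y = P),
        (Finset.univ.filter (fun z : G => z * y = y * z ∧ z ^ s = 1)).card := by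
  apply dvd_sum_of_invariant (G := ConjAct G) s
    (fun y : G => (Finset.univ.filter (fun z : G => z * y = y * z ∧ z ^ s = 1)).card)
  · intro c y
    rw [ConjAct.smul_def]
    set g := ConjAct.ofConjAct c with hg
    change (Finset.univ.filter (fun z : G => z * (g * y * g⁻¹) = (g * y * g⁻¹) * z ∧ z ^ s = 1)).card = _
    apply Finset.card_nbij' (fun z => g⁻¹ * z * g) (fun z => g * z * g⁻¹)
    · intro z hz
      simp only [Finset.mem_coe, Finset.mem_filter, Finset.mem_univ, true_and] at hz ⊢
      refine ⟨?_, ?_⟩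
      · have h := hz.1
        have h2 : g⁻¹ * (z * (g * y * g⁻¹)) * g = g⁻¹ * (g * y * g⁻¹ * z) * g := by rw [h]
        simp only [mul_assoc, inv_mul_cancel_left, inv_mul_cancel, mul_one] at h2 ⊢
        exact h2
      · have : g⁻¹ * z * g = g⁻¹ * z * g⁻¹⁻¹ := by rw [inv_inv]
        rw [this, conj_pow, hz.2, mul_one, mul_inv_cancel]
    · intro z hz
      simp only [Finset.mem_coe, Finset.mem_filter, Finset.mem_univ, true_and] at hz ⊢
      refine ⟨?_, ?_⟩
      · have h := hz.1
        simp only [mul_assoc, inv_mul_cancel_left]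
        rw [← mul_assoc z, h, mul_assoc]
      · rw [conj_pow, hz.2, mul_one, mul_inv_cancel]
    · intro z _
      simp only [mul_assoc, mul_inv_cancel_left, mul_inv_cancel, mul_one]
    · intro z _
      simp only [mul_assoc, inv_mul_cancel_left, inv_mul_cancel, mul_one]
  · intro c y hy
    rw [Finset.mem_filter] at hy ⊢
    refine ⟨Finset.mem_univ _, ?_⟩
    rw [ConjAct.smul_def, ← hy.2]
    exact (SemiconjBy.orderOf_eq _ (SemiconjBy.conj_mk _ _)).symm
  · intro y hy
    rw [Finset.mem_filter] at hy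
    exact s_dvd_orbit_mul_w P s co hP1 hdvd IH y hy.2

theorem cnt_eq_card_filter {G : Type*} [Group G] [Fintype G] [DecidableEq G] (m : ℕ) :
    cnt G m = (Finset.univ.filter (fun g : G => g ^ m = 1)).card := by
  unfold cnt
  rw [Nat.card_eq_fintype_card, Fintype.card_subtype]

theorem frobenius_step {G : Type u} [Group G] [Finite G] (p a s : ℕ) (hp : p.Prime) (hps : ¬ p ∣ s)
    (hdvd : p ^ (a + 1) * s ∣ Nat.card G)
    (IH : ∀ (H : Type u) [Group H] [Finite H], Nat.card H < Nat.card G →
      ∀ m, m ∣ Nat.card H → m ∣ cnt H m) :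
    p ^ a * s ∣ cnt G (p ^ (a + 1) * s) - cnt G (p ^ a * s) := by
  classical
  have := Fintype.ofFinite G
  have co1 : Nat.Coprime p s := (Nat.Prime.coprime_iff_not_dvd hp).mpr hps
  have hsub : Finset.univ.filter (fun g : G => g ^ (p ^ a * s) = 1) ⊆
      Finset.univ.filter (fun g : G => g ^ (p ^ (a + 1) * s) = 1) := by
    intro g hg
    rw [Finset.mem_filter] at hg ⊢
    refine ⟨Finset.mem_univ _, ?_⟩
    rw [pow_succ, mul_right_comm, pow_mul, hg.2, one_pow]
  have hY : cnt G (p ^ (a + 1) * s) - cnt G (p ^ a * s) =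
      (Finset.univ.filter (fun g : G => g ^ (p ^ (a + 1) * s) = 1 ∧ g ^ (p ^ a * s) ≠ 1)).card := by
    rw [cnt_eq_card_filter, cnt_eq_card_filter, ← Finset.card_sdiff_of_subset hsub]
    congr 1
    ext g
    simp only [Finset.mem_sdiff, Finset.mem_filter, Finset.mem_univ, true_and, ne_eq]
  rw [hY, card_Y_eq_sum p a s hp hps]
  apply Nat.Coprime.mul_dvd_of_dvd_of_dvd (co1.pow_left a)
  · exact pow_dvd_sum p a s hp
  · exact s_dvd_sum (p ^ (a + 1)) s (co1.pow_left _) (Nat.one_lt_pow (Nat.succ_ne_zero a) hp.one_lt) hdvd IH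

theorem frobenius_main : ∀ n : ℕ, ∀ (G : Type u) [Group G] [Finite G], Nat.card G = n →
    ∀ m, m ∣ n → m ∣ cnt G m := by
  intro n
  induction n using Nat.strong_induction_on with
  | _ n ih =>
    intro G _ _ hG
    have IH : ∀ (H : Type u) [Group H] [Finite H], Nat.card H < Nat.card G →
        ∀ m, m ∣ Nat.card H → m ∣ cnt H m :=
      fun H _ _ hlt m hm => ih (Nat.card H) (hG ▸ hlt) H rfl m hm
    have hnpos : 0 < n := hG ▸ Nat.card_pos
    have inner : ∀ k m, m * k = n → m ∣ cnt G m := by
      intro k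
      induction k using Nat.strong_induction_on with
      | _ k ihk =>
        intro m hmk
        have hk0 : k ≠ 0 := by rintro rfl; omega
        have hm0 : m ≠ 0 := by rintro rfl; omega
        by_cases hk1 : k = 1
        · subst hk1
          rw [mul_one] at hmk
          rw [hmk, ← hG, cnt_card]
        · have hp : (k.minFac).Prime := Nat.minFac_prime hk1
          set p := k.minFac with hpdef
          obtain ⟨k', hk'⟩ := Nat.minFac_dvd k
          rw [← hpdef] at hk'
          have hk'pos : 0 < k' := by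
            rcases Nat.eq_zero_or_pos k' with h | h
            · rw [h, mul_zero] at hk'; exact absurd hk' hk0
            · exact h
          have hlt : k' < k := by
            rw [hk']
            have := hp.two_le
            nlinarith
          have h1 : m * p ∣ cnt G (m * p) := ihk k' hlt (m * p) (by rw [mul_assoc, ← hk', hmk])
          obtain ⟨a, s, hps, hms⟩ := Nat.exists_eq_pow_mul_and_not_dvd hm0 p hp.ne_one
          have hN : m * p = p ^ (a + 1) * s := by rw [hms]; ring
          have hdvd : p ^ (a + 1) * s ∣ Nat.card G := by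
            rw [← hN, hG, ← hmk, hk', ← mul_assoc]
            exact Dvd.intro _ rfl
          have hstep := frobenius_step (G := G) p a s hp hps hdvd IH
          rw [← hN, ← hms] at hstep
          have hle : cnt G m ≤ cnt G (m * p) := by
            unfold cnt
            apply Nat.card_mono (Set.toFinite _)
            intro g hg
            change g ^ (m * p) = 1
            rw [pow_mul, hg, one_pow]
          have h2 : m ∣ cnt G (m * p) := (Dvd.intro _ rfl).trans h1
          have h3 : cnt G m = cnt G (m * p) - (cnt G (m * p) - cnt G m) := by omega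
          rw [h3]
          exact Nat.dvd_sub h2 hstep
    intro m hm
    obtain ⟨k, hk⟩ := hm
    exact inner k m hk.symm


end Cfsg.Agent.Lib.Helper66
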