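import Mathlib
import Cfsg.Agent.Lib.Helper76.PSolvable

set_option autoImplicit false
set_option linter.style.haveILetI false

/-!
# The dual of Hall–Higman Lemma 1.2.3 (helper66)

In a finite `p`-solvable group with `O_p(G) = 1`, `C_G(O_{p'}(G)) ≤ O_{p'}(G)`.
-/

namespace Cfsg.Agent.Lib.Helper66.PSolvDual

open Cfsg Cfsg.Agent.Lib.Helper55 Cfsg.Agent.Lib.Helper32 Cfsg.Agent.Lib.Helper76

variable {G : Type*} [Group G]

/-- One step of the dual Hall–Higman lemma. -/
theorem dual_step [Finite G] {p : ℕ} [Fact p.Prime] (hO : pCore p G = ⊥)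
    {A B : Subgroup G} [hAn : A.Normal] [hBn : B.Normal] (hAB : A ≤ B)
    (hf : PFactor p (A.relIndex B))
    (hA : A ⊓ Subgroup.centralizer (pPrimeCore p G : Set G) ≤ pPrimeCore p G) :
    B ⊓ Subgroup.centralizer (pPrimeCore p G : Set G) ≤ pPrimeCore p G := by
  have hp : p.Prime := Fact.out
  haveI hPn : (pPrimeCore p G).Normal := pPrimeCore_normal' p
  set P := pPrimeCore p G with hP
  set C := Subgroup.centralizer (P : Set G) with hC
  haveI hCn : C.Normal := Subgroup.normal_centralizer
  set D := B ⊓ C with hD
  set Z := A ⊓ C with hZ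
  haveI hDn : D.Normal := Subgroup.normal_inf_normal B C
  haveI hZn : Z.Normal := Subgroup.normal_inf_normal A C
  have hZD : Z ≤ D := inf_le_inf_right C hAB
  have hZcop : (Nat.card Z).Coprime p :=
    Nat.Coprime.coprime_dvd_left (Subgroup.card_dvd_of_le hA) (pPrimeCore_card_coprime p)
  have hfac : PFactor p (Z.relIndex D) := hf.of_dvd (relIndex_inf_dvd A B C)
  have hcard : Nat.card Z * Z.relIndex D = Nat.card D := card_mul_relIndex_eq hZD
  rcases hfac with ⟨m, hm⟩ | hcop
  · -- `D` is nilpotent; its Sylow `p`-subgroup is normal in `G`, hence trivial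
    have hZcen : Z.subgroupOf D ≤ Subgroup.center D := by
      intro z hz
      rw [Subgroup.mem_subgroupOf] at hz
      rw [Subgroup.mem_center_iff]
      intro d
      have hd : (d : G) ∈ C := d.2.2
      have hzP : (z : G) ∈ P := hA hz
      have := (Subgroup.mem_centralizer_iff.1 hd) (z : G) hzP
      apply Subtype.ext
      simp only [Subgroup.coe_mul]
      exact this.symm
    have hquot : IsPGroup p (D ⧸ Z.subgroupOf D) := by
      apply IsPGroup.of_card (n := m)
      rw [← Subgroup.index_eq_card]
      exact hm
    have hnilp : Group.IsNilpotent D := by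
      haveI : Group.IsNilpotent (D ⧸ Z.subgroupOf D) := hquot.isNilpotent
      apply Subgroup.isNilpotent_of_ker_le_center (QuotientGroup.mk' (Z.subgroupOf D))
      rw [QuotientGroup.ker_mk']; exact hZcen
    let S : Sylow p D := default
    have hSn : (S : Subgroup D).Normal := inferInstance
    haveI : (S : Subgroup D).Characteristic := Sylow.characteristic_of_normal S hSn
    haveI hSmapN : ((S : Subgroup D).map D.subtype).Normal :=
      ConjAct.normal_of_characteristic_of_normal
    have hle : (S : Subgroup D).map D.subtype ≤ pCore p G := le_pCore p _ (S.2.map _)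
    rw [hO, le_bot_iff] at hle
    have hSbot : (S : Subgroup D) = ⊥ := by
      rw [eq_bot_iff]
      intro s hs
      have : (s : G) ∈ (S : Subgroup D).map D.subtype := ⟨s, hs, rfl⟩
      rw [hle, Subgroup.mem_bot] at this
      rw [Subgroup.mem_bot]
      exact Subtype.ext this
    have hScard : Nat.card (S : Subgroup D) = 1 := by rw [hSbot]; exact Subgroup.card_bot
    rw [Sylow.card_eq_multiplicity] at hScard
    have hfz : (Nat.card D).factorization p = 0 := by
      by_contra hne
      have : 1 < p ^ (Nat.card D).factorization p := Nat.one_lt_pow hne hp.one_lt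
      omega
    have hD0 : Nat.card D ≠ 0 := Nat.card_pos.ne'
    have hm0 : m = 0 := by
      have h1 : p ^ m ∣ Nat.card D := by rw [← hcard, hm]; exact dvd_mul_left _ _
      have := (Nat.Prime.pow_dvd_iff_le_factorization hp hD0).mp h1
      omega
    rw [hm0, pow_zero, Subgroup.relIndex_eq_one] at hm
    exact hm.trans hA
  · -- `D` is a normal `p'`-subgroup
    have : (Nat.card D).Coprime p := by
      rw [← hcard]; exact Nat.Coprime.mul_left hZcop hcop
    exact le_pPrimeCore p D this

/-- **Dual Hall–Higman lemma**: in a finite `p`-solvable group with `O_p(G) = 1`,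
`C_G(O_{p'}(G)) ≤ O_{p'}(G)`. -/
theorem centralizer_pPrimeCore_le_of_isPSolvable [Finite G] {p : ℕ} [Fact p.Prime]
    (h : IsPSolvable p G) (hO : pCore p G = ⊥) :
    Subgroup.centralizer (pPrimeCore p G : Set G) ≤ pPrimeCore p G := by
  obtain ⟨n, H, h0, hl, hmono, hnorm, hfac⟩ := isPSolvable_iff.1 h
  have key : ∀ i : Fin (n + 1),
      H i ⊓ Subgroup.centralizer (pPrimeCore p G : Set G) ≤ pPrimeCore p G := by
    intro i
    induction i using Fin.induction with
    | zero => rw [h0, bot_inf_eq]; exact bot_le
    | succ i ih =>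
      haveI := hnorm i.castSucc
      haveI := hnorm i.succ
      exact dual_step hO (hmono (Fin.castSucc_le_succ i)) (hfac i) ih
  have := key (Fin.last n)
  rwa [hl, top_inf_eq] at this

end Cfsg.Agent.Lib.Helper66.PSolvDual
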