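import Mathlib

set_option autoImplicit false

namespace Cfsg.Agent.Lib.Helper66

/-- A subgroup containing a Sylow `q`-subgroup for every prime `q` is the whole group. -/
theorem eq_top_of_forall_sylow_le {G : Type*} [Group G] [Finite G] (H : Subgroup G)
    (h : ∀ (q : ℕ) [Fact q.Prime], ∃ Q : Sylow q G, (Q : Subgroup G) ≤ H) : H = ⊤ := by
  rw [← Subgroup.index_eq_one, Nat.eq_one_iff_not_exists_prime_dvd]
  intro q hq hdvd
  haveI : Fact q.Prime := ⟨hq⟩
  obtain ⟨Q, hQ⟩ := h q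
  exact Q.not_dvd_index (dvd_trans hdvd (Subgroup.index_dvd_of_le hQ))

/-- An element of a `q`-group has order a power of `q`. -/
theorem exists_orderOf_eq_pow_of_mem_sylow {G : Type*} [Group G] {q : ℕ} [hq : Fact q.Prime]
    (Q : Sylow q G) (g : G) (hg : g ∈ (Q : Subgroup G)) : ∃ b : ℕ, orderOf g = q ^ b := by
  obtain ⟨k, hk⟩ := Q.2 ⟨g, hg⟩
  have hk' : g ^ (q ^ k) = 1 := by
    have := congrArg Subtype.val hk
    simpa using this
  obtain ⟨b, -, hb⟩ := (Nat.dvd_prime_pow hq.1).mp (orderOf_dvd_of_pow_eq_one hk')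
  exact ⟨b, hb⟩

/-- An element of `p`-power order lies in a normal Sylow `p`-subgroup. -/
theorem mem_of_normal_sylow {G : Type*} [Group G] [Finite G] {p : ℕ} [Fact p.Prime] (P : Sylow p G)
    (hP : (P : Subgroup G).Normal) (x : G) (a : ℕ) (hx : orderOf x = p ^ a) : x ∈ (P : Subgroup G) := by
  have hpg : IsPGroup p (Subgroup.zpowers x) := by
    apply IsPGroup.of_card (n := a)
    rw [Nat.card_zpowers, hx]
  obtain ⟨Q, hQ⟩ := hpg.exists_le_sylow
  obtain ⟨g, hg⟩ := MulAction.exists_smul_eq G P Q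
  have : g • P = P := Sylow.smul_eq_of_normal
  rw [this] at hg
  rw [hg]
  exact hQ (Subgroup.mem_zpowers x)

end Cfsg.Agent.Lib.Helper66
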