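import Mathlib

set_option autoImplicit false

/-! Statement (as a `Prop`) used in the proof of the Hall–Higman bound `l_p ≤ d_p` (helper66). -/

namespace Cfsg.Agent.Lib.Helper66.HHPair

universe u v w t

/-- **Quadratic statement**: a finite `p`-group `T` acting on a finite `q`-group `Q` (`q ≠ p`),
both acting compatibly on a finite-dimensional space `V` over an algebraically closed field of
characteristic `p`.  If every element `x` of the derived subgroup `T'` acts quadratically
(`(ρ x - 1)^2 = 0`) and centralises `[V, T, T]` (`(ρ x - 1)(ρ g - 1)(ρ h - 1) = 0`), then `T'`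
commutes with the image of `Q`. -/
def QuadStmt (p : ℕ) : Prop :=
  ∀ (K : Type v) [Field K] [IsAlgClosed K] [CharP K p]
    (q : ℕ) (_ : q.Prime) (_ : q ≠ p)
    (Q : Type w) [Group Q] [Finite Q] (_ : IsPGroup q Q)
    (V : Type u) [AddCommGroup V] [Module K V] [FiniteDimensional K V]
    (T : Type t) [Group T] [Finite T] (_ : IsPGroup p T)
    (r : Q →* Module.End K V) (θ : T →* MulAut Q) (ρ : T →* Module.End K V)
    (_ : ∀ (g : T) (u : Q), ρ g * r u = r (θ g u) * ρ g)
    (_ : ∀ x ∈ commutator T, (ρ x - 1) * (ρ x - 1) = 0)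
    (_ : ∀ x ∈ commutator T, ∀ g h : T, (ρ x - 1) * ((ρ g - 1) * (ρ h - 1)) = 0)
    (x : T) (_ : x ∈ commutator T) (u : Q), ρ x * r u = r u * ρ x

end Cfsg.Agent.Lib.Helper66.HHPair
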