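import Mathlib

set_option autoImplicit false

/-!
# Fixed-point-free automorphisms of order three

* `FPF3.two_engel` : a finite group with a fixed-point-free automorphism of order 3 is 2-Engel.
* `levi` : a 2-Engel group without elements of order 3 has class at most 2.
* `FPF3.class_two` : combination.
-/

namespace Cfsg.Agent.Lib.Helper66.F3

open scoped commutatorElement

variable {B : Type*} [Group B]

/-- fixed-point-free automorphism whose cube is the identity -/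
structure FPF3 (σ : MulAut B) : Prop where
  fpf : ∀ b, σ b = b → b = 1
  cube : ∀ b, σ (σ (σ b)) = b

namespace FPF3
variable {σ : MulAut B} (h : FPF3 σ)
include h

lemma inj : Function.Injective (fun b : B => b⁻¹ * σ b) := by
  intro b c hbc
  simp only at hbc
  have h1 : σ (c * b⁻¹) = c * b⁻¹ := by
    rw [map_mul, map_inv]
    have : σ c = c * (b⁻¹ * σ b) := by rw [hbc]; group
    rw [this]; group
  have := h.fpf _ h1
  exact (mul_inv_eq_one.mp this).symm

lemma surj [Finite B] : Function.Surjective (fun b : B => b⁻¹ * σ b) :=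
  Finite.injective_iff_surjective.mp h.inj

lemma prod_eq_one [Finite B] (y : B) : y * σ y * σ (σ y) = 1 := by
  obtain ⟨b, rfl⟩ := h.surj y
  simp only [map_mul, map_inv, h.cube]
  group

lemma prod_eq_one' [Finite B] (y : B) : σ (σ y) * σ y * y = 1 := by
  have := h.prod_eq_one y⁻¹
  simp only [map_inv] at this
  have h2 := congrArg (·⁻¹) this
  simp only [mul_inv_rev, inv_inv, inv_one] at h2
  rw [← mul_assoc] at h2
  exact h2

lemma comm [Finite B] (y : B) : y * σ y = σ y * y := by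
  have h1 := h.prod_eq_one y
  have h2 := h.prod_eq_one' y
  have e1 : σ (σ y) = (y * σ y)⁻¹ := by
    rw [eq_inv_iff_mul_eq_one, ← h1]
    have h3 : σ (σ y) * (y * σ y) = (y * σ y)⁻¹ * (y * σ y * σ (σ y)) * (y * σ y) := by group
    rw [h3, h1]; group
  have e2 : σ (σ y) = (σ y * y)⁻¹ := by
    rw [eq_inv_iff_mul_eq_one, ← mul_assoc]; exact h2
  have := e1.symm.trans e2
  exact inv_injective this

/-- the conjugate automorphism -/
lemma conj (c : B) : FPF3 (MulAut.conj c * σ * (MulAut.conj c)⁻¹) where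
  fpf := by
    intro b hb
    simp only [MulAut.mul_apply, MulAut.conj_apply, MulAut.conj_inv_apply] at hb
    have h1 : σ (c⁻¹ * b * c) = c⁻¹ * b * c := by
      have : σ (c⁻¹ * b * c) = c⁻¹ * (c * σ (c⁻¹ * b * c) * c⁻¹) * c := by group
      rw [this, hb]
    have := h.fpf _ h1
    have h2 : b = c * (c⁻¹ * b * c) * c⁻¹ := by group
    rw [h2, this]; group
  cube := by
    intro b
    simp only [MulAut.mul_apply, MulAut.conj_apply, MulAut.conj_inv_apply]
    have e : ∀ u : B, c⁻¹ * (c * u * c⁻¹) * c = u := fun u => by group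
    rw [e, e, h.cube]; group

/-- the square is again fixed-point-free of order 3 -/
lemma sq : FPF3 (σ * σ) where
  fpf := by
    intro b hb
    simp only [MulAut.mul_apply] at hb
    apply h.fpf
    have := h.cube b
    rw [hb] at this
    exact this
  cube := by
    intro b
    simp only [MulAut.mul_apply]
    rw [h.cube, h.cube]

lemma comm_conj [Finite B] (b c : B) : b * (c * σ b * c⁻¹) = (c * σ b * c⁻¹) * b := by
  obtain ⟨k, hk⟩ := h.surj c
  simp only at hk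
  -- c = k⁻¹ * σ k ; use conjugation by k⁻¹
  have h1 := (h.conj k⁻¹).comm b
  have key : (MulAut.conj k⁻¹ * σ * (MulAut.conj k⁻¹)⁻¹) b = c * σ b * c⁻¹ := by
    simp only [MulAut.mul_apply, MulAut.conj_apply, MulAut.conj_inv_apply, map_mul, map_inv,
      inv_inv]
    rw [← hk]; group
  rw [key] at h1
  exact h1

/-- A group with a fixed-point-free automorphism of order three is 2-Engel. -/
theorem two_engel [Finite B] (b c : B) : b * (c * b * c⁻¹) = (c * b * c⁻¹) * b := by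
  have h1 := h.comm_conj b c
  have h2 := h.sq.comm_conj b c
  simp only [MulAut.mul_apply] at h2
  have h3 : σ b * σ (σ b) = b⁻¹ := by
    have := h.prod_eq_one b
    rw [mul_assoc] at this
    exact eq_inv_of_mul_eq_one_right this
  have h4 : c * b⁻¹ * c⁻¹ = (c * σ b * c⁻¹) * (c * σ (σ b) * c⁻¹) := by
    rw [← h3]; group
  have h5 : b * (c * b⁻¹ * c⁻¹) = (c * b⁻¹ * c⁻¹) * b := by
    rw [h4, ← mul_assoc, h1, mul_assoc, h2, ← mul_assoc]
  have h6 : c * b * c⁻¹ = (c * b⁻¹ * c⁻¹)⁻¹ := by group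
  rw [h6]
  have := (Commute.inv_right (show Commute b (c * b⁻¹ * c⁻¹) from h5))
  exact this

end FPF3

section levi

lemma closure_comm {S : Set B} (hS : ∀ s ∈ S, ∀ t ∈ S, s * t = t * s) :
    ∀ x ∈ Subgroup.closure S, ∀ y ∈ Subgroup.closure S, x * y = y * x := by
  have h1 : Subgroup.closure S ≤ Subgroup.centralizer S := by
    rw [Subgroup.closure_le]
    intro s hs
    rw [SetLike.mem_coe, Subgroup.mem_centralizer_iff]
    intro t ht
    exact hS t ht s hs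
  have h2 : Subgroup.closure S ≤ Subgroup.centralizer (Subgroup.closure S : Set B) := by
    rw [Subgroup.closure_le]
    intro s hs
    rw [SetLike.mem_coe, Subgroup.mem_centralizer_iff]
    intro x hx
    have := Subgroup.mem_centralizer_iff.mp (h1 hx) s hs
    exact this.symm
  intro x hx y hy
  exact (Subgroup.mem_centralizer_iff.mp (h2 hy) x hx)

variable (hE : ∀ b c : B, b * (c * b * c⁻¹) = (c * b * c⁻¹) * b)
include hE

lemma conj_comm (a g k : B) : (g * a * g⁻¹) * (k * a * k⁻¹) = (k * a * k⁻¹) * (g * a * g⁻¹) := by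
  have h1 := hE a (g⁻¹ * k)
  have h2 : g * (a * (g⁻¹ * k * a * (g⁻¹ * k)⁻¹)) * g⁻¹ =
      g * ((g⁻¹ * k * a * (g⁻¹ * k)⁻¹) * a) * g⁻¹ := by rw [h1]
  have e1 : g * (a * (g⁻¹ * k * a * (g⁻¹ * k)⁻¹)) * g⁻¹ = (g * a * g⁻¹) * (k * a * k⁻¹) := by group
  have e2 : g * ((g⁻¹ * k * a * (g⁻¹ * k)⁻¹) * a) * g⁻¹ = (k * a * k⁻¹) * (g * a * g⁻¹) := by group
  rw [e1, e2] at h2
  exact h2

/-- the normal closure of an element is commutative -/
lemma nc_comm (a : B) : ∀ x ∈ Subgroup.normalClosure ({a} : Set B),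
    ∀ y ∈ Subgroup.normalClosure ({a} : Set B), x * y = y * x := by
  unfold Subgroup.normalClosure
  apply closure_comm
  intro s hs t ht
  rw [Group.mem_conjugatesOfSet_iff] at hs ht
  obtain ⟨a1, ha1, hs⟩ := hs
  obtain ⟨a2, ha2, ht⟩ := ht
  rw [Set.mem_singleton_iff] at ha1 ha2
  subst ha1 ha2
  rw [isConj_iff] at hs ht
  obtain ⟨g, rfl⟩ := hs
  obtain ⟨k, rfl⟩ := ht
  exact conj_comm hE _ g k

omit hE in
lemma self_mem_nc (a : B) : a ∈ Subgroup.normalClosure ({a} : Set B) :=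
  Subgroup.subset_normalClosure (Set.mem_singleton a)

omit hE in
lemma comm_mem_nc_left (a b : B) : ⁅a, b⁆ ∈ Subgroup.normalClosure ({a} : Set B) := by
  have h1 : ⁅a, b⁆ = a * (b * a⁻¹ * b⁻¹) := by rw [commutatorElement_def]; group
  rw [h1]
  exact Subgroup.mul_mem _ (self_mem_nc a)
    (Subgroup.normalClosure_normal.conj_mem _ (Subgroup.inv_mem _ (self_mem_nc a)) b)

omit hE in
lemma comm_mem_nc_right (a b : B) : ⁅a, b⁆ ∈ Subgroup.normalClosure ({b} : Set B) := by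
  have h1 : ⁅a, b⁆ = (a * b * a⁻¹) * b⁻¹ := by rw [commutatorElement_def]
  rw [h1]
  exact Subgroup.mul_mem _ (Subgroup.normalClosure_normal.conj_mem _ (self_mem_nc b) a)
    (Subgroup.inv_mem _ (self_mem_nc b))

omit hE in
lemma comm_mem_of_normal {N : Subgroup B} [N.Normal] {u : B} (hu : u ∈ N) (c : B) : ⁅u, c⁆ ∈ N := by
  have h1 : ⁅u, c⁆ = u * (c * u⁻¹ * c⁻¹) := by rw [commutatorElement_def]; group
  rw [h1]
  exact N.mul_mem hu (Subgroup.Normal.conj_mem inferInstance _ (N.inv_mem hu) c)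

lemma comm_comm_left (a b : B) : ⁅a, b⁆ * a = a * ⁅a, b⁆ :=
  nc_comm hE a _ (comm_mem_nc_left a b) _ (self_mem_nc a)

lemma comm_comm_right (a b : B) : ⁅a, b⁆ * b = b * ⁅a, b⁆ :=
  nc_comm hE b _ (comm_mem_nc_right a b) _ (self_mem_nc b)

/-- the triple commutator commutes with its three entries -/
lemma triple_comm (a b c : B) :
    ⁅⁅a, b⁆, c⁆ * a = a * ⁅⁅a, b⁆, c⁆ ∧ ⁅⁅a, b⁆, c⁆ * b = b * ⁅⁅a, b⁆, c⁆ ∧
      ⁅⁅a, b⁆, c⁆ * c = c * ⁅⁅a, b⁆, c⁆ := by
  refine ⟨?_, ?_, ?_⟩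
  · exact nc_comm hE a _ (comm_mem_of_normal (comm_mem_nc_left a b) c) _ (self_mem_nc a)
  · exact nc_comm hE b _ (comm_mem_of_normal (comm_mem_nc_right a b) c) _ (self_mem_nc b)
  · exact comm_comm_right hE _ c

lemma comm_inv_right (a b : B) : ⁅a, b⁻¹⁆ = ⁅a, b⁆⁻¹ := by
  have h1 : ⁅a, b⁻¹⁆ = b⁻¹ * ⁅a, b⁆⁻¹ * b := by simp only [commutatorElement_def]; group
  rw [h1]
  have h2 := comm_comm_right hE a b
  have h3 : ⁅a, b⁆⁻¹ * b = b * ⁅a, b⁆⁻¹ := by
    have := (Commute.inv_left (show Commute ⁅a, b⁆ b from h2))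
    exact this
  rw [mul_assoc, h3]; group

lemma anti12 (a b c : B) : ⁅⁅b, a⁆, c⁆ = ⁅⁅a, b⁆, c⁆⁻¹ := by
  have h0 : ⁅b, a⁆ = ⁅a, b⁆⁻¹ := (commutatorElement_inv a b).symm
  rw [h0]
  set u := ⁅a, b⁆ with hu
  have hmem : u ∈ Subgroup.normalClosure ({a} : Set B) := comm_mem_nc_left a b
  have hmem2 : c * u * c⁻¹ ∈ Subgroup.normalClosure ({a} : Set B) :=
    Subgroup.normalClosure_normal.conj_mem _ hmem c
  have hc : u⁻¹ * (c * u * c⁻¹) = (c * u * c⁻¹) * u⁻¹ :=
    nc_comm hE a _ (Subgroup.inv_mem _ hmem) _ hmem2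
  simp only [commutatorElement_def, mul_inv_rev, inv_inv]
  calc u⁻¹ * c * u * c⁻¹ = u⁻¹ * (c * u * c⁻¹) := by group
    _ = (c * u * c⁻¹) * u⁻¹ := hc
    _ = c * (u * (c⁻¹ * u⁻¹)) := by group

lemma anti23 (a b c : B) : ⁅⁅a, b⁆, c⁆ * ⁅⁅a, c⁆, b⁆ = 1 := by
  set u := ⁅a, b⁆ with hu
  set v := ⁅a, c⁆ with hv
  set t := ⁅u, c⁆ with ht
  set s := ⁅v, b⁆ with hs
  have hw : ⁅a, b * c⁆ = u * s⁻¹ * v := by
    simp only [hu, hv, hs, commutatorElement_def]; group
  -- w commutes with b * c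
  have hwc : ⁅a, b * c⁆ * (b * c) = (b * c) * ⁅a, b * c⁆ := comm_comm_right hE a (b * c)
  -- conjugates
  have hub : u * b = b * u := comm_comm_right hE a b
  have hvc : v * c = c * v := comm_comm_right hE a c
  obtain ⟨-, htb, htc⟩ := triple_comm hE a b c
  obtain ⟨-, hsc, hsb⟩ := triple_comm hE a c b
  have h1 : c * u * c⁻¹ = t⁻¹ * u := by simp only [ht, commutatorElement_def]; group
  have h2 : b * v * b⁻¹ = s⁻¹ * v := by simp only [hs, commutatorElement_def]; group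
  have h3 : (b * c) * u * (b * c)⁻¹ = t⁻¹ * u := by
    have e : (b * c) * u * (b * c)⁻¹ = b * (c * u * c⁻¹) * b⁻¹ := by group
    rw [e, h1]
    have e2 : t⁻¹ * b = b * t⁻¹ := (Commute.inv_left (show Commute t b from htb))
    calc b * (t⁻¹ * u) * b⁻¹ = (b * t⁻¹) * (u * b⁻¹) := by group
      _ = (t⁻¹ * b) * (u * b⁻¹) := by rw [e2]
      _ = t⁻¹ * ((b * u) * b⁻¹) := by group
      _ = t⁻¹ * ((u * b) * b⁻¹) := by rw [hub]
      _ = t⁻¹ * u := by group
  have h4 : (b * c) * v * (b * c)⁻¹ = s⁻¹ * v := by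
    have e : (b * c) * v * (b * c)⁻¹ = b * ((c * v) * c⁻¹) * b⁻¹ := by group
    rw [e, ← hvc]
    have e2 : b * (v * c * c⁻¹) * b⁻¹ = b * v * b⁻¹ := by group
    rw [e2, h2]
  have h5 : (b * c) * s⁻¹ * (b * c)⁻¹ = s⁻¹ := by
    have e1 : s⁻¹ * b = b * s⁻¹ := (Commute.inv_left (show Commute s b from hsb))
    have e2 : s⁻¹ * c = c * s⁻¹ := (Commute.inv_left (show Commute s c from hsc))
    calc (b * c) * s⁻¹ * (b * c)⁻¹ = b * (c * s⁻¹) * c⁻¹ * b⁻¹ := by group
      _ = b * (s⁻¹ * c) * c⁻¹ * b⁻¹ := by rw [e2]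
      _ = (b * s⁻¹) * b⁻¹ := by group
      _ = (s⁻¹ * b) * b⁻¹ := by rw [e1]
      _ = s⁻¹ := by group
  have h6 : (b * c) * (u * s⁻¹ * v) * (b * c)⁻¹ = (t⁻¹ * u) * s⁻¹ * (s⁻¹ * v) := by
    calc (b * c) * (u * s⁻¹ * v) * (b * c)⁻¹
        = ((b * c) * u * (b * c)⁻¹) * ((b * c) * s⁻¹ * (b * c)⁻¹) * ((b * c) * v * (b * c)⁻¹) := by
          group
      _ = (t⁻¹ * u) * s⁻¹ * (s⁻¹ * v) := by rw [h3, h4, h5]
  have h7 : (b * c) * (u * s⁻¹ * v) * (b * c)⁻¹ = u * s⁻¹ * v := by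
    rw [← hw]
    rw [← hwc]; group
  rw [h6] at h7
  -- t⁻¹ * u * s⁻¹ * s⁻¹ * v = u * s⁻¹ * v
  have htu : t * u = u * t := by
    have hmem_t : t ∈ Subgroup.normalClosure ({a} : Set B) :=
      comm_mem_of_normal (comm_mem_nc_left a b) c
    exact nc_comm hE a _ hmem_t _ (comm_mem_nc_left a b)
  have htu' : t⁻¹ * u = u * t⁻¹ := (Commute.inv_left (show Commute t u from htu))
  have h8 : u * (t⁻¹ * s⁻¹) * (s⁻¹ * v) = u * 1 * (s⁻¹ * v) := by
    calc u * (t⁻¹ * s⁻¹) * (s⁻¹ * v) = (u * t⁻¹) * s⁻¹ * (s⁻¹ * v) := by group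
      _ = (t⁻¹ * u) * s⁻¹ * (s⁻¹ * v) := by rw [htu']
      _ = u * s⁻¹ * v := h7
      _ = u * 1 * (s⁻¹ * v) := by group
  have h9 : t⁻¹ * s⁻¹ = 1 := mul_left_cancel (mul_right_cancel h8)
  have : (t * s)⁻¹ = 1 := by
    rw [mul_inv_rev]
    -- s⁻¹ * t⁻¹ = 1 from t⁻¹ * s⁻¹ = 1
    have h10 : s⁻¹ = t := by
      have := eq_inv_of_mul_eq_one_right h9
      simpa using this
    rw [h10]; group
  exact inv_eq_one.mp this

/-- **Levi**: a 2-Engel group without elements of order three has class at most two. -/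
theorem levi (h3 : ∀ b : B, b ^ 3 = 1 → b = 1) (a b c : B) : ⁅⁅a, b⁆, c⁆ = 1 := by
  apply h3
  have hHW : (b * ⁅⁅a, b⁻¹⁆⁻¹, c⁆ * b⁻¹) * (c * ⁅⁅b, c⁻¹⁆⁻¹, a⁆ * c⁻¹) *
      (a * ⁅⁅c, a⁻¹⁆⁻¹, b⁆ * a⁻¹) = 1 := by
    simp only [commutatorElement_def]
    group
  rw [comm_inv_right hE a b, comm_inv_right hE b c, comm_inv_right hE c a, inv_inv, inv_inv,
    inv_inv] at hHW
  have e1 : ⁅⁅b, c⁆, a⁆ = ⁅⁅a, b⁆, c⁆ := by
    have h1 := anti23 hE b c a
    have h2 := anti12 hE a b c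
    rw [h2] at h1
    exact mul_inv_eq_one.mp h1
  have e2 : ⁅⁅c, a⁆, b⁆ = ⁅⁅a, b⁆, c⁆ := by
    have h1 := anti12 hE a c b
    have h2 := anti23 hE a b c
    rw [h1]
    have : ⁅⁅a, c⁆, b⁆ = ⁅⁅a, b⁆, c⁆⁻¹ := (eq_inv_of_mul_eq_one_right h2)
    rw [this, inv_inv]
  rw [e1, e2] at hHW
  obtain ⟨hfa, hfb, hfc⟩ := triple_comm hE a b c
  generalize ⁅⁅a, b⁆, c⁆ = f at *
  have c1 : b * f * b⁻¹ = f := by rw [← hfb]; group
  have c2 : c * f * c⁻¹ = f := by rw [← hfc]; group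
  have c3 : a * f * a⁻¹ = f := by rw [← hfa]; group
  rw [c1, c2, c3] at hHW
  rw [pow_succ, pow_two]
  exact hHW

end levi

/-- a finite group without elements of order three and with a fixed-point-free automorphism of
order three has class at most two -/
theorem FPF3.class_two [Finite B] {σ : MulAut B} (h : FPF3 σ) (h3 : ∀ b : B, b ^ 3 = 1 → b = 1)
    (a b c : B) : ⁅⁅a, b⁆, c⁆ = 1 :=
  levi h.two_engel h3 a b c

section class2
variable (hcl : ∀ a b c : B, ⁅⁅a, b⁆, c⁆ = 1)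
include hcl

lemma comm_central (a b c : B) : ⁅a, b⁆ * c = c * ⁅a, b⁆ :=
  commutatorElement_eq_one_iff_mul_comm.mp (hcl a b c)

lemma comm_mul_left (a b c : B) : ⁅a * b, c⁆ = ⁅a, c⁆ * ⁅b, c⁆ := by
  have h1 : ⁅a * b, c⁆ = a * ⁅b, c⁆ * a⁻¹ * ⁅a, c⁆ := by
    simp only [commutatorElement_def]; group
  rw [h1, ← comm_central hcl b c a]
  have h2 : ⁅b, c⁆ * a * a⁻¹ * ⁅a, c⁆ = ⁅b, c⁆ * ⁅a, c⁆ := by group
  rw [h2, comm_central hcl b c]

lemma comm_mul_right (a b c : B) : ⁅a, b * c⁆ = ⁅a, b⁆ * ⁅a, c⁆ := by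
  have h1 : ⁅a, b * c⁆ = ⁅a, b⁆ * (b * ⁅a, c⁆ * b⁻¹) := by
    simp only [commutatorElement_def]; group
  rw [h1, ← comm_central hcl a c b]
  group

lemma comm_inv_right' (a b : B) : ⁅a, b⁻¹⁆ = ⁅a, b⁆⁻¹ := by
  have h1 := comm_mul_right hcl a b b⁻¹
  rw [mul_inv_cancel] at h1
  have h2 : ⁅a, (1 : B)⁆ = 1 := by simp [commutatorElement_def]
  rw [h2] at h1
  exact (eq_inv_of_mul_eq_one_right h1.symm)

omit hcl in
lemma comm_one_right (a : B) : ⁅a, (1 : B)⁆ = 1 := by simp [commutatorElement_def]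

omit hcl in
/-- `x y = ⁅x,y⁆ y x` -/
lemma mul_eq_comm_mul (x y : B) : x * y = ⁅x, y⁆ * (y * x) := by
  rw [commutatorElement_def]; group

omit hcl in
/-- pure computation: if `a b = c b a` with `c` central then `(b a)^2 = c b^2 a^2` -/
lemma sq_of_central {a b c : B} (hab : a * b = c * (b * a)) (hc : ∀ x : B, c * x = x * c) :
    (b * a) ^ 2 = c * (b ^ 2 * a ^ 2) := by
  calc (b * a) ^ 2 = b * (a * b) * a := by rw [pow_two]; group
    _ = b * (c * (b * a)) * a := by rw [hab]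
    _ = (b * c) * (b * a * a) := by group
    _ = (c * b) * (b * a * a) := by rw [hc b]
    _ = c * (b ^ 2 * a ^ 2) := by rw [pow_two, pow_two]; group

/-- in a class two group of exponent dividing 4, commutators have order at most two -/
lemma comm_sq (h4 : ∀ b : B, b ^ 4 = 1) (a b : B) : ⁅a, b⁆ ^ 2 = 1 := by
  have hc : ∀ x : B, ⁅a, b⁆ * x = x * ⁅a, b⁆ := comm_central hcl a b
  have hd : ∀ x : B, ⁅a ^ 2, b ^ 2⁆ * x = x * ⁅a ^ 2, b ^ 2⁆ := comm_central hcl _ _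
  have h3 : ⁅a ^ 2, b ^ 2⁆ = ⁅a, b⁆ ^ 4 := by
    rw [pow_two a, comm_mul_left hcl, pow_two b, comm_mul_right hcl]
    generalize ⁅a, b⁆ = c
    simp only [pow_succ, pow_zero, one_mul, mul_assoc]
  have h1 := sq_of_central (mul_eq_comm_mul a b) hc
  have h2 := sq_of_central (mul_eq_comm_mul (a ^ 2) (b ^ 2)) hd
  rw [h3, h4, one_mul, ← pow_mul, ← pow_mul, h4, h4, one_mul] at h2
  -- h2 : (b^2 * a^2)^2 = 1
  have h5 : (b * a) ^ 4 = ⁅a, b⁆ ^ 2 := by
    have e : (b * a) ^ 4 = ((b * a) ^ 2) ^ 2 := by rw [← pow_mul]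
    rw [e, h1]
    generalize ⁅a, b⁆ = c at hc ⊢
    generalize b ^ 2 * a ^ 2 = y at h2 ⊢
    calc (c * y) ^ 2 = c * (y * c) * y := by rw [pow_two]; group
      _ = c * (c * y) * y := by rw [hc y]
      _ = c ^ 2 * y ^ 2 := by rw [pow_two, pow_two]; group
      _ = c ^ 2 := by rw [h2, mul_one]
  rw [← h5, h4]

end class2

section S3action
variable [Finite B] {σ τ : MulAut B}

/-- involutions whose product squares to one commute -/
lemma comm_of_sq {u v : B} (hu : u ^ 2 = 1) (hv : v ^ 2 = 1) (huv : (u * v) ^ 2 = 1) :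
    u * v = v * u := by
  have hu' : u⁻¹ = u := by
    rw [inv_eq_iff_eq_inv, eq_inv_iff_mul_eq_one, ← pow_two]; exact hu
  have hv' : v⁻¹ = v := by
    rw [inv_eq_iff_eq_inv, eq_inv_iff_mul_eq_one, ← pow_two]; exact hv
  have h1 : u * v = (u * v)⁻¹ := by
    rw [eq_inv_iff_mul_eq_one, ← pow_two]; exact huv
  rw [h1, mul_inv_rev, hu', hv']

/-- Let `B` be a finite group of exponent dividing `4` acted on by `S₃ = ⟨σ, τ⟩` with `σ` of order
three fixed-point-free, such that `(τ a * a) ^ 2 = 1` for all `a`.  Then `B` has exponent two. -/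
theorem exponent_two_of_S3 (h : FPF3 σ) (hτσ : ∀ b, σ (τ b) = τ (σ (σ b)))
    (h4 : ∀ b : B, b ^ 4 = 1) (hn : ∀ a : B, (τ a * a) ^ 2 = 1) : ∀ b : B, b ^ 2 = 1 := by
  have h3 : ∀ b : B, b ^ 3 = 1 → b = 1 := by
    intro b hb
    have : b ^ 4 = b ^ 3 * b := pow_succ b 3
    rw [h4, hb, one_mul] at this
    exact this.symm
  have hcl : ∀ a b c : B, ⁅⁅a, b⁆, c⁆ = 1 := h.class_two h3
  have hcen : ∀ a b c : B, ⁅a, b⁆ * c = c * ⁅a, b⁆ := comm_central hcl
  have hsq : ∀ a b : B, ⁅a, b⁆ ^ 2 = 1 := comm_sq hcl h4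
  -- Step c
  have hc : ∀ a a' : B, (τ a * a) * (τ a' * a') = (τ a' * a') * (τ a * a) := by
    intro a a'
    apply comm_of_sq (hn a) (hn a')
    have e1 : (τ a * a) * (τ a' * a') = ⁅a, τ a'⁆ * (τ (a * a') * (a * a')) := by
      rw [map_mul]
      have := mul_eq_comm_mul a (τ a')
      calc τ a * a * (τ a' * a') = τ a * (a * τ a') * a' := by group
        _ = τ a * (⁅a, τ a'⁆ * (τ a' * a)) * a' := by rw [this]
        _ = (τ a * ⁅a, τ a'⁆) * (τ a' * a * a') := by group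
        _ = (⁅a, τ a'⁆ * τ a) * (τ a' * a * a') := by rw [hcen]
        _ = ⁅a, τ a'⁆ * (τ a * τ a' * (a * a')) := by group
    rw [e1]
    have hz := hsq a (τ a')
    have hzc := hcen a (τ a')
    have hnn := hn (a * a')
    generalize ⁅a, τ a'⁆ = z at hz hzc ⊢
    generalize τ (a * a') * (a * a') = y at hnn ⊢
    calc (z * y) ^ 2 = z * (y * z) * y := by rw [pow_two]; group
      _ = z * (z * y) * y := by rw [hzc y]
      _ = z ^ 2 * y ^ 2 := by rw [pow_two, pow_two]; group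
      _ = 1 := by rw [hz, hnn, one_mul]
  -- Step d
  have hd : ∀ a a' : B, ⁅τ a * a, σ (τ a' * a')⁆ = 1 := by
    intro a a'
    set u := τ a * a with hu
    set u' := τ a' * a' with hu'
    have huu' : ⁅u, u'⁆ = 1 := commutatorElement_eq_one_iff_mul_comm.mpr (hc a a')
    have hS1 : ⁅u, σ u'⁆ * ⁅u', σ u⁆ = 1 := by
      have h1 : ⁅u * u', σ (u * u')⁆ = 1 :=
        commutatorElement_eq_one_iff_mul_comm.mpr (h.comm (u * u'))
      rw [map_mul, comm_mul_left hcl, comm_mul_right hcl, comm_mul_right hcl] at h1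
      have e1 : ⁅u, σ u⁆ = 1 := commutatorElement_eq_one_iff_mul_comm.mpr (h.comm u)
      have e2 : ⁅u', σ u'⁆ = 1 := commutatorElement_eq_one_iff_mul_comm.mpr (h.comm u')
      rw [e1, e2, one_mul, mul_one] at h1
      exact h1
    have hσz : σ ⁅u, σ u'⁆ = ⁅u, σ u'⁆ := by
      rw [map_commutatorElement]
      have e1 : σ (σ u') = (u' * σ u')⁻¹ := by
        have := h.prod_eq_one u'
        exact eq_inv_of_mul_eq_one_right this
      rw [e1, comm_inv_right' hcl, comm_mul_right hcl]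
      have e2 : ⁅σ u, σ u'⁆ = 1 := by
        rw [← map_commutatorElement, huu', map_one]
      rw [e2, mul_one, commutatorElement_inv]
      -- ⁅u', σ u⁆ = ⁅u, σ u'⁆
      have e3 : ⁅u', σ u⁆ = ⁅u, σ u'⁆⁻¹ := (eq_inv_of_mul_eq_one_right hS1)
      rw [e3]
      have e4 := hsq u (σ u')
      rw [inv_eq_iff_eq_inv, eq_inv_iff_mul_eq_one, ← pow_two]
      exact e4
    exact h.fpf _ hσz
  -- the subgroup H
  let S : Set B := Set.range (fun a : B => τ a * a) ∪ σ '' Set.range (fun a : B => τ a * a)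
  have hScomm : ∀ s ∈ S, ∀ t ∈ S, s * t = t * s := by
    rintro s (⟨a, rfl⟩ | ⟨_, ⟨a, rfl⟩, rfl⟩) t (⟨a', rfl⟩ | ⟨_, ⟨a', rfl⟩, rfl⟩)
    · exact hc a a'
    · exact commutatorElement_eq_one_iff_mul_comm.mp (hd a a')
    · exact (commutatorElement_eq_one_iff_mul_comm.mp (hd a' a)).symm
    · simp only
      rw [← map_mul, ← map_mul, hc a a']
  have hHcomm := closure_comm hScomm
  have hHsq : ∀ x ∈ Subgroup.closure S, x ^ 2 = 1 := by
    intro x hx
    induction hx using Subgroup.closure_induction with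
    | mem s hs =>
      rcases hs with ⟨a, rfl⟩ | ⟨_, ⟨a, rfl⟩, rfl⟩
      · exact hn a
      · simp only
        rw [← map_pow, hn a, map_one]
    | one => exact one_pow 2
    | mul x y hx hy ihx ihy =>
      have := hHcomm x hx y hy
      rw [pow_two]
      calc x * y * (x * y) = x * (y * x) * y := by group
        _ = x * (x * y) * y := by rw [this]
        _ = x ^ 2 * y ^ 2 := by rw [pow_two, pow_two]; group
        _ = 1 := by rw [ihx, ihy, one_mul]
    | inv x hx ih => rw [inv_pow, ih, inv_one]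
  -- every element is in H modulo the commutator subgroup
  let π : B →* Abelianization B := Abelianization.of
  have hhb : ∀ b : B, ∃ hb ∈ Subgroup.closure S, π hb = π (τ (σ (σ b))) ^ 2 * (π b)⁻¹ := by
    intro b
    refine ⟨(τ (σ (σ b)) * σ (σ b)) * σ (τ b * b), ?_, ?_⟩
    · apply Subgroup.mul_mem
      · exact Subgroup.subset_closure (Or.inl ⟨σ (σ b), rfl⟩)
      · exact Subgroup.subset_closure (Or.inr ⟨_, ⟨b, rfl⟩, rfl⟩)
    · rw [map_mul σ, hτσ]
      have h1 : π b * π (σ b) * π (σ (σ b)) = 1 := by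
        rw [← map_mul, ← map_mul, h.prod_eq_one, map_one]
      have h2 : π (σ (σ b)) * π (σ b) = (π b)⁻¹ := by
        rw [eq_inv_iff_mul_eq_one, ← h1]
        ac_rfl
      simp only [map_mul]
      rw [← h2]
      generalize π (τ (σ (σ b))) = C
      generalize π (σ (σ b)) = X
      generalize π (σ b) = Y
      rw [pow_two]
      ac_rfl
  have hcsq : ∀ c : B, π c ^ 2 = 1 := by
    intro c
    obtain ⟨hcc, hccH, hcc'⟩ := hhb c
    have e1 : π c = π (τ (σ (σ c))) ^ 2 * (π hcc)⁻¹ := by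
      rw [hcc']
      generalize π (τ (σ (σ c))) ^ 2 = X
      generalize π c = Y
      rw [mul_inv_rev, inv_inv, mul_comm Y, mul_inv_cancel_left]
    have e2 : (π (τ (σ (σ c))) ^ 2) ^ 2 = 1 := by
      rw [← pow_mul, ← map_pow π, h4, map_one]
    have e3 : (π hcc)⁻¹ ^ 2 = 1 := by
      rw [inv_pow, ← map_pow π, hHsq hcc hccH, map_one, inv_one]
    rw [e1, mul_pow, e2, e3, one_mul]
  have hmem : ∀ b : B, ∃ hb ∈ Subgroup.closure S, b * hb ∈ commutator B := by
    intro b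
    obtain ⟨hb, hbH, hb'⟩ := hhb b
    refine ⟨hb, hbH, ?_⟩
    rw [← Abelianization.ker_of, MonoidHom.mem_ker, map_mul]
    change π b * π hb = 1
    rw [hb', hcsq, one_mul, mul_inv_cancel]
  have hcomm_le : commutator B ≤ Subgroup.center B := by
    rw [commutator_def, Subgroup.commutator_le]
    intro a _ b _
    rw [Subgroup.mem_center_iff]
    intro g
    exact (hcen a b g).symm
  have hab : ∀ b b' : B, ⁅b, b'⁆ = 1 := by
    intro b b'
    obtain ⟨k, hkH, hk⟩ := hmem b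
    obtain ⟨k', hkH', hk'⟩ := hmem b'
    have hz := Subgroup.mem_center_iff.mp (hcomm_le hk)
    have hz' := Subgroup.mem_center_iff.mp (hcomm_le hk')
    have eb : b = (b * k) * k⁻¹ := by group
    have eb' : b' = (b' * k') * k'⁻¹ := by group
    have hkk : k⁻¹ * k'⁻¹ = k'⁻¹ * k⁻¹ :=
      hHcomm _ (Subgroup.inv_mem _ hkH) _ (Subgroup.inv_mem _ hkH')
    rw [commutatorElement_eq_one_iff_mul_comm, eb, eb']
    generalize b * k = z at hz
    generalize b' * k' = z' at hz'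
    calc z * k⁻¹ * (z' * k'⁻¹) = z * (k⁻¹ * z') * k'⁻¹ := by group
      _ = z * (z' * k⁻¹) * k'⁻¹ := by rw [hz' k⁻¹]
      _ = (z * z') * (k⁻¹ * k'⁻¹) := by group
      _ = (z' * z) * (k'⁻¹ * k⁻¹) := by rw [hkk, hz z']
      _ = z' * (z * k'⁻¹) * k⁻¹ := by group
      _ = z' * (k'⁻¹ * z) * k⁻¹ := by rw [hz k'⁻¹]
      _ = z' * k'⁻¹ * (z * k⁻¹) := by group
  have hbot : commutator B = ⊥ := by
    rw [commutator_def, Subgroup.commutator_eq_bot_iff_le_centralizer]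
    intro a _
    rw [Subgroup.mem_centralizer_iff]
    intro g _
    exact (commutatorElement_eq_one_iff_mul_comm.mp (hab g a))
  intro b
  obtain ⟨k, hkH, hk⟩ := hmem b
  rw [hbot, Subgroup.mem_bot] at hk
  have : b = k⁻¹ := eq_inv_of_mul_eq_one_left hk
  rw [this, inv_pow, hHsq k hkH, inv_one]

end S3action

end Cfsg.Agent.Lib.Helper66.F3
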