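import Mathlib.GroupTheory.IsPerfect
import Mathlib.GroupTheory.Abelianization.Defs
import Mathlib.GroupTheory.Subgroup.Center

set_option autoImplicit false

namespace Cfsg.Agent.Lib.Helper66

/-- A homomorphism from a perfect group to a commutative group is trivial. -/
theorem hom_eq_one_of_isPerfect {G A : Type*} [Group G] [CommGroup A] (hG : Group.IsPerfect G)
    (f : G →* A) (x : G) : f x = 1 := by
  have h1 : commutator G ≤ f.ker := Abelianization.commutator_subset_ker f
  rw [hG.commutator_eq_top] at h1
  exact MonoidHom.mem_ker.mp (h1 (Subgroup.mem_top x))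

open scoped IsMulCommutative in
/-- A homomorphism from a perfect group to a commutative group is trivial. -/
theorem hom_eq_one_of_isPerfect' {G A : Type*} [Group G] [Group A] [IsMulCommutative A]
    (hG : Group.IsPerfect G) (f : G →* A) (x : G) : f x = 1 :=
  hom_eq_one_of_isPerfect hG f x

/-- Gruen's lemma: in a perfect group, an element whose commutators are all central is central. -/
theorem mem_center_of_forall_commutator_mem_center {G : Type*} [Group G] (hG : Group.IsPerfect G)
    (g : G) (h : ∀ x : G, g * x * g⁻¹ * x⁻¹ ∈ Subgroup.center G) : g ∈ Subgroup.center G := by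
  let f : G →* Subgroup.center G := MonoidHom.mk' (fun x => ⟨g * x * g⁻¹ * x⁻¹, h x⟩) (by
    intro a b
    apply Subtype.ext
    simp only [Subgroup.coe_mul]
    have hb := h b
    rw [Subgroup.mem_center_iff] at hb
    have := hb (a⁻¹)
    calc g * (a * b) * g⁻¹ * (a * b)⁻¹ = g * a * g⁻¹ * ((g * b * g⁻¹ * b⁻¹) * a⁻¹) := by group
      _ = g * a * g⁻¹ * (a⁻¹ * (g * b * g⁻¹ * b⁻¹)) := by rw [this]
      _ = g * a * g⁻¹ * a⁻¹ * (g * b * g⁻¹ * b⁻¹) := by group)
  rw [Subgroup.mem_center_iff]
  intro x
  have hx := hom_eq_one_of_isPerfect' hG f x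
  have hx' : g * x * g⁻¹ * x⁻¹ = 1 := congrArg Subtype.val hx
  calc x * g = (g * x * g⁻¹ * x⁻¹)⁻¹ * (g * x) := by group
    _ = g * x := by rw [hx']; simp

end Cfsg.Agent.Lib.Helper66
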