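import Mathlib
import Cfsg.Agent.Lib.Helper66.Perfect

set_option autoImplicit false

namespace Cfsg.Agent.Lib.Helper66

open scoped commutatorElement

/-- Commutators are unchanged by central factors. -/
theorem commutatorElement_mul_central {P : Type*} [Group P] (a b z w : P)
    (hz : z ∈ Subgroup.center P) (hw : w ∈ Subgroup.center P) :
    ⁅a * z, b * w⁆ = ⁅a, b⁆ := by
  have hz' : ∀ g, g * z = z * g := Subgroup.mem_center_iff.mp hz
  have hw' : ∀ g, g * w = w * g := Subgroup.mem_center_iff.mp hw
  have h1 : (a * z) * (b * w) = (a * b) * (z * w) := by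
    calc (a * z) * (b * w) = a * ((z * b) * w) := by group
      _ = a * ((b * z) * w) := by rw [hz' b]
      _ = (a * b) * (z * w) := by group
  have h2 : (b * w) * (a * z) = (b * a) * (z * w) := by
    calc (b * w) * (a * z) = b * ((w * a) * z) := by group
      _ = b * ((a * w) * z) := by rw [hw' a]
      _ = (b * a) * (w * z) := by group
      _ = (b * a) * (z * w) := by rw [hz' w]
  rw [commutatorElement_def, commutatorElement_def]
  calc a * z * (b * w) * (a * z)⁻¹ * (b * w)⁻¹ = ((a * z) * (b * w)) * ((b * w) * (a * z))⁻¹ := by group
    _ = (a * b) * (z * w) * ((b * a) * (z * w))⁻¹ := by rw [h1, h2]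
    _ = a * b * a⁻¹ * b⁻¹ := by group

/-- If `f : P →* G` has central kernel then the commutator of two elements depends only on
their images. -/
theorem commutatorElement_eq_of_map_eq {P G : Type*} [Group P] [Group G] (f : P →* G)
    (hker : f.ker ≤ Subgroup.center P) (a a' b b' : P) (ha : f a = f a') (hb : f b = f b') :
    ⁅a, b⁆ = ⁅a', b'⁆ := by
  have hz : a'⁻¹ * a ∈ Subgroup.center P := by
    apply hker; rw [MonoidHom.mem_ker, map_mul, map_inv, ha]; simp
  have hw : b'⁻¹ * b ∈ Subgroup.center P := by
    apply hker; rw [MonoidHom.mem_ker, map_mul, map_inv, hb]; simp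
  have := commutatorElement_mul_central a' b' _ _ hz hw
  rw [← this]
  congr 1 <;> group

/-- Schur: a central extension of a finite group has finite commutator subgroup. -/
theorem finite_commutator_of_central {P G : Type*} [Group P] [Group G] [Finite G] (f : P →* G)
    (hf : Function.Surjective f) (hker : f.ker ≤ Subgroup.center P) : Finite (commutator P) := by
  have hfin : Finite (commutatorSet P) := by
    let s : G → P := Function.surjInv hf
    have hs : ∀ g, f (s g) = g := Function.surjInv_eq hf
    apply Set.Finite.subset (Set.finite_range (fun ab : G × G => ⁅s ab.1, s ab.2⁆))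
    rintro _ ⟨g₁, g₂, rfl⟩
    refine ⟨(f g₁, f g₂), ?_⟩
    exact commutatorElement_eq_of_map_eq f hker _ _ _ _ (hs _) (hs _)
  infer_instance

/-- A central extension with a section-like surjection: if `f : P →* G` is surjective with central kernel
then `commutator P` maps onto `commutator G`. -/
theorem map_commutator_eq_of_surjective {P G : Type*} [Group P] [Group G] (f : P →* G)
    (hf : Function.Surjective f) : (commutator P).map f = commutator G := by
  rw [commutator_def, Subgroup.map_commutator, commutator_def]
  have : (⊤ : Subgroup P).map f = ⊤ := by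
    rw [← MonoidHom.range_eq_map]; exact MonoidHom.range_eq_top.mpr hf
  rw [this]

/-- If `f : P →* G` is surjective with central kernel and `G` is perfect then `commutator P`
is perfect. -/
theorem commutator_isPerfect_of_central {P G : Type*} [Group P] [Group G] (hG : Group.IsPerfect G)
    (f : P →* G) (hf : Function.Surjective f) (hker : f.ker ≤ Subgroup.center P) :
    ⁅commutator P, commutator P⁆ = commutator P := by
  apply le_antisymm (Subgroup.commutator_le_self _)
  have hmap := map_commutator_eq_of_surjective f hf
  rw [hG.commutator_eq_top] at hmap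
  -- every element of P is congruent to an element of commutator P modulo the kernel
  have key : ∀ p : P, ∃ d ∈ commutator P, f d = f p := by
    intro p
    have : f p ∈ (commutator P).map f := by rw [hmap]; exact Subgroup.mem_top _
    obtain ⟨d, hd, hdp⟩ := this
    exact ⟨d, hd, hdp⟩
  conv_lhs => rw [commutator_def]
  rw [Subgroup.commutator_le]
  intro p _ q _
  obtain ⟨d, hd, hdp⟩ := key p
  obtain ⟨e, he, heq⟩ := key q
  rw [commutatorElement_eq_of_map_eq f hker p d q e hdp.symm heq.symm]
  exact Subgroup.commutator_mem_commutator hd he

end Cfsg.Agent.Lib.Helper66
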