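import Mathlib
import Cfsg.Agent.Lib.Helper66.Orbits

set_option autoImplicit false

namespace Cfsg.Agent.Lib.Helper66

/-- A nontrivial automorphism of prime order `q ≠ p` of a finite abelian `p`-group `A` forces
`q ∣ p ^ f - 1` for some `1 ≤ f ≤ rank A`. -/
theorem prime_dvd_pow_sub_one_of_aut {A : Type*} [CommGroup A] [Finite A] (p q : ℕ)
    [hp : Fact p.Prime] [hq : Fact q.Prime] (hqp : q ≠ p) (hA : IsPGroup p A) (ψ : MulAut A)
    (hψ1 : ψ ≠ 1) (hψq : ψ ^ q = 1) :
    ∃ f : ℕ, 1 ≤ f ∧ f ≤ Group.rank A ∧ q ∣ p ^ f - 1 := by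
  classical
  have : Fintype A := Fintype.ofFinite A
  -- the commutator map
  let θ : A →* A := ψ.toMonoidHom / MonoidHom.id A
  have hθ : ∀ a, θ a = ψ a / a := fun a => rfl
  let W : Subgroup A := θ.range
  let Ω : Subgroup A := (powMonoidHom p : A →* A).ker
  have hΩ : ∀ a, a ∈ Ω ↔ a ^ p = 1 := fun a => by
    change a ∈ (powMonoidHom p : A →* A).ker ↔ _
    rw [MonoidHom.mem_ker, powMonoidHom_apply]
  let U : Subgroup A := W ⊓ Ω
  -- fixed points in W are trivial
  have hfpf : ∀ w ∈ W, ψ w = w → w = 1 := by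
    rintro w ⟨v, rfl⟩ hw
    have hv : ψ v = θ v * v := by rw [hθ]; simp
    have hpow : ∀ i : ℕ, (ψ ^ i) v = (θ v) ^ i * v := by
      intro i
      induction i with
      | zero => simp
      | succ i ih =>
        rw [pow_succ', MulAut.mul_apply, ih, map_mul, map_pow, hw, hv, pow_succ]
        simp [mul_assoc]
    have h1 := hpow q
    rw [hψq, MulAut.one_apply] at h1
    have h2 : (θ v) ^ q = 1 := by
      have : (θ v) ^ q * v = 1 * v := by rw [← h1, one_mul]
      exact mul_right_cancel this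
    obtain ⟨n, hn⟩ := hA (θ v)
    have hcop : Nat.Coprime q (p ^ n) :=
      Nat.Coprime.pow_right _ ((Nat.coprime_primes hq.1 hp.1).mpr hqp)
    have h3 : orderOf (θ v) ∣ q := orderOf_dvd_of_pow_eq_one h2
    have h4 : orderOf (θ v) ∣ p ^ n := orderOf_dvd_of_pow_eq_one hn
    have h5 : orderOf (θ v) = 1 := Nat.eq_one_of_dvd_coprimes hcop h3 h4
    exact orderOf_eq_one_iff.mp h5
  -- U is invariant under ψ
  have hUinv : ∀ y ∈ U, ψ y ∈ U := by
    rintro y ⟨⟨v, rfl⟩, hy2⟩
    have hy2' : θ v ∈ Ω := hy2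
    refine ⟨⟨ψ v, ?_⟩, (?_ : ψ (θ v) ∈ Ω)⟩
    · rw [hθ, hθ, map_div]
    · rw [hΩ] at hy2' ⊢
      rw [← map_pow, hy2', map_one]
  -- U is nontrivial
  have hWne : W ≠ ⊥ := by
    intro hW
    apply hψ1
    ext a
    have : θ a ∈ W := ⟨a, rfl⟩
    rw [hW, Subgroup.mem_bot, hθ, div_eq_one] at this
    rw [this, MulAut.one_apply]
  have hWp : IsPGroup p W := hA.to_subgroup W
  have hUp : IsPGroup p U := hA.to_subgroup U
  obtain ⟨f, hf⟩ := IsPGroup.iff_card.mp hUp
  have hUne : U ≠ ⊥ := by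
    obtain ⟨n, hn⟩ := IsPGroup.iff_card.mp hWp
    have hn0 : n ≠ 0 := by
      rintro rfl
      rw [pow_zero] at hn
      exact hWne (Subgroup.card_eq_one.mp hn)
    have hdvd : p ∣ Nat.card W := by rw [hn]; exact dvd_pow_self p hn0
    obtain ⟨x, hx⟩ := exists_prime_orderOf_dvd_card' p hdvd
    intro hU
    have hxU : (x : A) ∈ U := by
      refine ⟨x.2, (?_ : (x : A) ∈ Ω)⟩
      rw [hΩ]
      have : x ^ p = 1 := by rw [← hx]; exact pow_orderOf_eq_one x
      have := congrArg Subtype.val this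
      simpa using this
    rw [hU, Subgroup.mem_bot] at hxU
    have : x = 1 := Subtype.ext hxU
    rw [this, orderOf_one] at hx
    exact hp.1.one_lt.ne hx
  have hf1 : 1 ≤ f := by
    rcases Nat.eq_zero_or_pos f with h | h
    · rw [h, pow_zero] at hf
      exact absurd (Subgroup.card_eq_one.mp hf) hUne
    · exact h
  -- the action of the cyclic group generated by ψ
  have hord : orderOf ψ = q := orderOf_eq_prime hψq hψ1
  have hZcard : Nat.card (Subgroup.zpowers ψ) = q ^ 1 := by rw [Nat.card_zpowers, hord, pow_one]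
  have hZp : IsPGroup q (Subgroup.zpowers ψ) := IsPGroup.of_card hZcard
  have hpowinv : ∀ k : ℕ, ∀ y ∈ U, (ψ ^ k) y ∈ U := by
    intro k
    induction k with
    | zero => intro y hy; simpa using hy
    | succ k ih =>
      intro y hy
      have : (ψ ^ (k + 1)) y = ψ ((ψ ^ k) y) := by rw [pow_succ', MulAut.mul_apply]
      rw [this]
      exact hUinv _ (ih y hy)
  have hZinv : ∀ g : Subgroup.zpowers ψ, ∀ y ∈ U, (g : MulAut A) y ∈ U := by
    rintro ⟨g, hg⟩ y hy
    rw [← mem_powers_iff_mem_zpowers] at hg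
    obtain ⟨k, rfl⟩ := hg
    exact hpowinv k y hy
  let Y : Finset A := Finset.univ.filter (fun a => a ∈ U)
  have hYcard : Y.card = Nat.card U := by
    rw [Nat.card_eq_fintype_card, Fintype.card_subtype]
  have key := card_modEq_card_fixed_of_invariant (G := Subgroup.zpowers ψ) (Z := A) q hZp Y
    (by
      intro g y hy
      rw [Finset.mem_filter] at hy ⊢
      exact ⟨Finset.mem_univ _, hZinv g y hy.2⟩) {1}
    (by
      intro y
      rw [Finset.mem_singleton, Finset.mem_filter]
      constructor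
      · rintro rfl
        refine ⟨⟨Finset.mem_univ _, U.one_mem⟩, fun g => ?_⟩
        exact map_one (g : MulAut A)
      · rintro ⟨⟨_, hyU⟩, hfix⟩
        apply hfpf y hyU.1
        exact hfix ⟨ψ, Subgroup.mem_zpowers ψ⟩)
  rw [hYcard, hf, Finset.card_singleton] at key
  have hpf1 : 1 ≤ p ^ f := Nat.one_le_pow _ _ hp.1.pos
  have hq_dvd : q ∣ p ^ f - 1 := (Nat.modEq_iff_dvd' hpf1).mp key.symm
  -- bound on f
  have hfrank : f ≤ Group.rank A := by
    let Q := A ⧸ (powMonoidHom p : A →* A).range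
    have hQexp : ∀ x : Q, x ^ p = 1 := by
      intro x
      obtain ⟨a, rfl⟩ := QuotientGroup.mk_surjective x
      rw [← QuotientGroup.mk_pow, QuotientGroup.eq_one_iff]
      exact ⟨a, rfl⟩
    have h1 : Nat.card Q ∣ p ^ Group.rank Q := card_dvd_exponent_pow_rank' Q hQexp
    have h2 : Group.rank Q ≤ Group.rank A :=
      Group.rank_le_of_surjective (QuotientGroup.mk' _) (QuotientGroup.mk'_surjective _)
    -- |Ω| = |Q|
    have h3 : Nat.card Ω * Nat.card (powMonoidHom p : A →* A).range = Nat.card A := by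
      have e := QuotientGroup.quotientKerEquivRange (powMonoidHom p : A →* A)
      have := Subgroup.card_eq_card_quotient_mul_card_subgroup (powMonoidHom p : A →* A).ker
      rw [Nat.card_congr e.toEquiv] at this
      rw [this, mul_comm]
    have h4 : Nat.card Q * Nat.card (powMonoidHom p : A →* A).range = Nat.card A :=
      (Subgroup.card_eq_card_quotient_mul_card_subgroup _).symm
    have hrpos : 0 < Nat.card (powMonoidHom p : A →* A).range := Nat.card_pos
    have h5 : Nat.card Ω = Nat.card Q :=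
      Nat.eq_of_mul_eq_mul_right hrpos (h3.trans h4.symm)
    have h6 : Nat.card U ∣ Nat.card Ω := Subgroup.card_dvd_of_le inf_le_right
    have h7 : p ^ f ∣ p ^ Group.rank Q := by
      rw [← hf]; exact h6.trans (h5 ▸ h1)
    have h8 : f ≤ Group.rank Q := (Nat.pow_dvd_pow_iff_le_right hp.1.one_lt).mp h7
    exact h8.trans h2
  exact ⟨f, hf1, hfrank, hq_dvd⟩

end Cfsg.Agent.Lib.Helper66
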