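import Mathlib
import Cfsg.Prelude.Def_KGroupFacts

set_option autoImplicit false

namespace Cfsg.Agent.Lib.Helper66

open scoped commutatorElement

/-- If the generators commute modulo a normal subgroup `N` then the commutator subgroup lies in `N`. -/
theorem commutator_le_of_generators {Γ : Type*} [Group Γ] (N : Subgroup Γ) [N.Normal] (S : Set Γ)
    (hS : Subgroup.closure S = ⊤) (hcomm : ∀ x ∈ S, ∀ y ∈ S, x * y * x⁻¹ * y⁻¹ ∈ N) :
    commutator Γ ≤ N := by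
  let mk := QuotientGroup.mk' N
  have hS' : Subgroup.closure (mk '' S) = ⊤ := by
    rw [← MonoidHom.map_closure, hS, ← MonoidHom.range_eq_map]
    exact MonoidHom.range_eq_top.mpr (QuotientGroup.mk'_surjective N)
  have hc : ∀ a ∈ mk '' S, ∀ b ∈ mk '' S, a * b = b * a := by
    rintro _ ⟨x, hx, rfl⟩ _ ⟨y, hy, rfl⟩
    have h1 : mk (x * y * x⁻¹ * y⁻¹) = 1 := (QuotientGroup.eq_one_iff _).mpr (hcomm x hx y hy)
    simp only [map_mul, map_inv] at h1
    calc mk x * mk y = (mk x * mk y * (mk x)⁻¹ * (mk y)⁻¹) * (mk y * mk x) := by group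
      _ = mk y * mk x := by rw [h1, one_mul]
  have hI := Subgroup.isMulCommutative_closure hc
  have hall : ∀ a b : Γ ⧸ N, a * b = b * a := by
    intro a b
    have ha : a ∈ Subgroup.closure (mk '' S) := by rw [hS']; exact Subgroup.mem_top _
    have hb : b ∈ Subgroup.closure (mk '' S) := by rw [hS']; exact Subgroup.mem_top _
    have := hI.is_comm.comm ⟨a, ha⟩ ⟨b, hb⟩
    exact congrArg Subtype.val this
  rw [commutator_def, Subgroup.commutator_le]
  intro x _ y _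
  apply (QuotientGroup.eq_one_iff (N := N) _).mp
  change mk ⁅x, y⁆ = 1
  rw [commutatorElement_def]
  simp only [map_mul, map_inv]
  rw [hall (mk x) (mk y)]
  group

/-- If `σ` is surjective and the images of `S` generate then `S` and the kernel generate. -/
theorem closure_sup_ker_eq_top {Γ G : Type*} [Group Γ] [Group G] (σ : Γ →* G)
    (S : Set Γ) (hS : Subgroup.closure (σ '' S) = ⊤) :
    Subgroup.closure S ⊔ σ.ker = ⊤ := by
  rw [← Subgroup.comap_map_eq, MonoidHom.map_closure, hS, Subgroup.comap_top]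

/-- Key computation for central extensions of groups of dihedral type. -/
theorem dihedralType_ker {Γ : Type*} [Group Γ] [Finite Γ] (Z : Subgroup Γ)
    (hZc : Z ≤ Subgroup.center Γ) (hZd : Z ≤ commutator Γ) (α β z0 : Γ) (hz0 : z0 ∈ Z)
    (hrel : β * α * β⁻¹ = α⁻¹ * z0) (hgen : Subgroup.closure {α, β} ⊔ Z = ⊤) :
    ∀ z ∈ Z, (∃ k : ℤ, ((α ^ 2)⁻¹ * z0) ^ k = z) ∧ z * z = 1 := by
  set c : Γ := (α ^ 2)⁻¹ * z0 with hc
  have hcen : ∀ z ∈ Z, ∀ g : Γ, g * z = z * g := fun z hz => Subgroup.mem_center_iff.mp (hZc hz)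
  have hz0c := hcen z0 hz0
  -- c = β α β⁻¹ α⁻¹
  have hc1 : β * α * β⁻¹ * α⁻¹ = c := by
    rw [hrel, hc]
    calc α⁻¹ * z0 * α⁻¹ = α⁻¹ * (z0 * α⁻¹) := by group
      _ = α⁻¹ * (α⁻¹ * z0) := by rw [hz0c]
      _ = (α ^ 2)⁻¹ * z0 := by group
  have hαc : α * c * α⁻¹ = c := by
    rw [hc]
    calc α * ((α ^ 2)⁻¹ * z0) * α⁻¹ = (α ^ 2)⁻¹ * (α * z0) * α⁻¹ := by group
      _ = (α ^ 2)⁻¹ * (z0 * α) * α⁻¹ := by rw [hz0c]
      _ = (α ^ 2)⁻¹ * z0 := by group
  have hβα' : β * α⁻¹ * β⁻¹ = z0⁻¹ * α := by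
    have : β * α⁻¹ * β⁻¹ = (β * α * β⁻¹)⁻¹ := by group
    rw [this, hrel]; group
  have hβz : β * z0 * β⁻¹ = z0 := by
    rw [hz0c β]; group
  have hβc : β * c * β⁻¹ = c⁻¹ := by
    rw [hc, pow_two]
    have hz0i1 : α * z0⁻¹ = z0⁻¹ * α := by
      have h := hz0c α
      calc α * z0⁻¹ = z0⁻¹ * (z0 * α) * z0⁻¹ := by group
        _ = z0⁻¹ * (α * z0) * z0⁻¹ := by rw [h]
        _ = z0⁻¹ * α := by group
    calc β * ((α * α)⁻¹ * z0) * β⁻¹ = (β * α⁻¹ * β⁻¹) * (β * α⁻¹ * β⁻¹) * (β * z0 * β⁻¹) := by group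
      _ = (z0⁻¹ * α) * (z0⁻¹ * α) * z0 := by rw [hβα', hβz]
      _ = z0⁻¹ * (α * z0⁻¹) * α * z0 := by simp only [mul_assoc]
      _ = z0⁻¹ * (z0⁻¹ * α) * α * z0 := by rw [hz0i1]
      _ = z0⁻¹ * z0⁻¹ * ((α * α) * z0) := by simp only [mul_assoc]
      _ = z0⁻¹ * z0⁻¹ * (z0 * (α * α)) := by rw [hz0c (α * α)]
      _ = z0⁻¹ * (α * α) := by simp only [mul_assoc, inv_mul_cancel_left]
      _ = ((α * α)⁻¹ * z0)⁻¹ := by simp only [mul_inv_rev, inv_inv]
  let N : Subgroup Γ := Subgroup.zpowers c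
  have hαN : α ∈ Subgroup.normalizer (N : Set Γ) := by
    apply Subgroup.mem_normalizer_fintype
    rintro _ ⟨k, rfl⟩
    refine ⟨k, ?_⟩
    change c ^ k = α * c ^ k * α⁻¹
    have : α * c ^ k * α⁻¹ = (α * c * α⁻¹) ^ k := (conj_zpow).symm
    rw [this, hαc]
  have hβN : β ∈ Subgroup.normalizer (N : Set Γ) := by
    apply Subgroup.mem_normalizer_fintype
    rintro _ ⟨k, rfl⟩
    refine ⟨-k, ?_⟩
    change c ^ (-k) = β * c ^ k * β⁻¹
    have : β * c ^ k * β⁻¹ = (β * c * β⁻¹) ^ k := (conj_zpow).symm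
    rw [this, hβc, inv_zpow, zpow_neg]
  have hZN : Z ≤ Subgroup.normalizer (N : Set Γ) := by
    intro z hz
    apply Subgroup.mem_normalizer_fintype
    intro n hn
    have : z * n * z⁻¹ = n := by
      rw [← hcen z hz n]; group
    rw [this]; exact hn
  have hNn : N.Normal := by
    rw [← Subgroup.normalizer_eq_top_iff, eq_top_iff, ← hgen]
    apply sup_le _ hZN
    rw [Subgroup.closure_le]
    rintro x (rfl | rfl)
    · exact hαN
    · exact hβN
  have hS : Subgroup.closure (({α, β} : Set Γ) ∪ (Z : Set Γ)) = ⊤ := by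
    rw [Subgroup.closure_union, Subgroup.closure_eq, hgen]
  have hcN : c ∈ N := Subgroup.mem_zpowers c
  have hle : commutator Γ ≤ N := by
    apply commutator_le_of_generators N _ hS
    have hZ1 : ∀ z ∈ Z, ∀ g : Γ, z * g * z⁻¹ * g⁻¹ ∈ N ∧ g * z * g⁻¹ * z⁻¹ ∈ N := by
      intro z hz g
      have h1 : z * g * z⁻¹ * g⁻¹ = 1 := by
        rw [← hcen z hz g]; group
      have h2 : g * z * g⁻¹ * z⁻¹ = 1 := by
        rw [hcen z hz g]; group
      rw [h1, h2]; exact ⟨N.one_mem, N.one_mem⟩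
    rintro x (hx | hx) y (hy | hy)
    · have hx' : x = α ∨ x = β := hx
      have hy' : y = α ∨ y = β := hy
      rcases hx' with hx' | hx' <;> rcases hy' with hy' | hy' <;> rw [hx', hy']
      · have : α * α * α⁻¹ * α⁻¹ = 1 := by group
        rw [this]; exact N.one_mem
      · have : α * β * α⁻¹ * β⁻¹ = (β * α * β⁻¹ * α⁻¹)⁻¹ := by group
        rw [this, hc1]; exact N.inv_mem hcN
      · rw [hc1]; exact hcN
      · have : β * β * β⁻¹ * β⁻¹ = 1 := by group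
        rw [this]; exact N.one_mem
    · exact (hZ1 y hy x).2
    · exact (hZ1 x hx y).1
    · exact (hZ1 x hx y).1
  intro z hz
  obtain ⟨k, hk⟩ := hle (hZd hz)
  have hk' : c ^ k = z := hk
  refine ⟨⟨k, hk'⟩, ?_⟩
  have h1 : β * z * β⁻¹ = z := by
    rw [hcen z hz β]; group
  have h2 : β * z * β⁻¹ = z⁻¹ := by
    rw [← hk']
    have : β * c ^ k * β⁻¹ = (β * c * β⁻¹) ^ k := (conj_zpow).symm
    rw [this, hβc, inv_zpow]
  rw [h1] at h2
  calc z * z = z * z⁻¹ := by rw [← h2]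
    _ = 1 := mul_inv_cancel z

/-- If `β` inverts `α` up to the central element `z0` and fixes `α ^ n` then `α ^ n * α ^ n = z0 ^ n`. -/
theorem dihedralType_star {Γ : Type*} [Group Γ] (α β z0 : Γ) (hz0c : ∀ g : Γ, g * z0 = z0 * g)
    (hrel : β * α * β⁻¹ = α⁻¹ * z0) (n : ℕ) (hfix : β * α ^ n * β⁻¹ = α ^ n) :
    α ^ n * α ^ n = z0 ^ n := by
  have h1 : β * α ^ n * β⁻¹ = (β * α * β⁻¹) ^ n := (conj_pow).symm
  have hcomm : Commute α⁻¹ z0 := hz0c α⁻¹
  rw [hrel, hcomm.mul_pow, inv_pow] at h1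
  rw [hfix] at h1
  calc α ^ n * α ^ n = α ^ n * ((α ^ n)⁻¹ * z0 ^ n) := by rw [← h1]
    _ = z0 ^ n := by group

/-- Under the conclusion of `dihedralType_star`, the `n`-th power of `c` is trivial. -/
theorem dihedralType_c_pow {Γ : Type*} [Group Γ] (α z0 : Γ) (hz0c : ∀ g : Γ, g * z0 = z0 * g)
    (n : ℕ) (h : α ^ n * α ^ n = z0 ^ n) : ((α ^ 2)⁻¹ * z0) ^ n = 1 := by
  have hcomm : Commute (α ^ 2)⁻¹ z0 := hz0c (α ^ 2)⁻¹
  rw [hcomm.mul_pow, inv_pow, ← pow_mul, two_mul, pow_add, h]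
  group

end Cfsg.Agent.Lib.Helper66
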