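import Mathlib
import Cfsg.Agent.Lib.Helper1.Basic

set_option autoImplicit false

namespace Cfsg.Agent.Lib.Helper66.EPPO

section FSL

variable {A Γ : Type*} [CommGroup A] [Group Γ] (ρ : Γ →* MulAut A)

/-- norm along powers of y -/
noncomputable def nrm (y : Γ) (r : ℕ) (a : A) : A := ∏ i ∈ Finset.range r, ρ (y ^ i) a

theorem nrm_fixed (y : Γ) (r : ℕ) (hy : y ^ r = 1) (a : A) :
    ρ y (nrm ρ y r a) = nrm ρ y r a := by
  unfold nrm
  rw [map_prod]
  have h1 : ∀ i, ρ y (ρ (y ^ i) a) = ρ (y ^ (i + 1)) a := by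
    intro i
    rw [pow_succ', map_mul]; rfl
  simp_rw [h1]
  have h3 := Finset.prod_range_succ (fun i => ρ (y ^ i) a) r
  have h2 := Finset.prod_range_succ' (fun i => ρ (y ^ i) a) r
  rw [h3] at h2
  simp only [hy, pow_zero] at h2
  exact (mul_right_cancel h2).symm

/-- product over `1 ≤ i < r` equals norm divided by `a` -/
theorem prod_succ_eq (y : Γ) (r : ℕ) (b : A) :
    (∏ i ∈ Finset.range r, ρ (y ^ (i + 1)) b) * b = nrm ρ y (r + 1) b := by
  unfold nrm
  rw [Finset.prod_range_succ']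
  simp

theorem fsl [Finite A] (Q : Subgroup Γ) [Finite Q] (y : Γ) (r : ℕ) (hr : r.Prime)
    (hy : y ^ r = 1)
    (hyQ : ∀ x ∈ Q, y * x * y⁻¹ ∈ Q)
    (hfree : ∀ i, 0 < i → i < r → ∀ x ∈ Q, Commute x (y ^ i) → x = 1)
    (hQ : ∀ a : A, (∀ x ∈ Q, ρ x a = a) → a = 1)
    (hY : ∀ a : A, ρ y a = a → a = 1)
    (hcop : (Nat.card Q).Coprime (Nat.card A)) (a : A) : a = 1 := by
  classical
  have := Fintype.ofFinite Q
  have hN : ∀ b : A, nrm ρ y r b = 1 := fun b => hY _ (nrm_fixed ρ y r hy b)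
  have hyi : ∀ i : ℕ, ∀ x ∈ Q, y ^ i * x * (y ^ i)⁻¹ ∈ Q := by
    intro i
    induction i with
    | zero => intro x hx; simpa using hx
    | succ i ih =>
      intro x hx
      have h1 := hyQ _ (ih x hx)
      have e : y ^ (i + 1) * x * (y ^ (i + 1))⁻¹ = y * (y ^ i * x * (y ^ i)⁻¹) * y⁻¹ := by
        rw [pow_succ']; group
      rw [e]; exact h1
  have hT0 : ∏ x : Q, ρ (x : Γ) a = 1 := by
    apply hQ
    intro z hz
    rw [map_prod]
    have h1 : ∀ x : Q, ρ z (ρ (x : Γ) a) = ρ ((⟨z, hz⟩ * x : Q) : Γ) a := by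
      intro x; rw [Subgroup.coe_mul, map_mul]; rfl
    simp_rw [h1]
    exact Fintype.prod_equiv (Equiv.mulLeft ⟨z, hz⟩) _ _ (fun x => rfl)
  have hTi : ∀ i, 0 < i → i < r → ∏ x : Q, ρ ((x : Γ) * y ^ i) a
      = ∏ x : Q, ρ ((x : Γ) * y ^ i * (x : Γ)⁻¹) a := by
    intro i hi0 hir
    have hfi := hfree i hi0 hir
    have hyii := hyi i
    generalize y ^ i = w at hfi hyii ⊢
    let σ : Q → Q := fun x =>
      ⟨(x : Γ) * (w * (x : Γ)⁻¹ * w⁻¹), Q.mul_mem x.2 (hyii _ (Q.inv_mem x.2))⟩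
    have hσinj : Function.Injective σ := by
      intro x1 x2 h
      have h' : (x1 : Γ) * (w * (x1 : Γ)⁻¹ * w⁻¹) = (x2 : Γ) * (w * (x2 : Γ)⁻¹ * w⁻¹) :=
        congrArg Subtype.val h
      have key : (x2 : Γ)⁻¹ * x1 * w = w * ((x2 : Γ)⁻¹ * x1) := by
        calc (x2 : Γ)⁻¹ * x1 * w
            = (x2 : Γ)⁻¹ * ((x1 : Γ) * (w * (x1 : Γ)⁻¹ * w⁻¹)) * w * x1 := by group
          _ = (x2 : Γ)⁻¹ * ((x2 : Γ) * (w * (x2 : Γ)⁻¹ * w⁻¹)) * w * x1 := by rw [h']
          _ = w * ((x2 : Γ)⁻¹ * x1) := by group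
      have h1 := hfi _ (Q.mul_mem (Q.inv_mem x2.2) x1.2) key
      apply Subtype.ext
      have : (x1 : Γ) = x2 * ((x2 : Γ)⁻¹ * x1) := by group
      rw [this, h1, mul_one]
    have hσ : Function.Bijective σ := Finite.injective_iff_bijective.mp hσinj
    symm
    refine Fintype.prod_equiv (Equiv.ofBijective σ hσ) _ _ (fun x => ?_)
    have : ((Equiv.ofBijective σ hσ x : Q) : Γ) * w = (x : Γ) * w * (x : Γ)⁻¹ := by
      show (x : Γ) * (w * (x : Γ)⁻¹ * w⁻¹) * w = _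
      group
    rw [this]
  -- the double product
  have hS1 : ∏ x : Q, ∏ i ∈ Finset.range r, ρ ((x : Γ) * y ^ i) a = 1 := by
    apply Finset.prod_eq_one
    intro x _
    have : ∀ i, ρ ((x : Γ) * y ^ i) a = ρ (x : Γ) (ρ (y ^ i) a) := by
      intro i; rw [map_mul]; rfl
    simp_rw [this]
    rw [← map_prod]
    have := hN a
    unfold nrm at this
    rw [this, map_one]
  rw [Finset.prod_comm] at hS1
  obtain ⟨r', rfl⟩ : ∃ r', r = r' + 1 := ⟨r - 1, by have := hr.pos; omega⟩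
  rw [Finset.prod_range_succ'] at hS1
  simp only [pow_zero, mul_one] at hS1
  rw [hT0, mul_one] at hS1
  have h2 : ∏ i ∈ Finset.range r', ∏ x : Q, ρ ((x : Γ) * y ^ (i + 1)) a
      = ∏ i ∈ Finset.range r', ∏ x : Q, ρ ((x : Γ) * y ^ (i + 1) * (x : Γ)⁻¹) a := by
    apply Finset.prod_congr rfl
    intro i hi
    rw [Finset.mem_range] at hi
    exact hTi (i + 1) (by omega) (by omega)
  rw [h2, Finset.prod_comm] at hS1
  have h3 : ∀ x : Q, ∏ i ∈ Finset.range r', ρ ((x : Γ) * y ^ (i + 1) * (x : Γ)⁻¹) a = a⁻¹ := by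
    intro x
    have : ∀ i, ρ ((x : Γ) * y ^ (i + 1) * (x : Γ)⁻¹) a
        = ρ (x : Γ) (ρ (y ^ (i + 1)) (ρ (x : Γ)⁻¹ a)) := by
      intro i; rw [map_mul, map_mul]; rfl
    simp_rw [this]
    rw [← map_prod]
    have h4 := prod_succ_eq ρ y r' (ρ (x : Γ)⁻¹ a)
    rw [hN, mul_eq_one_iff_eq_inv] at h4
    rw [h4, map_inv, map_inv]
    simp
  simp_rw [h3] at hS1
  rw [Finset.prod_const, Finset.card_univ, inv_pow, inv_eq_one, ← Nat.card_eq_fintype_card] at hS1
  have h5 : orderOf a ∣ Nat.card Q := orderOf_dvd_of_pow_eq_one hS1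
  have h6 : orderOf a ∣ Nat.card A := orderOf_dvd_natCard a
  have h7 := Nat.dvd_gcd h5 h6
  rw [hcop.gcd_eq_one, Nat.dvd_one, orderOf_eq_one_iff] at h7
  exact h7

end FSL

/-- every nontrivial element has prime power order -/
def IsEPPO (X : Type*) [Group X] : Prop := ∀ g : X, g ≠ 1 → IsPrimePow (orderOf g)

section basics

variable {X : Type*} [Group X]

theorem IsEPPO.exists_prime (h : IsEPPO X) (g : X) (hg : g ≠ 1) :
    ∃ p k, p.Prime ∧ 0 < k ∧ orderOf g = p ^ k := by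
  obtain ⟨p, k, hp, hk, e⟩ := (isPrimePow_nat_iff _).1 (h g hg)
  exact ⟨p, k, hp, hk, e.symm⟩

theorem IsEPPO.comm (h : IsEPPO X) {p q : ℕ} (hp : p.Prime) (hq : q.Prime) (hpq : p ≠ q)
    {a b : X} (hab : Commute a b) (ha : ∃ k, a ^ (p ^ k) = 1) (hb : ∃ k, b ^ (q ^ k) = 1) :
    a = 1 ∨ b = 1 := by
  by_contra hc
  push Not at hc
  obtain ⟨ha1, hb1⟩ := hc
  obtain ⟨k, hk⟩ := ha
  obtain ⟨l, hl⟩ := hb
  obtain ⟨i, -, hi⟩ := (Nat.dvd_prime_pow hp).1 (orderOf_dvd_of_pow_eq_one hk)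
  obtain ⟨j, -, hj⟩ := (Nat.dvd_prime_pow hq).1 (orderOf_dvd_of_pow_eq_one hl)
  have hcop : (orderOf a).Coprime (orderOf b) := by
    rw [hi, hj]
    exact Nat.Coprime.pow _ _ ((Nat.coprime_primes hp hq).2 hpq)
  have ho := hab.orderOf_mul_eq_mul_orderOf_of_coprime hcop
  have hoa : orderOf a ≠ 1 := fun e => ha1 (orderOf_eq_one_iff.1 e)
  have hob : orderOf b ≠ 1 := fun e => hb1 (orderOf_eq_one_iff.1 e)
  have hab1 : a * b ≠ 1 := by
    intro e
    rw [e, orderOf_one] at ho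
    exact hoa (Nat.eq_one_of_mul_eq_one_right ho.symm)
  have hpp := h _ hab1
  rw [ho] at hpp
  rcases (Nat.Coprime.isPrimePow_dvd_mul hcop hpp).1 dvd_rfl with h1 | h1
  · exact hob (Nat.Coprime.eq_one_of_dvd hcop.symm (Dvd.dvd.trans (Dvd.intro_left _ rfl) h1))
  · exact hoa (Nat.Coprime.eq_one_of_dvd hcop (Dvd.dvd.trans (Dvd.intro _ rfl) h1))

theorem IsEPPO.quotient (h : IsEPPO X) (N : Subgroup X) [N.Normal] : IsEPPO (X ⧸ N) := by
  intro g hg
  obtain ⟨x, rfl⟩ := QuotientGroup.mk_surjective g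
  have hx : x ≠ 1 := by
    rintro rfl
    exact hg rfl
  obtain ⟨p, k, hp, hk, e⟩ := h.exists_prime x hx
  have h1 : orderOf (QuotientGroup.mk' N x) ∣ orderOf x := orderOf_map_dvd _ x
  rw [e] at h1
  obtain ⟨j, -, hj⟩ := (Nat.dvd_prime_pow hp).1 h1
  rw [isPrimePow_nat_iff]
  refine ⟨p, j, hp, ?_, hj.symm⟩
  rcases Nat.eq_zero_or_pos j with rfl | hj0
  · rw [pow_zero, orderOf_eq_one_iff] at hj
    exact absurd hj hg
  · exact hj0

theorem IsEPPO.subgroup (h : IsEPPO X) (H : Subgroup X) : IsEPPO H := by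
  intro g hg
  rw [← Subgroup.orderOf_coe]
  apply h
  intro hc
  exact hg (Subtype.ext hc)

end basics

open scoped IsMulCommutative

section KL

variable {X : Type*} [Group X] [Finite X]

theorem KL (h : IsEPPO X) {p q : ℕ} (hp : p.Prime) (hq : q.Prime) (hpq : p ≠ q)
    (P₀ N : Subgroup X) [P₀.Normal] [N.Normal] (hP₀ : IsPGroup p P₀) (hP₀1 : P₀ ≠ ⊥)
    (hN : ∀ n ∈ N, n ^ q ∈ P₀) (hN2 : ∃ n ∈ N, n ∉ P₀) :
    ∀ r : ℕ, r.Prime → r ∣ Nat.card X → r = p ∨ r = q := by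
  intro r hr hrX
  by_contra hcon
  push Not at hcon
  obtain ⟨hrp, hrq⟩ := hcon
  have : Fact p.Prime := ⟨hp⟩
  have : Fact q.Prime := ⟨hq⟩
  have : Fact r.Prime := ⟨hr⟩
  -- elements of N
  have hNel : ∀ n ∈ N, ∃ k, n ^ (q * p ^ k) = 1 := by
    intro n hn
    obtain ⟨k, hk⟩ := hP₀ ⟨n ^ q, hN n hn⟩
    refine ⟨k, ?_⟩
    have := congrArg Subtype.val hk
    simpa [pow_mul] using this
  -- primes dividing |N|
  have hNpr : ∀ s : ℕ, s.Prime → s ∣ Nat.card N → s = p ∨ s = q := by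
    intro s hs hsN
    have : Fact s.Prime := ⟨hs⟩
    obtain ⟨n, hn⟩ := exists_prime_orderOf_dvd_card' (G := N) s hsN
    obtain ⟨k, hk⟩ := hNel n.1 n.2
    have h1 : orderOf (n : X) ∣ q * p ^ k := orderOf_dvd_of_pow_eq_one hk
    rw [Subgroup.orderOf_coe, hn] at h1
    rcases (Nat.Prime.dvd_mul hs).1 h1 with h2 | h2
    · right; exact (Nat.prime_dvd_prime_iff_eq hs hq).1 h2
    · left; exact (Nat.prime_dvd_prime_iff_eq hs hp).1 (hs.dvd_of_dvd_pow h2)
  -- q divides |N|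
  have hqN : q ∣ Nat.card N := by
    obtain ⟨n, hnN, hnP⟩ := hN2
    have hn1 : n ≠ 1 := by
      rintro rfl; exact hnP P₀.one_mem
    obtain ⟨s, j, hs, hj, e⟩ := h.exists_prime n hn1
    by_cases hsq : s = q
    · subst hsq
      have h1 : orderOf n ∣ Nat.card N := by
        have := orderOf_dvd_natCard (⟨n, hnN⟩ : N)
        rwa [← Subgroup.orderOf_coe] at this
      rw [e] at h1
      exact (dvd_pow_self s hj.ne').trans h1
    · exfalso
      have hcop : q.Coprime (orderOf n) := by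
        rw [e]
        exact Nat.Coprime.pow_right _ ((Nat.coprime_primes hq hs).2 (Ne.symm hsq))
      obtain ⟨m, hm⟩ := exists_pow_eq_self_of_coprime hcop
      apply hnP
      rw [← hm]
      exact P₀.pow_mem (hN n hnN) m
  -- r does not divide |N|
  have hrN : ¬ r ∣ Nat.card N := by
    intro hc
    rcases hNpr r hr hc with h1 | h1
    · exact hrp h1
    · exact hrq h1
  -- Sylow q of N
  let Q : Sylow q N := default
  have hQ1 : (Q : Subgroup N) ≠ ⊥ := Q.ne_bot_of_dvd_card hqN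
  set Q' : Subgroup X := (Q : Subgroup N).map N.subtype with hQ'
  have hfr : (Subgroup.normalizer (Q' : Set X)) ⊔ N = ⊤ := Sylow.normalizer_sup_eq_top Q
  have hQ'q : ∀ x ∈ Q', ∃ k, x ^ (q ^ k) = 1 := by
    intro x hx
    rw [hQ', Subgroup.mem_map] at hx
    obtain ⟨x', hx', rfl⟩ := hx
    obtain ⟨k, hk⟩ := Q.2 ⟨x', hx'⟩
    refine ⟨k, ?_⟩
    have := congrArg Subtype.val (congrArg Subtype.val hk)
    simpa using this
  have hQ'1 : ∃ x ∈ Q', x ≠ 1 := by
    by_contra hc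
    push Not at hc
    apply hQ1
    rw [Subgroup.eq_bot_iff_forall]
    intro x hx
    have := hc (N.subtype x) (Subgroup.mem_map_of_mem _ hx)
    exact Subtype.ext this
  -- r divides |normalizer|
  have hrK : r ∣ Nat.card (Subgroup.normalizer (Q' : Set X)) := by
    have h1 : r ∣ N.index := by
      have := Subgroup.card_mul_index N
      rw [← this] at hrX
      rcases (Nat.Prime.dvd_mul hr).1 hrX with h2 | h2
      · exact absurd h2 hrN
      · exact h2
    have h2 : N.index = N.relIndex (Subgroup.normalizer (Q' : Set X)) := by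
      rw [← Subgroup.relIndex_top_right, ← hfr, Subgroup.relIndex_sup_right]
    rw [h2] at h1
    exact h1.trans (Subgroup.relIndex_dvd_card _ _)
  obtain ⟨y, hy⟩ := exists_prime_orderOf_dvd_card' (G := (Subgroup.normalizer (Q' : Set X))) r hrK
  have hyo : orderOf (y : X) = r := by rw [Subgroup.orderOf_coe, hy]
  have hy1 : (y : X) ≠ 1 := by
    intro e
    rw [e, orderOf_one] at hyo
    exact hr.one_lt.ne hyo
  have hyr : ∃ k, (y : X) ^ (r ^ k) = 1 := ⟨1, by rw [pow_one, ← hyo, pow_orderOf_eq_one]⟩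
  -- abelian normal subgroup in P₀
  have : Group.IsNilpotent P₀ := hP₀.isNilpotent
  obtain ⟨p', A, hp', hAP, hAn, hA1, hAc, hAexp⟩ :=
    Cfsg.Agent.Lib.Helper1.exists_normal_elementary_le P₀ inferInstance hP₀1
  have hAp : ∀ a ∈ A, ∃ k, a ^ (p ^ k) = 1 := by
    intro a ha
    obtain ⟨k, hk⟩ := hP₀ ⟨a, hAP ha⟩
    exact ⟨k, by simpa using congrArg Subtype.val hk⟩
  have hApg : IsPGroup p A := hP₀.to_le hAP
  apply hA1
  rw [Subgroup.eq_bot_iff_forall]
  intro a ha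
  have key := fsl (A := A) (MulAut.conjNormal (H := A)) Q' (y : X) r hr
    (by rw [← hyo, pow_orderOf_eq_one])
    (by
      intro x hx
      exact (Subgroup.mem_normalizer_iff.1 y.2 x).1 hx)
    (by
      intro i hi0 hir x hx hc
      rcases h.comm hq hr (Ne.symm hrq) hc (hQ'q x hx)
        ⟨1, by rw [pow_one, ← pow_mul, mul_comm, pow_mul, ← hyo, pow_orderOf_eq_one, one_pow]⟩
        with h1 | h1
      · exact h1
      · exfalso
        have := orderOf_dvd_of_pow_eq_one h1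
        rw [hyo] at this
        exact absurd (Nat.le_of_dvd hi0 this) (by omega))
    (by
      intro b hb
      obtain ⟨x₀, hx₀, hx₀1⟩ := hQ'1
      have h1 := hb x₀ hx₀
      have h2 : x₀ * (b : X) * x₀⁻¹ = b := by
        have := congrArg Subtype.val h1
        simpa [MulAut.conjNormal_apply] using this
      have hc : Commute x₀ (b : X) := mul_inv_eq_iff_eq_mul.1 h2
      rcases h.comm hq hp (Ne.symm hpq) hc (hQ'q x₀ hx₀) (hAp b b.2) with h3 | h3
      · exact absurd h3 hx₀1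
      · exact Subtype.ext h3)
    (by
      intro b hb
      have h2 : (y : X) * (b : X) * (y : X)⁻¹ = b := by
        have := congrArg Subtype.val hb
        simpa [MulAut.conjNormal_apply] using this
      have hc : Commute (y : X) (b : X) := mul_inv_eq_iff_eq_mul.1 h2
      rcases h.comm hr hp hrp hc hyr (hAp b b.2) with h3 | h3
      · exact absurd h3 hy1
      · exact Subtype.ext h3)
    (by
      have hQ'pg : IsPGroup q Q' := by
        intro x
        obtain ⟨k, hk⟩ := hQ'q x.1 x.2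
        exact ⟨k, Subtype.ext (by simpa using hk)⟩
      obtain ⟨m, hm⟩ := hQ'pg.exists_card_eq
      obtain ⟨n, hn⟩ := hApg.exists_card_eq
      rw [hm, hn]
      exact Nat.Coprime.pow _ _ ((Nat.coprime_primes hq hp).2 (Ne.symm hpq)))
    ⟨a, ha⟩
  exact congrArg Subtype.val key

end KL


section L2

variable {X : Type*} [Group X] [Finite X]

theorem L2 (h : IsEPPO X) (R : Subgroup X) [R.Normal] (hRs : Group.IsSolvable R) (hR1 : R ≠ ⊥) :
    (∃ p : ℕ, p.Prime ∧ IsPGroup p R) ∨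
      (∃ p q : ℕ, p.Prime ∧ q.Prime ∧ ∀ r : ℕ, r.Prime → r ∣ Nat.card X → r = p ∨ r = q) := by
  obtain ⟨p, R₁, hp, hR₁R, hR₁n, hR₁1, hR₁c, hR₁exp⟩ :=
    Cfsg.Agent.Lib.Helper1.exists_normal_elementary_le R hRs hR1
  have hR₁p : IsPGroup p R₁ := by
    intro x
    exact ⟨1, Subtype.ext (by simpa using hR₁exp x.1 x.2)⟩
  obtain ⟨P₀, hR₁P₀, hP₀max⟩ := Finite.exists_le_maximal
    (p := fun P : Subgroup X => P.Normal ∧ IsPGroup p P ∧ P ≤ R) (a := R₁) ⟨hR₁n, hR₁p, hR₁R⟩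
  obtain ⟨⟨hP₀n, hP₀p, hP₀R⟩, hmax⟩ := hP₀max
  have hP₀1 : P₀ ≠ ⊥ := by
    intro e
    rw [e, le_bot_iff] at hR₁P₀
    exact hR₁1 hR₁P₀
  by_cases hPR : P₀ = R
  · left
    exact ⟨p, hp, hPR ▸ hP₀p⟩
  right
  set π := QuotientGroup.mk' P₀ with hπ
  have hRbar_n : (R.map π).Normal := Subgroup.Normal.map inferInstance π (QuotientGroup.mk'_surjective P₀)
  have hRbar_s : Group.IsSolvable (R.map π) :=
    Group.isSolvable_of_surjective (MonoidHom.subgroupMap_surjective π R)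
  have hRbar_1 : R.map π ≠ ⊥ := by
    intro e
    rw [Subgroup.map_eq_bot_iff, hπ, QuotientGroup.ker_mk'] at e
    exact hPR (le_antisymm hP₀R e)
  obtain ⟨q, Nb, hq, hNbR, hNbn, hNb1, hNbc, hNbexp⟩ :=
    Cfsg.Agent.Lib.Helper1.exists_normal_elementary_le (R.map π) hRbar_s hRbar_1
  set N := Nb.comap π with hN
  have hNn : N.Normal := Subgroup.Normal.comap hNbn π
  have hNq : ∀ n ∈ N, n ^ q ∈ P₀ := by
    intro n hn
    have h1 := hNbexp (π n) hn
    rw [← map_pow, hπ, QuotientGroup.mk'_apply, QuotientGroup.eq_one_iff] at h1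
    exact h1
  have hN2 : ∃ n ∈ N, n ∉ P₀ := by
    obtain ⟨nb, hnb, hnb1⟩ : ∃ nb ∈ Nb, nb ≠ 1 := by
      by_contra hc
      push Not at hc
      exact hNb1 ((Subgroup.eq_bot_iff_forall _).2 hc)
    obtain ⟨n, rfl⟩ := QuotientGroup.mk'_surjective P₀ nb
    refine ⟨n, hnb, fun hn => hnb1 ?_⟩
    rw [QuotientGroup.mk'_apply, QuotientGroup.eq_one_iff]
    exact hn
  have hP₀N : P₀ ≤ N := by
    intro x hx
    rw [hN, Subgroup.mem_comap]
    have : π x = 1 := by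
      rw [hπ, QuotientGroup.mk'_apply, QuotientGroup.eq_one_iff]; exact hx
    rw [this]; exact Nb.one_mem
  have hNR : N ≤ R := by
    intro n hn
    have h1 : π n ∈ R.map π := hNbR hn
    rw [Subgroup.mem_map] at h1
    obtain ⟨r, hr, e⟩ := h1
    have h2 : r⁻¹ * n ∈ P₀ := by
      rw [← QuotientGroup.eq_one_iff, ← QuotientGroup.mk'_apply, ← hπ, map_mul, map_inv, e]
      group
    have : n = r * (r⁻¹ * n) := by group
    rw [this]
    exact R.mul_mem hr (hP₀R h2)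
  have hqp : p ≠ q := by
    rintro rfl
    obtain ⟨n, hnN, hnP⟩ := hN2
    apply hnP
    refine hmax ⟨hNn, ?_, hNR⟩ hP₀N hnN
    intro x
    obtain ⟨k, hk⟩ := hP₀p ⟨(x : X) ^ p, hNq x.1 x.2⟩
    refine ⟨k + 1, Subtype.ext ?_⟩
    have := congrArg Subtype.val hk
    simpa [pow_succ', pow_mul] using this
  exact ⟨p, q, hp, hq, KL h hp hq hqp P₀ N hP₀p hP₀1 hNq hN2⟩

end L2


section LB

variable {X : Type*} [Group X]

theorem IsEPPO.exists_prime_pow (h : IsEPPO X) (g : X) (hg : g ≠ 1) :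
    ∃ q : ℕ, q.Prime ∧ ∃ k, g ^ (q ^ k) = 1 := by
  obtain ⟨q, k, hq, -, e⟩ := h.exists_prime g hg
  exact ⟨q, hq, k, by rw [← e, pow_orderOf_eq_one]⟩

theorem IsEPPO.isPGroup_of_commute (h : IsEPPO X) {q : ℕ} (hq : q.Prime) (H : Subgroup X) (n : X)
    (hn1 : n ≠ 1) (hn : ∃ k, n ^ (q ^ k) = 1) (hc : ∀ m ∈ H, Commute m n) : IsPGroup q H := by
  rintro ⟨m, hm⟩
  by_cases hm1 : m = 1
  · exact ⟨0, Subtype.ext (by simp [hm1])⟩
  obtain ⟨s, i, hs, hi, e⟩ := h.exists_prime m hm1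
  by_cases hsq : s = q
  · subst hsq
    exact ⟨i, Subtype.ext (by simp [← e, pow_orderOf_eq_one])⟩
  · exfalso
    rcases h.comm hs hq hsq (hc m hm) ⟨i, by rw [← e, pow_orderOf_eq_one]⟩ hn with h1 | h1
    · exact hm1 h1
    · exact hn1 h1

/-- `T ≤ M` and `T` is normalized by `M` -/
def Inv (M T : Subgroup X) : Prop := T ≤ M ∧ ∀ m ∈ M, ∀ t ∈ T, m * t * m⁻¹ ∈ T

/-- conjugate subgroup -/
def cj (g : X) (T : Subgroup X) : Subgroup X := T.map (MulAut.conj g).toMonoidHom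

theorem mem_cj (g : X) (T : Subgroup X) (x : X) : x ∈ cj g T ↔ ∃ t ∈ T, g * t * g⁻¹ = x := by
  unfold cj
  rw [Subgroup.mem_map]
  rfl

theorem Inv.cj {M T : Subgroup X} (hM : M.Normal) (hT : Inv M T) (g : X) : Inv M (cj g T) := by
  constructor
  · intro x hx
    obtain ⟨t, ht, rfl⟩ := (mem_cj g T x).1 hx
    exact hM.conj_mem t (hT.1 ht) g
  · intro m hm x hx
    obtain ⟨t, ht, rfl⟩ := (mem_cj g T x).1 hx
    have h1 : g⁻¹ * m * g ∈ M := by
      have := hM.conj_mem m hm g⁻¹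
      simpa using this
    refine (mem_cj g T _).2 ⟨(g⁻¹ * m * g) * t * (g⁻¹ * m * g)⁻¹, hT.2 _ h1 t ht, ?_⟩
    group

theorem Inv.inf {M T₁ T₂ : Subgroup X} (h1 : Inv M T₁) (h2 : Inv M T₂) : Inv M (T₁ ⊓ T₂) :=
  ⟨inf_le_left.trans h1.1, fun m hm t ht =>
    ⟨h1.2 m hm t ht.1, h2.2 m hm t ht.2⟩⟩

theorem Inv.sup {M T₁ T₂ : Subgroup X} (h1 : Inv M T₁) (h2 : Inv M T₂) : Inv M (T₁ ⊔ T₂) := by
  refine ⟨sup_le h1.1 h2.1, fun m hm t ht => ?_⟩
  have h3 : (T₁ ⊔ T₂).map (MulAut.conj m).toMonoidHom ≤ T₁ ⊔ T₂ := by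
    rw [Subgroup.map_sup]
    apply sup_le_sup
    · intro x hx
      obtain ⟨t, ht, rfl⟩ := Subgroup.mem_map.1 hx
      exact h1.2 m hm t ht
    · intro x hx
      obtain ⟨t, ht, rfl⟩ := Subgroup.mem_map.1 hx
      exact h2.2 m hm t ht
  exact h3 (Subgroup.mem_map_of_mem _ ht)

theorem Inv.commute {M T₁ T₂ : Subgroup X} (h1 : Inv M T₁) (h2 : Inv M T₂) (hd : T₁ ⊓ T₂ = ⊥)
    {a b : X} (ha : a ∈ T₁) (hb : b ∈ T₂) : Commute a b := by
  have hc : a * b * a⁻¹ * b⁻¹ ∈ T₁ ⊓ T₂ := by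
    constructor
    · have := h1.2 b (h2.1 hb) a⁻¹ (T₁.inv_mem ha)
      have e : a * b * a⁻¹ * b⁻¹ = a * (b * a⁻¹ * b⁻¹) := by group
      rw [e]
      exact T₁.mul_mem ha this
    · exact T₂.mul_mem (h2.2 a (h1.1 ha) b hb) (T₂.inv_mem hb)
  rw [hd, Subgroup.mem_bot] at hc
  have : a * b = b * a := by
    have e : a * b = (a * b * a⁻¹ * b⁻¹) * (b * a) := by group
    rw [e, hc, one_mul]
  exact this

theorem card_cj (g : X) (T : Subgroup X) : Nat.card (cj g T) = Nat.card T :=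
  Subgroup.card_map_of_injective (MulAut.conj g).injective

variable [Finite X]

theorem isSolvable_of_isPGroup {s : ℕ} (hs : s.Prime) (K : Subgroup X) (hK : IsPGroup s K) :
    Group.IsSolvable K := by
  have : Fact s.Prime := ⟨hs⟩
  have : Group.IsNilpotent K := hK.isNilpotent
  infer_instance

theorem lemmaB (h : IsEPPO X) [Nontrivial X]
    (hns : ∀ S : Subgroup X, S.Normal → Group.IsSolvable S → S = ⊥) :
    ∃ M : Subgroup X, M.Normal ∧ IsSimpleGroup M ∧ ¬ IsMulCommutative M ∧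
      ∀ N : Subgroup X, N.Normal → N ≠ ⊥ → M ≤ N := by
  obtain ⟨M, -, ⟨⟨hMn, hM1⟩, hMmin⟩⟩ := Finite.exists_le_minimal
    (p := fun N : Subgroup X => N.Normal ∧ N ≠ ⊥) (a := ⊤)
    ⟨inferInstance, top_ne_bot⟩
  -- M not a prime power group
  have hMnp : ∀ s : ℕ, s.Prime → ¬ IsPGroup s M := by
    intro s hs hc
    exact hM1 (hns M hMn (isSolvable_of_isPGroup hs M hc))
  -- step 1
  have hstep1 : ∀ N : Subgroup X, N.Normal → N ≠ ⊥ → M ≤ N := by
    intro N hNn hN1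
    by_cases hd : M ⊓ N = ⊥
    · exfalso
      obtain ⟨n, hnN, hn1⟩ : ∃ n ∈ N, n ≠ 1 := by
        by_contra hc
        push Not at hc
        exact hN1 ((Subgroup.eq_bot_iff_forall _).2 hc)
      obtain ⟨q, hq, hqn⟩ := h.exists_prime_pow n hn1
      refine hMnp q hq (h.isPGroup_of_commute hq M n hn1 hqn ?_)
      intro m hm
      exact Subgroup.commute_of_normal_of_disjoint M N hMn hNn (disjoint_iff.2 hd) m n hm hnN
    · have hn : (M ⊓ N).Normal := Subgroup.normal_inf_normal M N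
      exact (hMmin ⟨hn, hd⟩ inf_le_left).trans inf_le_right
  -- star
  have hstar : ∀ s : ℕ, s.Prime → ∀ K : Subgroup X, Inv M K → IsPGroup s K → K = ⊥ := by
    intro s hs K₀ hK₀ hK₀s
    obtain ⟨K, hK₀K, ⟨⟨hKI, hKs⟩, hKmax⟩⟩ := Finite.exists_le_maximal
      (p := fun K : Subgroup X => Inv M K ∧ IsPGroup s K) (a := K₀) ⟨hK₀, hK₀s⟩
    have hcj : ∀ g : X, cj g K ≤ K := by
      intro g
      have hI := hKI.cj hMn g
      have hs' : IsPGroup s (cj g K) := hKs.map _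
      have hsup : IsPGroup s (K ⊔ cj g K : Subgroup X) := by
        apply IsPGroup.to_sup_of_normal_right' hKs hs'
        rw [Subgroup.le_normalizer_iff]
        intro k hk x hx
        exact hI.2 k (hKI.1 hk) x hx
      exact le_sup_right.trans (hKmax ⟨hKI.sup hI, hsup⟩ le_sup_left)
    have hKn : K.Normal := ⟨fun n hn g => hcj g ((mem_cj g K _).2 ⟨n, hn, rfl⟩)⟩
    have := hns K hKn (isSolvable_of_isPGroup hs K hKs)
    rw [this, le_bot_iff] at hK₀K
    exact hK₀K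
  -- minimal invariant subgroups are all of M
  have hMI : Inv M M := ⟨le_rfl, fun m hm t ht => hMn.conj_mem t ht m⟩
  have hmin : ∀ T : Subgroup X, Minimal (fun T : Subgroup X => Inv M T ∧ T ≠ ⊥) T → T = M := by
    intro T hT
    obtain ⟨⟨hTI, hT1⟩, hTmin⟩ := hT
    by_cases hcase : ∀ g : X, cj g T ≤ T
    · have hTn : T.Normal := ⟨fun n hn g => hcase g ((mem_cj g T _).2 ⟨n, hn, rfl⟩)⟩
      exact le_antisymm hTI.1 (hMmin ⟨hTn, hT1⟩ hTI.1)
    · exfalso
      push Not at hcase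
      obtain ⟨g, hg⟩ := hcase
      have hI := hTI.cj hMn g
      have hd : T ⊓ cj g T = ⊥ := by
        by_contra hne
        have h1 : T ≤ T ⊓ cj g T := hTmin ⟨hTI.inf hI, hne⟩ inf_le_left
        have h2 : T ≤ cj g T := h1.trans inf_le_right
        have h3 : T = cj g T := Subgroup.eq_of_le_of_card_ge h2 (card_cj g T).le
        exact hg h3.symm.le
      obtain ⟨t, htT, ht1⟩ : ∃ t ∈ T, t ≠ 1 := by
        by_contra hc
        push Not at hc
        exact hT1 ((Subgroup.eq_bot_iff_forall _).2 hc)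
      have hn1 : g * t * g⁻¹ ≠ 1 := by
        intro e
        apply ht1
        have : t = g⁻¹ * (g * t * g⁻¹) * g := by group
        rw [this, e]; group
      obtain ⟨q, hq, hqn⟩ := h.exists_prime_pow _ hn1
      have hTq : IsPGroup q T := h.isPGroup_of_commute hq T _ hn1 hqn (fun m hm =>
        hTI.commute hI hd hm ((mem_cj g T _).2 ⟨t, htT, rfl⟩))
      exact hT1 (hstar q hq T hTI hTq)
  have hall : ∀ T : Subgroup X, Inv M T → T ≠ ⊥ → T = M := by
    intro T hTI hT1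
    obtain ⟨T₀, hT₀T, hT₀⟩ := Finite.exists_le_minimal
      (p := fun T : Subgroup X => Inv M T ∧ T ≠ ⊥) (a := T) ⟨hTI, hT1⟩
    have := hmin T₀ hT₀
    rw [this] at hT₀T
    exact le_antisymm hTI.1 hT₀T
  refine ⟨M, hMn, ?_, ?_, hstep1⟩
  · have : Nontrivial M := (Subgroup.nontrivial_iff_ne_bot M).2 hM1
    refine ⟨fun H hH => ?_⟩
    have hI : Inv M (H.map M.subtype) := by
      refine ⟨Subgroup.map_subtype_le H, fun m hm t ht => ?_⟩
      obtain ⟨t', ht', rfl⟩ := Subgroup.mem_map.1 ht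
      exact Subgroup.mem_map.2 ⟨⟨m, hm⟩ * t' * ⟨m, hm⟩⁻¹, hH.conj_mem t' ht' ⟨m, hm⟩, rfl⟩
    by_cases hb : H.map M.subtype = ⊥
    · left
      exact (Subgroup.map_eq_bot_iff_of_injective H M.subtype_injective).1 hb
    · right
      have := hall _ hI hb
      rw [eq_top_iff]
      intro x _
      have hx : (x : X) ∈ H.map M.subtype := by rw [this]; exact x.2
      obtain ⟨x', hx', e⟩ := Subgroup.mem_map.1 hx
      have : x' = x := Subtype.ext e
      exact this ▸ hx'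
  · intro hc
    have : Group.IsSolvable M := Group.isSolvable_of_comm (fun a b => mul_comm' a b)
    exact hM1 (hns M hMn this)

end LB


end Cfsg.Agent.Lib.Helper66.EPPO
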