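import Mathlib
import Cfsg.Agent.Lib.Helper66.Frobenius

set_option autoImplicit false

namespace Cfsg.Agent.Lib.Helper66

universe u

/-- the weight `w y = #{z | z y = y z, z ^ s = 1}` is invariant under conjugation of `y`. -/
theorem w_conj {G : Type*} [Group G] [Fintype G] [DecidableEq G] (s : ℕ) (g y : G) :
    (Finset.univ.filter (fun z : G => z * (g * y * g⁻¹) = (g * y * g⁻¹) * z ∧ z ^ s = 1)).card =
      (Finset.univ.filter (fun z : G => z * y = y * z ∧ z ^ s = 1)).card := by
  apply Finset.card_nbij' (fun z => g⁻¹ * z * g) (fun z => g * z * g⁻¹)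
  · intro z hz
    simp only [Finset.mem_coe, Finset.mem_filter, Finset.mem_univ, true_and] at hz ⊢
    refine ⟨?_, ?_⟩
    · have h := hz.1
      have h2 : g⁻¹ * (z * (g * y * g⁻¹)) * g = g⁻¹ * (g * y * g⁻¹ * z) * g := by rw [h]
      simp only [mul_assoc, inv_mul_cancel_left, inv_mul_cancel, mul_one] at h2 ⊢
      exact h2
    · have : g⁻¹ * z * g = g⁻¹ * z * g⁻¹⁻¹ := by rw [inv_inv]
      rw [this, conj_pow, hz.2, mul_one, mul_inv_cancel]
  · intro z hz
    simp only [Finset.mem_coe, Finset.mem_filter, Finset.mem_univ, true_and] at hz ⊢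
    refine ⟨?_, ?_⟩
    · have h := hz.1
      simp only [mul_assoc, inv_mul_cancel_left]
      rw [← mul_assoc z, h, mul_assoc]
    · rw [conj_pow, hz.2, mul_one, mul_inv_cancel]
  · intro z _
    simp only [mul_assoc, mul_inv_cancel_left, mul_inv_cancel, mul_one]
  · intro z _
    simp only [mul_assoc, inv_mul_cancel_left, inv_mul_cancel, mul_one]

/-- Frobenius' theorem in `gcd` form. -/
theorem frobenius_gcd (H : Type u) [Group H] [Finite H] (t : ℕ) :
    Nat.gcd t (Nat.card H) ∣ cnt H t := by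
  have := frobenius_main (Nat.card H) H rfl (Nat.gcd t (Nat.card H)) (Nat.gcd_dvd_right _ _)
  rwa [cnt_gcd] at this

theorem t_dvd_orbit_mul_w {G : Type u} [Group G] [Fintype G] [DecidableEq G] (t : ℕ)
    (hdvd : t ∣ Nat.card G) (y : G) :
    t ∣ (MulAction.orbit (ConjAct G) y).ncard *
      (Finset.univ.filter (fun z : G => z * y = y * z ∧ z ^ t = 1)).card := by
  rw [w_eq_cnt]
  set C := Subgroup.centralizer {y} with hC
  have horb : (MulAction.orbit (ConjAct G) y).ncard * Nat.card C = Nat.card G := by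
    rw [← MulAction.index_stabilizer, Subgroup.nat_card_centralizer_nat_card_stabilizer, mul_comm]
    exact Subgroup.card_mul_index _
  have h4 := frobenius_gcd C t
  have h5 : t ∣ (MulAction.orbit (ConjAct G) y).ncard * Nat.card C := by rw [horb]; exact hdvd
  exact (dvd_mul_gcd_of_dvd_mul t _ _ h5).trans (Nat.mul_dvd_mul_left _ h4)

theorem t_dvd_sum {G : Type u} [Group G] [Fintype G] [DecidableEq G] (t : ℕ)
    (hdvd : t ∣ Nat.card G) (E : Finset G) (hE : ∀ g y : G, y ∈ E → g * y * g⁻¹ ∈ E) :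
    t ∣ ∑ y ∈ E, (Finset.univ.filter (fun z : G => z * y = y * z ∧ z ^ t = 1)).card := by
  apply dvd_sum_of_invariant (G := ConjAct G) t
    (fun y : G => (Finset.univ.filter (fun z : G => z * y = y * z ∧ z ^ t = 1)).card)
  · intro c y
    rw [ConjAct.smul_def]
    exact w_conj t _ y
  · intro c y hy
    rw [ConjAct.smul_def]
    exact hE _ y hy
  · intro y _
    exact t_dvd_orbit_mul_w t hdvd y

theorem coprime_div_gcd_pow (N n : ℕ) (hN : 0 < N) :
    Nat.Coprime (N / Nat.gcd N (n ^ N)) n := by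
  set d := Nat.gcd N (n ^ N) with hd
  have hdN : d ∣ N := Nat.gcd_dvd_left _ _
  obtain ⟨t, ht⟩ := hdN
  have hdpos : 0 < d := Nat.gcd_pos_of_pos_left _ hN
  have htdiv : N / d = t := by rw [ht, Nat.mul_div_cancel_left _ hdpos]
  rw [htdiv]
  by_contra hcon
  obtain ⟨q, hq, hqt, hqn⟩ := Nat.Prime.not_coprime_iff_dvd.mp hcon
  obtain ⟨e, N', hN', hNe⟩ := Nat.exists_eq_pow_mul_and_not_dvd hN.ne' q hq.ne_one
  have heN : e ≤ N := by
    have h1 : e < q ^ e := Nat.lt_pow_self hq.one_lt
    have h2 : q ^ e ≤ N := Nat.le_of_dvd hN (by rw [hNe]; exact Dvd.intro _ rfl)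
    omega
  have h1 : q ^ e ∣ d := by
    rw [hd]
    apply Nat.dvd_gcd
    · rw [hNe]; exact Dvd.intro _ rfl
    · exact (pow_dvd_pow q heN).trans (pow_dvd_pow_of_dvd hqn N)
  obtain ⟨d', hd'⟩ := h1
  obtain ⟨t', ht'⟩ := hqt
  apply hN'
  have h2 : q ^ e * N' = q ^ e * (d' * t) := by rw [← hNe, ht, hd', mul_assoc]
  have h3 : N' = d' * t := Nat.eq_of_mul_eq_mul_left (pow_pos hq.pos e) h2
  rw [h3, ht']
  exact ⟨d' * t', by ring⟩




theorem card_ndvd_eq_sum {G : Type*} [Group G] [Fintype G] [DecidableEq G] (n P s : ℕ)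
    (co : Nat.Coprime P s) (hPs : P * s = Nat.card G) (hns : Nat.Coprime n s) :
    (Finset.univ.filter (fun g : G => n ∣ orderOf g)).card =
      ∑ x ∈ Finset.univ.filter (fun x : G => x ^ P = 1 ∧ n ∣ orderOf x),
        (Finset.univ.filter (fun z : G => z * x = x * z ∧ z ^ s = 1)).card := by
  obtain ⟨α, hα1, hα0⟩ := Nat.chineseRemainder co 1 0
  obtain ⟨β, hβ0, hβ1⟩ := Nat.chineseRemainder co 0 1
  have hαβ : α + β ≡ 1 [MOD P * s] := by
    rw [← Nat.modEq_and_modEq_iff_modEq_mul co]
    exact ⟨by simpa using hα1.add hβ0, by simpa using hα0.add hβ1⟩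
  have hsα : s ∣ α := (Nat.modEq_zero_iff_dvd).mp hα0
  have hPβ : P ∣ β := (Nat.modEq_zero_iff_dvd).mp hβ0
  have hall : ∀ g : G, g ^ (P * s) = 1 := fun g => by rw [hPs]; exact pow_card_eq_one'
  -- key: coprime commuting product
  have key : ∀ x z : G, Commute x z → x ^ P = 1 → z ^ s = 1 → (n ∣ orderOf (x * z) ↔ n ∣ orderOf x) := by
    intro x z hc hx hz
    have hox : orderOf x ∣ P := orderOf_dvd_of_pow_eq_one hx
    have hoz : orderOf z ∣ s := orderOf_dvd_of_pow_eq_one hz
    have hcop : Nat.Coprime (orderOf x) (orderOf z) := Nat.Coprime.of_dvd hox hoz co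
    rw [hc.orderOf_mul_eq_mul_orderOf_of_coprime hcop]
    constructor
    · intro h
      exact (Nat.Coprime.of_dvd_right hoz hns).dvd_of_dvd_mul_right h
    · intro h
      exact h.trans (Dvd.intro _ rfl)
  rw [Finset.card_eq_sum_card_fiberwise (f := fun g => g ^ α)
    (t := Finset.univ.filter (fun x : G => x ^ P = 1 ∧ n ∣ orderOf x))]
  · apply Finset.sum_congr rfl
    intro y hy
    rw [Finset.mem_filter] at hy
    obtain ⟨-, hyP, hyn⟩ := hy
    apply Finset.card_nbij' (fun g => g ^ β) (fun z => y * z)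
    · intro g hg
      simp only [Finset.mem_coe, Finset.mem_filter, Finset.mem_univ, true_and] at hg ⊢
      obtain ⟨hgn, hgy⟩ := hg
      refine ⟨?_, ?_⟩
      · rw [← hgy]
        exact (Commute.refl g).pow_pow β α
      · rw [← pow_mul]
        apply pow_eq_one_of_dvd' (hall g)
        exact Nat.mul_dvd_mul hPβ dvd_rfl
    · intro z hz
      simp only [Finset.mem_coe, Finset.mem_filter, Finset.mem_univ, true_and] at hz ⊢
      obtain ⟨hzy, hzs⟩ := hz
      have hc : Commute y z := hzy.symm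
      refine ⟨?_, ?_⟩
      · rw [key y z hc hyP hzs]; exact hyn
      · rw [hc.mul_pow, pow_eq_one_of_dvd' hzs hsα, mul_one]
        have := pow_congr_mod hyP hα1
        rwa [pow_one] at this
    · intro g hg
      simp only [Finset.mem_coe, Finset.mem_filter, Finset.mem_univ, true_and] at hg
      obtain ⟨hgn, hgy⟩ := hg
      change y * g ^ β = g
      rw [← hgy, ← pow_add]
      have := pow_congr_mod (hall g) hαβ
      rwa [pow_one] at this
    · intro z hz
      simp only [Finset.mem_coe, Finset.mem_filter, Finset.mem_univ, true_and] at hz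
      obtain ⟨hzy, hzs⟩ := hz
      have hc : Commute y z := hzy.symm
      change (y * z) ^ β = z
      rw [hc.mul_pow, pow_eq_one_of_dvd' hyP hPβ, one_mul]
      have := pow_congr_mod hzs hβ1
      rwa [pow_one] at this
  · intro g hg
    simp only [Finset.mem_coe, Finset.mem_filter, Finset.mem_univ, true_and] at hg ⊢
    have hx : (g ^ α) ^ P = 1 := by
      rw [← pow_mul]
      apply pow_eq_one_of_dvd' (hall g)
      rw [mul_comm]
      exact Nat.mul_dvd_mul hsα dvd_rfl
    have hz : (g ^ β) ^ s = 1 := by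
      rw [← pow_mul]
      apply pow_eq_one_of_dvd' (hall g)
      exact Nat.mul_dvd_mul hPβ dvd_rfl
    refine ⟨hx, ?_⟩
    have hc : Commute (g ^ α) (g ^ β) := (Commute.refl g).pow_pow α β
    rw [← key (g ^ α) (g ^ β) hc hx hz, ← pow_add]
    have := pow_congr_mod (hall g) hαβ
    rw [pow_one] at this
    rw [this]
    exact hg

theorem frobenius_order_dvd {G : Type u} [Group G] [Finite G] (n : ℕ) :
    (Nat.card G / Nat.gcd (Nat.card G) (n ^ Nat.card G)) ∣ Nat.card {g : G // n ∣ orderOf g} := by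
  classical
  have := Fintype.ofFinite G
  set N := Nat.card G with hN
  have hNpos : 0 < N := Nat.card_pos
  set d := Nat.gcd N (n ^ N) with hd
  have hdN : d ∣ N := Nat.gcd_dvd_left _ _
  have hdpos : 0 < d := Nat.gcd_pos_of_pos_left _ hNpos
  set t := N / d with ht
  have hdt : d * t = N := Nat.mul_div_cancel' hdN
  have htn : Nat.Coprime t n := coprime_div_gcd_pow N n hNpos
  have hdt_co : Nat.Coprime d t := by
    have h1 : Nat.Coprime t (n ^ N) := htn.pow_right N
    exact (Nat.Coprime.coprime_dvd_right (Nat.gcd_dvd_right N (n ^ N)) h1).symm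
  rw [Nat.card_eq_fintype_card, Fintype.card_subtype, card_ndvd_eq_sum n d t hdt_co hdt htn.symm]
  apply t_dvd_sum t (Dvd.intro_left d hdt)
  intro g y hy
  rw [Finset.mem_filter] at hy ⊢
  refine ⟨Finset.mem_univ _, ?_, ?_⟩
  · rw [conj_pow, hy.2.1, mul_one, mul_inv_cancel]
  · have : orderOf (g * y * g⁻¹) = orderOf y :=
      (SemiconjBy.orderOf_eq _ (SemiconjBy.conj_mk g y)).symm
    rw [this]; exact hy.2.2


end Cfsg.Agent.Lib.Helper66
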