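import Mathlib

set_option autoImplicit false
set_option linter.unusedSectionVars false
set_option linter.style.haveILetI false

/-! Hall–Higman critical case: linear algebra library (helper66). -/

namespace Cfsg.Agent.Lib.Helper66.HHCrit

open Module Polynomial
open scoped TensorProduct
open scoped Classical



section Schur

variable {K V : Type*} [Field K] [AddCommGroup V] [Module K V]
variable {Q : Type*} [Group Q]

/-- Irreducibility of a monoid hom into `End`. -/
def Irr (r : Q →* Module.End K V) : Prop :=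
  ∀ W : Submodule K V, (∀ u : Q, ∀ w ∈ W, r u w ∈ W) → W = ⊥ ∨ W = ⊤

theorem r_mul_inv (r : Q →* Module.End K V) (u : Q) : r u * r u⁻¹ = 1 := by
  rw [← map_mul, mul_inv_cancel, map_one]

theorem r_inv_mul (r : Q →* Module.End K V) (u : Q) : r u⁻¹ * r u = 1 := by
  rw [← map_mul, inv_mul_cancel, map_one]

variable [IsAlgClosed K] [FiniteDimensional K V] [Nontrivial V]

theorem schur_scalar (r : Q →* Module.End K V) (hirr : Irr r) (T : Module.End K V)
    (hT : ∀ u, T * r u = r u * T) : ∃ c : K, T = c • (1 : Module.End K V) := by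
  obtain ⟨c, hc⟩ := Module.End.exists_eigenvalue T
  refine ⟨c, ?_⟩
  have hinv : ∀ u : Q, ∀ w ∈ T.eigenspace c, r u w ∈ T.eigenspace c := by
    intro u w hw
    rw [Module.End.mem_eigenspace_iff] at hw ⊢
    have : T (r u w) = r u (T w) := by
      have := LinearMap.congr_fun (hT u) w
      simpa using this
    rw [this, hw, map_smul]
  rcases hirr _ hinv with h | h
  · exact absurd h (Module.End.hasEigenvalue_iff.mp hc)
  · ext v
    have : v ∈ T.eigenspace c := by rw [h]; trivial
    rw [Module.End.mem_eigenspace_iff] at this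
    simpa using this


variable [Fintype Q]

theorem avg_comm (r : Q →* Module.End K V) (φ : Module.End K V) (v : Q) :
    (∑ u, r u * φ * r u⁻¹) * r v = r v * ∑ u, r u * φ * r u⁻¹ := by
  rw [Finset.sum_mul, Finset.mul_sum]
  refine (Fintype.sum_equiv (Equiv.mulLeft v) (fun u => r v * (r u * φ * r u⁻¹))
    (fun w => r w * φ * r w⁻¹ * r v) ?_).symm
  intro u
  simp only [Equiv.coe_mulLeft, mul_inv_rev, map_mul, mul_assoc]
  rw [r_inv_mul, mul_one]

theorem avg_trace (r : Q →* Module.End K V) (φ : Module.End K V) :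
    LinearMap.trace K V (∑ u, r u * φ * r u⁻¹) = (Fintype.card Q : K) * LinearMap.trace K V φ := by
  rw [map_sum]
  have : ∀ u : Q, LinearMap.trace K V (r u * φ * r u⁻¹) = LinearMap.trace K V φ := by
    intro u
    rw [LinearMap.trace_mul_comm, ← mul_assoc, r_inv_mul, one_mul]
  simp [this]

/-- the scalar by which the average of `φ` acts -/
theorem avg_scalar (r : Q →* Module.End K V) (hirr : Irr r) (φ : Module.End K V) :
    ∃ c : K, (∑ u, r u * φ * r u⁻¹) = c • (1 : Module.End K V) ∧
      c * (finrank K V : K) = (Fintype.card Q : K) * LinearMap.trace K V φ := by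
  obtain ⟨c, hc⟩ := schur_scalar r hirr (∑ u, r u * φ * r u⁻¹) (avg_comm r φ)
  refine ⟨c, hc, ?_⟩
  have := avg_trace r φ
  rw [hc, map_smul, LinearMap.trace_one, smul_eq_mul] at this
  exact this

theorem exists_trace_one : ∃ φ : Module.End K V, LinearMap.trace K V φ = 1 := by
  have hpos : 0 < finrank K V := Module.finrank_pos
  let b := Module.finBasis K V
  let i₀ : Fin (finrank K V) := ⟨0, hpos⟩
  refine ⟨dualTensorHom K V V (b.coord i₀ ⊗ₜ b i₀), ?_⟩
  rw [LinearMap.trace_eq_contract_apply]
  simp [contractLeft_apply]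

theorem finrank_ne_zero (r : Q →* Module.End K V) (hirr : Irr r)
    (hQ : (Fintype.card Q : K) ≠ 0) : (finrank K V : K) ≠ 0 := by
  intro h0
  obtain ⟨φ, hφ⟩ := exists_trace_one (K := K) (V := V)
  obtain ⟨c, -, hc⟩ := avg_scalar r hirr φ
  rw [h0, mul_zero, hφ, mul_one] at hc
  exact hQ hc.symm

/-- **Fourier inversion** on `End V` for an irreducible representation. -/
theorem fourier (r : Q →* Module.End K V) (hirr : Irr r) (φ : Module.End K V) :
    (finrank K V : K) • ∑ u, LinearMap.trace K V (φ * r u⁻¹) • r u = (Fintype.card Q : K) • φ := by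
  obtain ⟨t, rfl⟩ := (dualTensorHomEquiv K V V).surjective φ
  induction t using TensorProduct.induction_on with
  | zero => simp
  | tmul f v =>
    ext w
    obtain ⟨c, hc1, hc2⟩ := avg_scalar r hirr (dualTensorHom K V V (f ⊗ₜ w))
    have key : ∑ u, f (r u⁻¹ v) • r u w = c • v := by
      have := LinearMap.congr_fun hc1 v
      simp only [LinearMap.sum_apply, Module.End.mul_apply, dualTensorHom_apply, map_smul,
        LinearMap.smul_apply, Module.End.one_apply] at this
      exact this
    have htr : ∀ u : Q, LinearMap.trace K V (dualTensorHom K V V (f ⊗ₜ v) * r u⁻¹) = f (r u⁻¹ v) := by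
      intro u
      have : dualTensorHom K V V (f ⊗ₜ v) * r u⁻¹
          = dualTensorHom K V V ((f.comp (r u⁻¹)) ⊗ₜ v) := by
        ext z; simp [dualTensorHom_apply]
      rw [this, LinearMap.trace_eq_contract_apply]
      simp [contractLeft_apply]
    have htrw : LinearMap.trace K V (dualTensorHom K V V (f ⊗ₜ w)) = f w := by
      rw [LinearMap.trace_eq_contract_apply]; simp [contractLeft_apply]
    simp only [dualTensorHomEquiv, LinearEquiv.ofBijective_apply, LinearMap.smul_apply,
      LinearMap.sum_apply, htr, dualTensorHom_apply]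
    rw [key, smul_smul, mul_comm, hc2, htrw, mul_smul]
  | add a b ha hb =>
    simp only [map_add, add_mul, Finset.sum_add_distrib, add_smul, smul_add] at ha hb ⊢
    rw [ha, hb]

end Schur





section Dom

variable {Q : Type*} [Group Q] [Fintype Q]


/-- fundamental domain for the cyclic group generated by `α` on the non-fixed points -/
def Dom (α : MulAut Q) (N : ℕ) (e : Q → ℕ) : Set Q :=
  {u | α u ≠ u ∧ ∀ i < N, e u ≤ e ((α ^ i) u)}

theorem pow_mod_apply (α : MulAut Q) (N : ℕ) (hN : α ^ N = 1) (k : ℕ) (v : Q) :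
    (α ^ (k % N)) v = (α ^ k) v := by
  conv_rhs => rw [← Nat.mod_add_div k N, pow_add, pow_mul, hN, one_pow, mul_one]

theorem dom_count (α : MulAut Q) (N : ℕ) (hNpos : 0 < N) (hN : α ^ N = 1)
    (free : ∀ i, 0 < i → i < N → ∀ u, (α ^ i) u = u → α u = u)
    (e : Q → ℕ) (he : Function.Injective e) (v : Q) (hv : α v ≠ v) :
    ((Finset.range N).filter (fun i => (α ^ i) v ∈ Dom α N e)).card = 1 := by
  classical
  rw [Finset.card_eq_one]
  -- minimiser
  obtain ⟨i₀, hi₀, hmin⟩ := Finset.exists_min_image (Finset.range N) (fun i => e ((α ^ i) v))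
    ⟨0, Finset.mem_range.mpr hNpos⟩
  rw [Finset.mem_range] at hi₀
  have hnotfix : ∀ i, α ((α ^ i) v) ≠ (α ^ i) v := by
    intro i h
    apply hv
    have : (α ^ i) (α v) = (α ^ i) v := by
      rw [← MulAut.mul_apply, ← pow_succ, pow_succ', MulAut.mul_apply]; exact h
    exact (α ^ i).injective this
  have hmem : (α ^ i₀) v ∈ Dom α N e := by
    refine ⟨hnotfix i₀, ?_⟩
    intro i _
    rw [← MulAut.mul_apply, ← pow_add, ← pow_mod_apply α N hN (i + i₀)]
    exact hmin _ (Finset.mem_range.mpr (Nat.mod_lt _ hNpos))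
  refine ⟨i₀, ?_⟩
  ext j
  simp only [Finset.mem_filter, Finset.mem_range, Finset.mem_singleton]
  constructor
  · rintro ⟨hj, hjD⟩
    -- e (α^j v) ≤ e (α^i₀ v) and conversely
    have h1 : e ((α ^ i₀) v) ≤ e ((α ^ j) v) := hmin j (Finset.mem_range.mpr hj)
    have h2 : e ((α ^ j) v) ≤ e ((α ^ i₀) v) := by
      have := hjD.2 ((i₀ + N - j) % N) (Nat.mod_lt _ hNpos)
      rw [pow_mod_apply α N hN, ← MulAut.mul_apply, ← pow_add] at this
      have h3 : i₀ + N - j + j = i₀ + N := by omega
      rw [h3, pow_add, hN, mul_one] at this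
      exact this
    have heq : (α ^ j) v = (α ^ i₀) v := he (le_antisymm h2 h1)
    by_contra hne
    rcases Nat.lt_or_gt_of_ne hne with hlt | hgt
    · -- j < i₀
      have : (α ^ (i₀ - j)) ((α ^ j) v) = (α ^ j) v := by
        rw [← MulAut.mul_apply, ← pow_add, Nat.sub_add_cancel hlt.le]; exact heq.symm
      exact hnotfix j (free (i₀ - j) (by omega) (by omega) _ this)
    · have : (α ^ (j - i₀)) ((α ^ i₀) v) = (α ^ i₀) v := by
        rw [← MulAut.mul_apply, ← pow_add, Nat.sub_add_cancel hgt.le]; exact heq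
      exact hnotfix i₀ (free (j - i₀) (by omega) (by omega) _ this)
  · rintro rfl
    exact ⟨hi₀, hmem⟩

theorem dom_count_fixed (α : MulAut Q) (N : ℕ) (e : Q → ℕ) (v : Q) (hv : α v = v) :
    ((Finset.range N).filter (fun i => (α ^ i) v ∈ Dom α N e)).card = 0 := by
  classical
  rw [Finset.card_eq_zero, Finset.filter_eq_empty_iff]
  intro i _ h
  have hfix : ∀ i : ℕ, (α ^ i) v = v := by
    intro i
    induction i with
    | zero => simp
    | succ k ih => rw [pow_succ, MulAut.mul_apply, hv, ih]
  rw [hfix i] at h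
  exact h.1 hv

end Dom

section TwistSec

variable {K V : Type*} [Field K] [AddCommGroup V] [Module K V]
variable {Q : Type*} [Group Q] [Fintype Q]

/-- An automorphism `α` of `Q` implemented by the invertible operator `X`. -/
structure Twist (r : Q →* Module.End K V) (α : MulAut Q) (X Y : Module.End K V) (N : ℕ) : Prop where
  XY : X * Y = 1
  YX : Y * X = 1
  tw : ∀ u, X * r u = r (α u) * X
  Npos : 0 < N
  αN : α ^ N = 1
  free : ∀ i, 0 < i → i < N → ∀ u, (α ^ i) u = u → α u = u
  fixScalar : ∀ u, α u = u → ∃ c : K, r u = c • (1 : Module.End K V)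

/-- conjugation `ψ ↦ Y ψ X` -/
def Cj (X Y : Module.End K V) : Module.End K (Module.End K V) :=
  (LinearMap.mulLeft K Y).comp (LinearMap.mulRight K X)

theorem Cj_apply (X Y ψ : Module.End K V) : Cj X Y ψ = Y * ψ * X := by
  simp [Cj, mul_assoc]

theorem Cj_pow_apply (X Y ψ : Module.End K V) (i : ℕ) : (Cj X Y ^ i) ψ = Y ^ i * ψ * X ^ i := by
  induction i generalizing ψ with
  | zero => simp
  | succ k ih =>
    rw [pow_succ, Module.End.mul_apply, ih, Cj_apply, pow_succ, pow_succ']
    simp only [mul_assoc]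

variable {r : Q →* Module.End K V} {α : MulAut Q} {X Y : Module.End K V} {N : ℕ}

theorem Twist.conj_one (h : Twist r α X Y N) (w : Q) : Y * r (α w) * X = r w := by
  rw [mul_assoc, ← h.tw, ← mul_assoc, h.YX, one_mul]

theorem Twist.conj_pow (h : Twist r α X Y N) (i : ℕ) (v : Q) :
    Y ^ i * r ((α ^ i) v) * X ^ i = r v := by
  induction i generalizing v with
  | zero => simp
  | succ k ih =>
    rw [pow_succ, pow_succ' X, pow_succ' α, MulAut.mul_apply]
    have : Y ^ k * Y * r (α ((α ^ k) v)) * (X * X ^ k) = Y ^ k * (Y * r (α ((α ^ k) v)) * X) * X ^ k := by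
      simp only [mul_assoc]
    rw [this, h.conj_one, ih]

theorem Twist.r_alpha (h : Twist r α X Y N) (w : Q) : r (α w) = X * r w * Y := by
  rw [h.tw, mul_assoc, h.XY, mul_one]

end TwistSec





section FixedSec

variable {K V : Type*} [Field K] [AddCommGroup V] [Module K V]
variable [IsAlgClosed K] [FiniteDimensional K V] [Nontrivial V]
variable {Q : Type*} [Group Q] [Fintype Q]
variable {r : Q →* Module.End K V} {α : MulAut Q} {X Y : Module.End K V} {N : ℕ}

theorem Twist.trace_inv (h : Twist r α X Y N) (φ : Module.End K V) (hφ : Y * φ * X = φ) (u : Q) :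
    LinearMap.trace K V (φ * r (α u)⁻¹) = LinearMap.trace K V (φ * r u⁻¹) := by
  have h1 : r (α u)⁻¹ = X * r u⁻¹ * Y := by
    rw [← map_inv, h.r_alpha]
  rw [h1]
  have h2 : φ * (X * r u⁻¹ * Y) = (φ * X * r u⁻¹) * Y := by simp only [mul_assoc]
  rw [h2, LinearMap.trace_mul_comm]
  have h3 : Y * (φ * X * r u⁻¹) = (Y * φ * X) * r u⁻¹ := by simp only [mul_assoc]
  rw [h3, hφ]

theorem Twist.trace_inv_pow (h : Twist r α X Y N) (φ : Module.End K V) (hφ : Y * φ * X = φ)
    (i : ℕ) (u : Q) :
    LinearMap.trace K V (φ * r ((α ^ i) u)⁻¹) = LinearMap.trace K V (φ * r u⁻¹) := by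
  induction i with
  | zero => simp
  | succ k ih => rw [pow_succ', MulAut.mul_apply, h.trace_inv φ hφ, ih]

theorem Twist.norm_dom (h : Twist r α X Y N) (f : Q → K) (hf : ∀ i u, f ((α ^ i) u) = f u)
    (e : Q → ℕ) (he : Function.Injective e) :
    ∑ i ∈ Finset.range N, (Cj X Y ^ i) (∑ u, (if u ∈ Dom α N e then f u else 0) • r u)
      = ∑ v, (if α v = v then 0 else f v) • r v := by
  have step : ∀ i ∈ Finset.range N,
      (Cj X Y ^ i) (∑ u, (if u ∈ Dom α N e then f u else 0) • r u)
      = ∑ v, (if (α ^ i) v ∈ Dom α N e then f v else 0) • r v := by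
    intro i _
    rw [Cj_pow_apply, Finset.mul_sum, Finset.sum_mul]
    rw [← Equiv.sum_comp ((α ^ i : MulAut Q).toEquiv)]
    refine Finset.sum_congr rfl ?_
    intro v _
    simp only [MulEquiv.toEquiv_eq_coe, EquivLike.coe_coe, mul_smul_comm, smul_mul_assoc]
    rw [h.conj_pow, hf]
  rw [Finset.sum_congr rfl step, Finset.sum_comm]
  refine Finset.sum_congr rfl ?_
  intro v _
  rw [← Finset.sum_smul]
  congr 1
  rw [← Finset.sum_filter, Finset.sum_const, nsmul_eq_mul]
  by_cases hv : α v = v
  · rw [dom_count_fixed α N e v hv, if_pos hv]; simp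
  · rw [dom_count α N h.Npos h.αN h.free e he v hv, if_neg hv]; simp

theorem Twist.fixed_sum_scalar (h : Twist r α X Y N) (f : Q → K) :
    ∃ c : K, ∑ v, (if α v = v then f v else 0) • r v = c • (1 : Module.End K V) := by
  choose! cf hcf using h.fixScalar
  refine ⟨∑ v, (if α v = v then f v * cf v else 0), ?_⟩
  rw [Finset.sum_smul]
  refine Finset.sum_congr rfl ?_
  intro v _
  by_cases hv : α v = v
  · rw [if_pos hv, if_pos hv, hcf v hv, smul_smul]
  · rw [if_neg hv, if_neg hv, zero_smul, zero_smul]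

/-- **Key lemma**: an operator commuting with `X` is a scalar plus a norm. -/
theorem Twist.fixed_mem (h : Twist r α X Y N) (hirr : Irr r) (hQ : (Fintype.card Q : K) ≠ 0)
    (φ : Module.End K V) (hφ : Y * φ * X = φ) :
    ∃ (c : K) (ψ : Module.End K V),
      φ = c • (1 : Module.End K V) + ∑ i ∈ Finset.range N, (Cj X Y ^ i) ψ := by
  set f : Q → K := fun u => LinearMap.trace K V (φ * r u⁻¹) with hfdef
  have hf : ∀ i u, f ((α ^ i) u) = f u := fun i u => h.trace_inv_pow φ hφ i u
  let e : Q → ℕ := fun u => (Fintype.equivFin Q u : ℕ)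
  have he : Function.Injective e := by
    intro a b hab
    exact (Fintype.equivFin Q).injective (Fin.ext hab)
  obtain ⟨c₁, hc₁⟩ := h.fixed_sum_scalar f
  have hnorm := h.norm_dom f hf e he
  have hsplit : ∑ u, f u • r u = c₁ • (1 : Module.End K V) +
      ∑ i ∈ Finset.range N, (Cj X Y ^ i) (∑ u, (if u ∈ Dom α N e then f u else 0) • r u) := by
    rw [hnorm, ← hc₁, ← Finset.sum_add_distrib]
    refine Finset.sum_congr rfl ?_
    intro v _
    rw [← add_smul]
    by_cases hv : α v = v
    · rw [if_pos hv, if_pos hv, add_zero]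
    · rw [if_neg hv, if_neg hv, zero_add]
  have hfour := fourier r hirr φ
  set d : K := (finrank K V : K)
  set q : K := (Fintype.card Q : K)
  refine ⟨q⁻¹ * d * c₁, (q⁻¹ * d) • ∑ u, (if u ∈ Dom α N e then f u else 0) • r u, ?_⟩
  have : φ = (q⁻¹ * d) • ∑ u, f u • r u := by
    rw [mul_smul, hfour, smul_smul, inv_mul_cancel₀ hQ, one_smul]
  rw [this, hsplit, smul_add, smul_smul, Finset.smul_sum]
  congr 1
  refine Finset.sum_congr rfl ?_
  intro i _
  rw [map_smul]

end FixedSec





section KerDim

variable {K E : Type*} [Field K] [AddCommGroup E] [Module K E] [FiniteDimensional K E]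

theorem finrank_map_add_inf_ker {W : Type*} [AddCommGroup W] [Module K W]
    (f : E →ₗ[K] W) (p : Submodule K E) :
    finrank K (p.map f) + finrank K (p ⊓ LinearMap.ker f : Submodule K E) = finrank K p := by
  have h := LinearMap.finrank_range_add_finrank_ker (f.domRestrict p)
  rw [LinearMap.range_domRestrict, LinearMap.ker_domRestrict] at h
  have e : (Submodule.comap p.subtype (LinearMap.ker f)) ≃ₗ[K] (p ⊓ LinearMap.ker f : Submodule K E) := by
    have : Submodule.comap p.subtype (LinearMap.ker f)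
        = Submodule.comap p.subtype (p ⊓ LinearMap.ker f) := by
      ext x; simp
    rw [this]
    exact Submodule.comapSubtypeEquivOfLe inf_le_left
  rw [e.finrank_eq] at h
  exact h

/-- `a_j = dim (range T^j ∩ ker T)` -/
noncomputable def adim (T : Module.End K E) (j : ℕ) : ℕ :=
  finrank K (LinearMap.range (T ^ j) ⊓ LinearMap.ker T : Submodule K E)

noncomputable def rk (T : Module.End K E) (j : ℕ) : ℕ := finrank K (LinearMap.range (T ^ j))

theorem rk_succ (T : Module.End K E) (j : ℕ) : rk T j = rk T (j + 1) + adim T j := by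
  have h := finrank_map_add_inf_ker T (LinearMap.range (T ^ j))
  have : (LinearMap.range (T ^ j)).map T = LinearMap.range (T ^ (j + 1)) := by
    rw [pow_succ', Module.End.mul_eq_comp, LinearMap.range_comp]
  rw [this] at h
  exact h.symm

theorem adim_antitone (T : Module.End K E) {i j : ℕ} (hij : i ≤ j) : adim T j ≤ adim T i := by
  apply Submodule.finrank_mono
  apply inf_le_inf_right
  obtain ⟨k, rfl⟩ := Nat.exists_eq_add_of_le hij
  rw [pow_add, Module.End.mul_eq_comp]
  exact LinearMap.range_comp_le_range _ _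

theorem rk_lower (T : Module.End K E) (N : ℕ) (m : ℕ) (hm : m ≤ N) :
    m * adim T (N - 1) ≤ rk T (N - m) := by
  induction m with
  | zero => simp
  | succ k ih =>
    have h1 := ih (by omega)
    have h2 := rk_succ T (N - (k + 1))
    have h3 : N - (k + 1) + 1 = N - k := by omega
    rw [h3] at h2
    have h4 : adim T (N - 1) ≤ adim T (N - (k + 1)) := adim_antitone T (by omega)
    rw [h2, add_mul, one_mul]
    omega

theorem range_pow_zero (T : Module.End K E) : LinearMap.range (T ^ 0) = ⊤ := by
  rw [pow_zero, Module.End.one_eq_id, LinearMap.range_id]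

theorem rk_zero (T : Module.End K E) : rk T 0 = finrank K E := by
  unfold rk
  rw [range_pow_zero, finrank_top]

theorem adim_zero (T : Module.End K E) : adim T 0 = finrank K (LinearMap.ker T) := by
  unfold adim
  rw [range_pow_zero, top_inf_eq]

theorem finrank_span_singleton_le_one (e₁ : E) : finrank K (Submodule.span K {e₁}) ≤ 1 := by
  by_cases h : e₁ = 0
  · subst h
    rw [Submodule.span_zero_singleton, finrank_bot]
    exact Nat.zero_le 1
  · rw [finrank_span_singleton h]

theorem adim_last (T : Module.End K E) (N : ℕ) (hN : 0 < N) (hT : T ^ N = 0) :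
    adim T (N - 1) = rk T (N - 1) := by
  have h2 := rk_succ T (N - 1)
  have h3 : N - 1 + 1 = N := by omega
  rw [h3] at h2
  have : rk T N = 0 := by simp [rk, hT]
  omega

/-- `dim E ≥ dim ker T + (N-1) rank T^(N-1)` for `T^N = 0`. -/
theorem finrank_ge (T : Module.End K E) (N : ℕ) (hN : 0 < N) (hT : T ^ N = 0) :
    finrank K (LinearMap.ker T) + (N - 1) * rk T (N - 1) ≤ finrank K E := by
  rcases Nat.lt_or_ge 1 N with h1 | h1
  · have h := rk_lower T N (N - 1) (by omega)
    have h3 : N - (N - 1) = 1 := by omega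
    rw [h3, adim_last T N hN hT] at h
    have h2 := rk_succ T 0
    rw [rk_zero, adim_zero, zero_add] at h2
    omega
  · have : N = 1 := by omega
    subst this
    simp
    exact Submodule.finrank_le _

/-- combination with the key lemma -/
theorem mul_finrank_ker_le (T : Module.End K E) (N : ℕ) (hN : 0 < N) (hT : T ^ N = 0)
    (e₁ : E) (hker : LinearMap.ker T ≤ Submodule.span K {e₁} ⊔ LinearMap.range (T ^ (N - 1))) :
    N * finrank K (LinearMap.ker T) ≤ finrank K E + (N - 1) := by
  have h1 := finrank_ge T N hN hT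
  have h2 : finrank K (LinearMap.ker T) ≤ 1 + rk T (N - 1) := by
    calc finrank K (LinearMap.ker T)
        ≤ finrank K (Submodule.span K {e₁} ⊔ LinearMap.range (T ^ (N - 1)) : Submodule K E) :=
          Submodule.finrank_mono hker
      _ ≤ finrank K (Submodule.span K {e₁}) + finrank K (LinearMap.range (T ^ (N - 1))) :=
          Submodule.finrank_add_le_finrank_add_finrank _ _
      _ ≤ 1 + rk T (N - 1) := by
          have := finrank_span_singleton_le_one (K := K) e₁
          unfold rk
          omega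
  set γ := finrank K (LinearMap.ker T)
  set f := rk T (N - 1)
  obtain ⟨n, rfl⟩ : ∃ n, N = n + 1 := ⟨N - 1, by omega⟩
  simp only [Nat.add_sub_cancel] at h1 ⊢
  nlinarith

end KerDim







section Comm

universe u v
variable {K : Type v} [Field K]

/-- the commutant of an operator -/
def comm {V : Type u} [AddCommGroup V] [Module K V] (τ : Module.End K V) :
    Submodule K (Module.End K V) :=
  LinearMap.ker (LinearMap.mulLeft K τ - LinearMap.mulRight K τ)

theorem mem_comm {V : Type u} [AddCommGroup V] [Module K V] (τ φ : Module.End K V) :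
    φ ∈ comm τ ↔ τ * φ = φ * τ := by
  simp [comm, sub_eq_zero]

variable {V : Type u} [AddCommGroup V] [Module K V] [FiniteDimensional K V]

/-- restriction of `τ` to its range -/
noncomputable def tauR (τ : Module.End K V) : Module.End K (LinearMap.range τ) :=
  τ.restrict (fun x _ => LinearMap.mem_range_self τ x)

theorem tauR_apply (τ : Module.End K V) (y : LinearMap.range τ) : ((tauR τ y : LinearMap.range τ) : V) = τ y := rfl

theorem tauR_pow_apply (τ : Module.End K V) (k : ℕ) (y : LinearMap.range τ) :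
    (((tauR τ ^ k) y : LinearMap.range τ) : V) = (τ ^ k) y := by
  induction k with
  | zero => simp
  | succ n ih => rw [pow_succ', pow_succ', Module.End.mul_apply, Module.End.mul_apply, tauR_apply, ih]

theorem tauR_pow_eq_zero (τ : Module.End K V) (s : ℕ) (h : τ ^ (s + 1) = 0) : tauR τ ^ s = 0 := by
  ext y
  rw [tauR_pow_apply]
  obtain ⟨x, hx⟩ := y.2
  rw [← hx, ← Module.End.mul_apply, ← pow_succ, h]
  simp

/-- existence of an extension of a commuting operator on the range -/
theorem exists_extension (τ : Module.End K V) (ψ : Module.End K (LinearMap.range τ))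
    (hψ : tauR τ * ψ = ψ * tauR τ) :
    ∃ φ : Module.End K V, τ * φ = φ * τ ∧
      φ.comp (LinearMap.range τ).subtype = (LinearMap.range τ).subtype.comp ψ := by
  obtain ⟨C, hC⟩ := Submodule.exists_isCompl (LinearMap.range τ)
  obtain ⟨σ, hσ⟩ := τ.rangeRestrict.exists_rightInverse_of_surjective (LinearMap.range_rangeRestrict τ)
  have hσ' : ∀ y : LinearMap.range τ, τ (σ y) = y := by
    intro y
    have := LinearMap.congr_fun hσ y
    simpa using congrArg Subtype.val this
  let φ : Module.End K V := LinearMap.ofIsCompl hC ((LinearMap.range τ).subtype.comp ψ)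
    (σ.comp (ψ.comp (τ.rangeRestrict.comp C.subtype)))
  have hφR : ∀ y : LinearMap.range τ, φ y = ψ y := fun y => by
    simp [φ]
  have hφC : ∀ c : C, φ c = σ (ψ (τ.rangeRestrict c)) := fun c => by
    simp only [φ, LinearMap.ofIsCompl_apply_right]
    rfl
  have hcommR : ∀ y : LinearMap.range τ, τ (ψ y : V) = ψ (tauR τ y) := by
    intro y
    have := LinearMap.congr_fun hψ y
    simp only [Module.End.mul_apply] at this
    rw [← this]; rfl
  refine ⟨φ, ?_, ?_⟩
  · ext v
    obtain ⟨y, c, rfl, -⟩ := Submodule.existsUnique_add_of_isCompl hC v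
    simp only [Module.End.mul_apply, map_add]
    congr 1
    · -- on R
      rw [hφR, hcommR]
      have : τ (y : V) = ((tauR τ y : LinearMap.range τ) : V) := rfl
      rw [this, hφR]
    · rw [hφC, hσ']
      have : τ (c : V) = ((τ.rangeRestrict c : LinearMap.range τ) : V) := rfl
      rw [this, hφR]
  · ext y
    simp only [LinearMap.coe_comp, Submodule.coe_subtype, Function.comp_apply]
    exact hφR y

theorem comm_finrank_ge (τ : Module.End K V) :
    finrank K (comm (tauR τ)) + finrank K (LinearMap.ker τ) ^ 2 ≤ finrank K (comm τ) := by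
  let pre : Module.End K V →ₗ[K] ((LinearMap.range τ) →ₗ[K] V) := LinearMap.lcomp K V (LinearMap.range τ).subtype
  let ι : Module.End K (LinearMap.range τ) →ₗ[K] ((LinearMap.range τ) →ₗ[K] V) := LinearMap.compRight K (LinearMap.range τ).subtype
  have hι : Function.Injective ι := by
    intro a b hab
    ext y
    have := LinearMap.congr_fun hab y
    simpa [ι] using this
  have h1 := finrank_map_add_inf_ker pre (comm τ)
  have h2 : (comm (tauR τ)).map ι ≤ (comm τ).map pre := by
    rintro _ ⟨ψ, hψ, rfl⟩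
    obtain ⟨φ, hφ1, hφ2⟩ := exists_extension τ ψ ((mem_comm _ _).mp hψ)
    exact ⟨φ, (mem_comm _ _).mpr hφ1, hφ2⟩
  have h3 : finrank K ((comm (tauR τ)).map ι) = finrank K (comm (tauR τ)) :=
    (Submodule.equivMapOfInjective ι hι _).finrank_eq.symm
  -- the maps killing the range with image in the kernel
  let Φ : (V ⧸ (LinearMap.range τ) →ₗ[K] LinearMap.ker τ) →ₗ[K] Module.End K V :=
    (LinearMap.compRight K (LinearMap.ker τ).subtype).comp (LinearMap.lcomp K _ (LinearMap.range τ).mkQ)
  have hΦ : Function.Injective Φ := by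
    intro a b hab
    ext z
    have := LinearMap.congr_fun hab z
    simpa [Φ] using this
  have h4 : LinearMap.range Φ ≤ comm τ ⊓ LinearMap.ker pre := by
    rintro _ ⟨g, rfl⟩
    refine ⟨?_, ?_⟩
    · rw [SetLike.mem_coe, mem_comm]
      ext v
      simp only [Φ, Module.End.mul_apply, LinearMap.comp_apply, LinearMap.compRight_apply,
        LinearMap.lcomp_apply', Submodule.subtype_apply, Submodule.mkQ_apply]
      rw [LinearMap.mem_ker.mp (g (Submodule.Quotient.mk v)).2]
      have : (Submodule.Quotient.mk (τ v) : V ⧸ (LinearMap.range τ)) = 0 := by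
        rw [Submodule.Quotient.mk_eq_zero]; exact LinearMap.mem_range_self τ v
      rw [this, map_zero]; rfl
    · rw [SetLike.mem_coe, LinearMap.mem_ker]
      ext y
      simp only [pre, Φ, LinearMap.lcomp_apply', LinearMap.comp_apply, LinearMap.compRight_apply,
        Submodule.subtype_apply, Submodule.mkQ_apply, LinearMap.zero_apply]
      have : (Submodule.Quotient.mk (y : V) : V ⧸ (LinearMap.range τ)) = 0 := by
        rw [Submodule.Quotient.mk_eq_zero]; exact y.2
      rw [this, map_zero]; rfl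
  have h5 : finrank K (LinearMap.range Φ) = finrank K (LinearMap.ker τ) ^ 2 := by
    rw [LinearMap.finrank_range_of_inj hΦ, Module.finrank_linearMap]
    have e1 := Submodule.finrank_quotient_add_finrank (LinearMap.range τ)
    have e2 := LinearMap.finrank_range_add_finrank_ker τ
    have : finrank K (V ⧸ (LinearMap.range τ)) = finrank K (LinearMap.ker τ) := by omega
    rw [this, sq]
  have h6 := Submodule.finrank_mono h4
  have h7 := Submodule.finrank_mono h2
  omega

/-- **Commutant bound**: `(dim V)^2 ≤ s * dim (commutant τ)` if `τ^s = 0`. -/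
theorem comm_bound (s : ℕ) : ∀ (V : Type u) [AddCommGroup V] [Module K V] [FiniteDimensional K V]
    (τ : Module.End K V), τ ^ s = 0 → finrank K V ^ 2 ≤ s * finrank K (comm τ) := by
  induction s with
  | zero =>
    intro V _ _ _ τ h
    rw [pow_zero] at h
    have : Subsingleton V := by
      refine ⟨fun a b => ?_⟩
      have ha := LinearMap.congr_fun h a
      have hb := LinearMap.congr_fun h b
      simp at ha hb
      rw [ha, hb]
    rw [finrank_zero_of_subsingleton]
    simp
  | succ s ih =>
    intro V _ _ _ τ h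
    have hIH := ih (LinearMap.range τ) (tauR τ) (tauR_pow_eq_zero τ s h)
    have hge := comm_finrank_ge τ
    have hd := LinearMap.finrank_range_add_finrank_ker τ
    set a := finrank K (LinearMap.ker τ)
    set b := finrank K (LinearMap.range τ)
    set γ' := finrank K (comm (tauR τ))
    set γ := finrank K (comm τ)
    rw [← hd]
    rcases Nat.eq_zero_or_pos s with hs | hs
    · subst hs
      have : b = 0 := by
        have : b ^ 2 ≤ 0 := by simpa using hIH
        exact pow_eq_zero_iff (two_ne_zero) |>.mp (Nat.le_zero.mp this)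
      rw [this]
      nlinarith
    · have key : s * (b + a) ^ 2 ≤ s * ((s + 1) * γ) := by
        have h1 : 2 * s * a * b ≤ s ^ 2 * a ^ 2 + b ^ 2 := by
          zify
          nlinarith [sq_nonneg ((s : ℤ) * a - b)]
        nlinarith
      exact Nat.le_of_mul_le_mul_left key hs

end Comm





section QPow

universe u v w
variable {K : Type v} [Field K]

theorem finrank_biSup_of_indep {V : Type u} [AddCommGroup V] [Module K V] [FiniteDimensional K V]
    {ι : Type*} [DecidableEq ι] (p : ι → Submodule K V) (hp : iSupIndep p) (S : Finset ι) :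
    finrank K (⨆ i ∈ S, p i : Submodule K V) = ∑ i ∈ S, finrank K (p i) := by
  induction S using Finset.induction_on with
  | empty => simp
  | insert a S ha ih =>
    rw [Finset.sum_insert ha, ← ih, Finset.iSup_insert]
    have hdisj : p a ⊓ (⨆ i ∈ S, p i) = ⊥ := by
      have := hp a
      rw [disjoint_iff] at this
      refine le_bot_iff.mp (le_trans (inf_le_inf_left _ ?_) this.le)
      refine iSup₂_le ?_
      intro i hi
      have hia : i ≠ a := fun h => ha (h ▸ hi)
      exact le_iSup₂_of_le i hia le_rfl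
    have h := Submodule.finrank_sup_add_finrank_inf_eq (p a) (⨆ i ∈ S, p i)
    rw [hdisj, finrank_bot] at h
    omega

variable {V : Type u} [AddCommGroup V] [Module K V]
variable {Q : Type w} [Group Q]

/-- the subgroup of elements acting by scalars -/
def scalarSub [Nontrivial V] (r : Q →* Module.End K V) : Subgroup Q where
  carrier := {u | ∃ c : K, r u = c • (1 : Module.End K V)}
  one_mem' := ⟨1, by simp⟩
  mul_mem' := by
    rintro a b ⟨c, hc⟩ ⟨d, hd⟩
    exact ⟨c * d, by rw [map_mul, hc, hd, smul_mul_smul_comm, mul_one]⟩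
  inv_mem' := by
    rintro a ⟨c, hc⟩
    have h1 := r_mul_inv r a
    rw [hc] at h1
    have hc0 : c ≠ 0 := by
      rintro rfl
      rw [zero_smul, zero_mul] at h1
      obtain ⟨v, hv⟩ := exists_ne (0 : V)
      exact hv (by simpa using (LinearMap.congr_fun h1 v).symm)
    refine ⟨c⁻¹, ?_⟩
    rw [smul_mul_assoc, one_mul] at h1
    rw [← h1, smul_smul, inv_mul_cancel₀ hc0, one_smul]

theorem mem_scalarSub [Nontrivial V] (r : Q →* Module.End K V) (u : Q) :
    u ∈ scalarSub r ↔ ∃ c : K, r u = c • (1 : Module.End K V) := Iff.rfl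

instance scalarSub_normal [Nontrivial V] (r : Q →* Module.End K V) : (scalarSub r).Normal := by
  constructor
  rintro a ⟨c, hc⟩ g
  refine ⟨c, ?_⟩
  rw [map_mul, map_mul, hc, mul_smul_comm, mul_one, smul_mul_assoc, r_mul_inv]

theorem finrank_eq_one_of_scalar [Nontrivial V] [FiniteDimensional K V] (r : Q →* Module.End K V)
    (hirr : Irr r) (h : ∀ u : Q, ∃ c : K, r u = c • (1 : Module.End K V)) : finrank K V = 1 := by
  obtain ⟨v, hv⟩ := exists_ne (0 : V)
  have hinv : ∀ u : Q, ∀ w ∈ Submodule.span K {v}, r u w ∈ Submodule.span K {v} := by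
    intro u w hw
    obtain ⟨c, hc⟩ := h u
    rw [hc]
    simpa using Submodule.smul_mem _ c hw
  rcases hirr _ hinv with h0 | h1
  · exact absurd ((Submodule.span_singleton_eq_bot).mp h0) hv
  · rw [← finrank_top K V, ← h1, finrank_span_singleton hv]

theorem exists_central_mod_scalar [Nontrivial V] [Finite Q] {q : ℕ} [Fact q.Prime]
    (hQ : IsPGroup q Q) (r : Q →* Module.End K V) (hne : scalarSub r ≠ ⊤) :
    ∃ a : Q, a ∉ scalarSub r ∧ ∀ u : Q, u * a * u⁻¹ * a⁻¹ ∈ scalarSub r := by
  have hnt : Nontrivial (Q ⧸ scalarSub r) := by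
    rw [← not_subsingleton_iff_nontrivial]
    intro hs
    apply hne
    rw [eq_top_iff]
    intro u _
    have : (QuotientGroup.mk u : Q ⧸ scalarSub r) = QuotientGroup.mk 1 := Subsingleton.elim _ _
    rw [QuotientGroup.eq] at this
    simpa using (scalarSub r).inv_mem this
  have hP : IsPGroup q (Q ⧸ scalarSub r) := hQ.to_quotient _
  have := hP.center_nontrivial
  obtain ⟨⟨z, hz⟩, hz1⟩ := exists_ne (1 : Subgroup.center (Q ⧸ scalarSub r))
  obtain ⟨a, rfl⟩ := QuotientGroup.mk_surjective z
  refine ⟨a, ?_, ?_⟩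
  · intro ha
    apply hz1
    ext
    exact (QuotientGroup.eq_one_iff a).mpr ha
  · intro u
    rw [← QuotientGroup.eq_one_iff]
    rw [Subgroup.mem_center_iff] at hz
    have := hz (QuotientGroup.mk u)
    simp only [QuotientGroup.mk_mul, QuotientGroup.mk_inv]
    rw [this]
    group

theorem end_one_ne_zero' [Nontrivial V] : (1 : Module.End K V) ≠ 0 := by
  intro h
  obtain ⟨v, hv⟩ := exists_ne (0 : V)
  exact hv (by simpa using LinearMap.congr_fun h v)

theorem r_ne_zero' [Nontrivial V] (r : Q →* Module.End K V) (a : Q) : r a ≠ 0 := by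
  intro h
  have := r_mul_inv r a
  rw [h, zero_mul] at this
  exact end_one_ne_zero' this.symm

theorem smul_right_cancel' {A : Module.End K V} (hA : A ≠ 0) {c c' : K} (h : c • A = c' • A) :
    c = c' := by
  by_contra hne
  have : (c - c') • A = 0 := by rw [sub_smul, h, sub_self]
  rcases smul_eq_zero.mp this with h1 | h1
  · exact hne (sub_eq_zero.mp h1)
  · exact hA h1

/-- the twisting character attached to an element central modulo scalars -/
theorem exists_kappa [Nontrivial V] (r : Q →* Module.End K V) (a : Q)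
    (ha : ∀ u : Q, u * a * u⁻¹ * a⁻¹ ∈ scalarSub r) :
    ∃ κ : Q →* Kˣ, ∀ u : Q, r u * r a * r u⁻¹ = (κ u : K) • r a := by
  choose κ₀ hκ₀ using ha
  have hconj : ∀ u : Q, r u * r a * r u⁻¹ = κ₀ u • r a := by
    intro u
    have h := hκ₀ u
    rw [map_mul, map_mul, map_mul] at h
    calc r u * r a * r u⁻¹ = r u * r a * r u⁻¹ * (r a⁻¹ * r a) := by rw [r_inv_mul, mul_one]
      _ = (r u * r a * r u⁻¹ * r a⁻¹) * r a := by simp only [mul_assoc]
      _ = κ₀ u • r a := by rw [h, smul_mul_assoc, one_mul]
  have hne : ∀ u : Q, κ₀ u ≠ 0 := by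
    intro u h0
    have h := hconj u
    rw [h0, zero_smul] at h
    have : r a = r u⁻¹ * (r u * r a * r u⁻¹) * r u := by
      simp only [mul_assoc]
      rw [r_inv_mul, mul_one, ← mul_assoc, r_inv_mul, one_mul]
    rw [h, mul_zero, zero_mul] at this
    exact r_ne_zero' r a this
  have hmul : ∀ u v : Q, κ₀ (u * v) = κ₀ u * κ₀ v := by
    intro u v
    apply smul_right_cancel' (r_ne_zero' r a)
    rw [← hconj (u * v), map_mul, mul_inv_rev, map_mul]
    calc r u * r v * r a * (r v⁻¹ * r u⁻¹) = r u * (r v * r a * r v⁻¹) * r u⁻¹ := by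
          simp only [mul_assoc]
      _ = (κ₀ u * κ₀ v) • r a := by
          rw [hconj v, mul_smul_comm, smul_mul_assoc, hconj u, smul_smul, mul_comm]
  refine ⟨MonoidHom.mk' (fun u => Units.mk0 (κ₀ u) (hne u)) ?_, ?_⟩
  · intro u v
    ext
    simp [hmul]
  · intro u
    simpa using hconj u

theorem maps_eigenspace [Nontrivial V] (r : Q →* Module.End K V) (a : Q) (κ : Q →* Kˣ)
    (hκ : ∀ u : Q, r u * r a * r u⁻¹ = (κ u : K) • r a) (u : Q) (ν : K) (w : V)
    (hw : w ∈ (r a).eigenspace ν) : r u w ∈ (r a).eigenspace (((κ u)⁻¹ : Kˣ) * ν) := by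
  rw [Module.End.mem_eigenspace_iff] at hw ⊢
  have h1 : r u * r a = (κ u : K) • (r a * r u) := by
    calc r u * r a = r u * r a * (r u⁻¹ * r u) := by rw [r_inv_mul, mul_one]
      _ = (r u * r a * r u⁻¹) * r u := by simp only [mul_assoc]
      _ = (κ u : K) • (r a * r u) := by rw [hκ, smul_mul_assoc]
  have h2 := LinearMap.congr_fun h1 w
  simp only [Module.End.mul_apply, LinearMap.smul_apply] at h2
  rw [hw, map_smul] at h2
  -- h2 : ν • r u w = κ u • r a (r u w)
  have hk : (κ u : K) ≠ 0 := (κ u).ne_zero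
  calc r a (r u w) = ((κ u : K)⁻¹ * (κ u : K)) • r a (r u w) := by
        rw [inv_mul_cancel₀ hk, one_smul]
    _ = (κ u : K)⁻¹ • ((κ u : K) • r a (r u w)) := by rw [mul_smul]
    _ = (κ u : K)⁻¹ • (ν • r u w) := by rw [h2]
    _ = ((((κ u)⁻¹ : Kˣ) : K) * ν) • r u w := by rw [smul_smul, Units.val_inv_eq_inv_val]

/-- restriction of a representation to a subgroup and an invariant subspace -/
def resRep (r : Q →* Module.End K V) (T : Subgroup Q) (W : Submodule K V)
    (hW : ∀ t ∈ T, ∀ w ∈ W, r t w ∈ W) : T →* Module.End K W where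
  toFun t := (r t).restrict (hW t t.2)
  map_one' := by ext w; simp
  map_mul' := by intro s t; ext w; simp

theorem resRep_apply (r : Q →* Module.End K V) (T : Subgroup Q) (W : Submodule K V)
    (hW : ∀ t ∈ T, ∀ w ∈ W, r t w ∈ W) (t : T) (w : W) :
    ((resRep r T W hW t w : W) : V) = r t w := rfl

theorem blichfeldt_step [IsAlgClosed K] [FiniteDimensional K V] [Nontrivial V] [Finite Q]
    (r : Q →* Module.End K V) (hirr : Irr r) (a : Q) (ha : a ∉ scalarSub r) (κ : Q →* Kˣ)
    (hκ : ∀ u : Q, r u * r a * r u⁻¹ = (κ u : K) • r a) :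
    ∃ (W : Submodule K V) (hW : ∀ t ∈ κ.ker, ∀ w ∈ W, r t w ∈ W), W ≠ ⊥ ∧
      Irr (resRep r κ.ker W hW) ∧ κ.ker ≠ ⊤ ∧
      finrank K V = Nat.card κ.range * finrank K W := by
  classical
  have : Fintype Q := Fintype.ofFinite Q
  obtain ⟨μ, hμ⟩ := Module.End.exists_eigenvalue (r a)
  have hWne : (r a).eigenspace μ ≠ ⊥ := Module.End.hasEigenvalue_iff.mp hμ
  have hμ0 : μ ≠ 0 := by
    rintro rfl
    obtain ⟨w, hw, hw0⟩ := Submodule.exists_mem_ne_zero_of_ne_bot hWne
    rw [Module.End.mem_eigenspace_iff, zero_smul] at hw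
    have := LinearMap.congr_fun (r_inv_mul r a) w
    simp only [Module.End.mul_apply, hw, map_zero, Module.End.one_apply] at this
    exact hw0 this.symm
  have hind : iSupIndep (r a).eigenspace := Module.End.eigenspaces_iSupIndep (r a)
  let nu : Q → K := fun u => (((κ u)⁻¹ : Kˣ) : K) * μ
  have hnu1 : nu 1 = μ := by simp [nu]
  let S : Finset K := Finset.image nu Finset.univ
  have hmemS : ∀ u, nu u ∈ S := fun u => Finset.mem_image_of_mem _ (Finset.mem_univ u)
  have hmap : ∀ u v : Q, ∀ w ∈ (r a).eigenspace (nu v), r u w ∈ (r a).eigenspace (nu (u * v)) := by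
    intro u v w hw
    have h := maps_eigenspace r a κ hκ u (nu v) w hw
    have e : (((κ u)⁻¹ : Kˣ) : K) * nu v = nu (u * v) := by
      simp only [nu, map_mul, mul_inv_rev, Units.val_mul]
      ring
    rwa [e] at h
  -- the ker of κ stabilises each eigenspace
  have hker_nu : ∀ t ∈ κ.ker, ∀ v, nu (t * v) = nu v := by
    intro t ht v
    have : κ t = 1 := ht
    simp [nu, this]
  have htop : (⨆ ν ∈ S, (r a).eigenspace ν) = ⊤ := by
    have hinv : ∀ u : Q, ∀ w ∈ (⨆ ν ∈ S, (r a).eigenspace ν), r u w ∈ (⨆ ν ∈ S, (r a).eigenspace ν) := by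
      intro u
      have : (⨆ ν ∈ S, (r a).eigenspace ν) ≤ (⨆ ν ∈ S, (r a).eigenspace ν).comap (r u) := by
        refine iSup₂_le ?_
        intro ν hν
        obtain ⟨v, -, rfl⟩ := Finset.mem_image.mp hν
        intro w hw
        rw [Submodule.mem_comap]
        exact (le_iSup₂_of_le (nu (u * v)) (hmemS _) le_rfl : (r a).eigenspace (nu (u * v)) ≤ _)
          (hmap u v w hw)
      exact fun w hw => this hw
    rcases hirr _ hinv with h | h
    · exfalso
      apply hWne
      rw [eq_bot_iff, ← h]
      exact le_iSup₂_of_le μ (hnu1 ▸ hmemS 1) le_rfl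
    · exact h
  -- dimensions of the eigenspaces in S
  have hdim : ∀ ν ∈ S, finrank K ((r a).eigenspace ν) = finrank K ((r a).eigenspace μ) := by
    intro ν hν
    obtain ⟨u, -, rfl⟩ := Finset.mem_image.mp hν
    have hinj : ∀ g : Q, Function.Injective (r g) := by
      intro g x y hxy
      have := congrArg (r g⁻¹) hxy
      rwa [← Module.End.mul_apply, ← Module.End.mul_apply, r_inv_mul] at this
    apply le_antisymm
    · -- r u⁻¹ : E (nu u) → E μ
      have hm : ∀ w ∈ (r a).eigenspace (nu u), r u⁻¹ w ∈ (r a).eigenspace μ := by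
        intro w hw
        have := hmap u⁻¹ u w hw
        rwa [inv_mul_cancel, hnu1] at this
      refine LinearMap.finrank_le_finrank_of_injective (f := (r u⁻¹).restrict hm) ?_
      intro x y hxy
      apply Subtype.ext
      apply hinj u⁻¹
      exact congrArg Subtype.val hxy
    · have hm : ∀ w ∈ (r a).eigenspace μ, r u w ∈ (r a).eigenspace (nu u) := by
        intro w hw
        have := hmap u 1 w (hnu1.symm ▸ hw)
        rwa [mul_one] at this
      refine LinearMap.finrank_le_finrank_of_injective (f := (r u).restrict hm) ?_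
      intro x y hxy
      apply Subtype.ext
      apply hinj u
      exact congrArg Subtype.val hxy
  have hfin : finrank K V = S.card * finrank K ((r a).eigenspace μ) := by
    rw [← finrank_top K V, ← htop, finrank_biSup_of_indep _ hind S, Finset.sum_congr rfl hdim,
      Finset.sum_const, smul_eq_mul]
  have hScard : S.card = Nat.card κ.range := by
    have h1 : S = Finset.image (fun z : Kˣ => ((z⁻¹ : Kˣ) : K) * μ) (Finset.image κ Finset.univ) := by
      rw [Finset.image_image]; rfl
    have hinj : Function.Injective (fun z : Kˣ => ((z⁻¹ : Kˣ) : K) * μ) := by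
      intro z z' hzz
      simp only at hzz
      have := mul_right_cancel₀ hμ0 hzz
      exact inv_injective (Units.ext this)
    rw [h1, Finset.card_image_of_injective _ hinj]
    have hset : (κ.range : Set Kˣ) = ↑(Finset.image κ Finset.univ) := by
      ext z; simp
    calc (Finset.image κ Finset.univ).card
        = Set.ncard (↑(Finset.image κ Finset.univ) : Set Kˣ) := (Set.ncard_coe_finset _).symm
      _ = Set.ncard (κ.range : Set Kˣ) := by rw [hset]
      _ = Nat.card κ.range := (Nat.card_coe_set_eq _).symm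
  have hkerne : κ.ker ≠ ⊤ := by
    intro htop'
    apply ha
    have hcomm : ∀ u, r a * r u = r u * r a := by
      intro u
      have hu : κ u = 1 := by
        have : u ∈ κ.ker := htop' ▸ Subgroup.mem_top u
        exact this
      have h := hκ u
      rw [hu, Units.val_one, one_smul] at h
      calc r a * r u = (r u * r a * r u⁻¹) * r u := by rw [h]
        _ = r u * r a := by rw [mul_assoc, r_inv_mul, mul_one]
    exact schur_scalar r hirr (r a) hcomm
  have hWinv : ∀ t ∈ κ.ker, ∀ w ∈ (r a).eigenspace μ, r t w ∈ (r a).eigenspace μ := by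
    intro t ht w hw
    have := hmap t 1 w (hnu1.symm ▸ hw)
    rwa [hker_nu t ht, hnu1] at this
  refine ⟨(r a).eigenspace μ, hWinv, hWne, ?_, hkerne, by rw [hfin, hScard]⟩
  -- irreducibility
  intro W₁ hW₁
  by_cases hW₁0 : W₁ = ⊥
  · exact Or.inl hW₁0
  right
  set W₀ : Submodule K V := W₁.map ((r a).eigenspace μ).subtype with hW₀
  have hW₀le : W₀ ≤ (r a).eigenspace μ := by
    rintro _ ⟨x, -, rfl⟩; exact x.2
  have hW₀T : ∀ t ∈ κ.ker, ∀ w ∈ W₀, r t w ∈ W₀ := by
    rintro t ht _ ⟨x, hx, rfl⟩
    exact ⟨resRep r κ.ker _ hWinv ⟨t, ht⟩ x, hW₁ ⟨t, ht⟩ x hx, rfl⟩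
  have hW₀ne : W₀ ≠ ⊥ := by
    intro h
    apply hW₁0
    rw [eq_bot_iff]
    intro x hx
    have : ((r a).eigenspace μ).subtype x ∈ W₀ := ⟨x, hx, rfl⟩
    rw [h, Submodule.mem_bot] at this
    rw [Submodule.mem_bot]
    exact Subtype.ext this
  -- the Q-span of W₀
  have hspan : (⨆ u : Q, W₀.map (r u)) = ⊤ := by
    have hinv : ∀ g : Q, ∀ w ∈ (⨆ u : Q, W₀.map (r u)), r g w ∈ (⨆ u : Q, W₀.map (r u)) := by
      intro g
      have : (⨆ u : Q, W₀.map (r u)) ≤ (⨆ u : Q, W₀.map (r u)).comap (r g) := by
        refine iSup_le ?_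
        intro u
        rintro _ ⟨x, hx, rfl⟩
        rw [Submodule.mem_comap]
        refine (le_iSup (fun u : Q => W₀.map (r u)) (g * u)) ?_
        exact ⟨x, hx, by rw [map_mul]; rfl⟩
      exact fun w hw => this hw
    rcases hirr _ hinv with h | h
    · exfalso
      apply hW₀ne
      rw [eq_bot_iff, ← h]
      refine le_trans ?_ (le_iSup (fun u : Q => W₀.map (r u)) 1)
      intro x hx
      exact ⟨x, hx, by simp⟩
    · exact h
  have hle : (⨆ u : Q, W₀.map (r u)) ≤ W₀ ⊔ ⨆ ν, ⨆ (_ : ν ≠ μ), (r a).eigenspace ν := by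
    refine iSup_le ?_
    intro u
    by_cases hu : u ∈ κ.ker
    · refine le_trans ?_ le_sup_left
      rintro _ ⟨x, hx, rfl⟩
      exact hW₀T u hu x hx
    · refine le_trans ?_ le_sup_right
      have hne : nu u ≠ μ := by
        intro h
        apply hu
        have h2 : (((κ u)⁻¹ : Kˣ) : K) * μ = 1 * μ := by rw [one_mul]; exact h
        have h3 := mul_right_cancel₀ hμ0 h2
        have h4 : (κ u)⁻¹ = 1 := Units.ext h3
        exact inv_eq_one.mp h4
      refine le_trans ?_ (le_iSup₂_of_le (nu u) hne le_rfl)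
      rintro _ ⟨x, hx, rfl⟩
      have := hmap u 1 x (hnu1.symm ▸ hW₀le hx)
      rwa [mul_one] at this
  rw [eq_top_iff]
  intro x _
  have hx : (x : V) ∈ W₀ ⊔ ⨆ ν, ⨆ (_ : ν ≠ μ), (r a).eigenspace ν := by
    apply hle; rw [hspan]; trivial
  obtain ⟨w₀, hw₀, y, hy, hxy⟩ := Submodule.mem_sup.mp hx
  have hy' : y ∈ (r a).eigenspace μ := by
    have : y = x - w₀ := by rw [← hxy]; abel
    rw [this]
    exact Submodule.sub_mem _ x.2 (hW₀le hw₀)
  have hy0 : y = 0 := by
    have := (hind μ)
    rw [disjoint_iff] at this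
    have hmem : y ∈ (r a).eigenspace μ ⊓ ⨆ ν, ⨆ (_ : ν ≠ μ), (r a).eigenspace ν := ⟨hy', hy⟩
    rw [this, Submodule.mem_bot] at hmem
    exact hmem
  rw [hy0, add_zero] at hxy
  obtain ⟨x', hx', hxx⟩ := hw₀
  have : x' = x := Subtype.ext (by rw [← hxy]; exact hxx)
  rwa [← this]

end QPow

section QPow2

universe u v w
variable {K : Type v} [Field K] [IsAlgClosed K]

theorem qpow_finrank_aux {q : ℕ} [Fact q.Prime] (n : ℕ) :
    ∀ (Q : Type w) [Group Q] [Finite Q] (V : Type u) [AddCommGroup V] [Module K V]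
      [FiniteDimensional K V] [Nontrivial V] (r : Q →* Module.End K V),
      Nat.card Q ≤ n → IsPGroup q Q → Irr r → ∃ j : ℕ, finrank K V = q ^ j := by
  induction n with
  | zero =>
    intro Q _ _ V _ _ _ _ r hn _ _
    exact absurd hn (by have := Nat.card_pos (α := Q); omega)
  | succ n ih =>
    intro Q _ _ V _ _ _ _ r hn hQ hirr
    by_cases hsc : scalarSub r = ⊤
    · refine ⟨0, ?_⟩
      rw [pow_zero]
      apply finrank_eq_one_of_scalar r hirr
      intro u
      have : u ∈ scalarSub r := hsc ▸ Subgroup.mem_top u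
      exact this
    · obtain ⟨a, ha1, ha2⟩ := exists_central_mod_scalar hQ r hsc
      obtain ⟨κ, hκ⟩ := exists_kappa r a ha2
      obtain ⟨W, hW, hWne, hWirr, hker, hfin⟩ := blichfeldt_step r hirr a ha1 κ hκ
      have hcard : Nat.card κ.ker ≤ n := by
        have h1 : Nat.card κ.ker ≤ Nat.card Q := Subgroup.card_le_card_group _
        have h2 : Nat.card κ.ker ≠ Nat.card Q := fun h => hker (Subgroup.eq_top_of_card_eq _ h)
        omega
      have : Nontrivial W := Submodule.nontrivial_iff_ne_bot.mpr hWne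
      obtain ⟨j, hj⟩ := ih κ.ker W (resRep r κ.ker W hW) hcard (hQ.to_subgroup _) hWirr
      obtain ⟨k, hk⟩ := hQ.exists_card_eq
      have hdvd : Nat.card κ.range ∣ q ^ k := hk ▸ Subgroup.card_range_dvd κ
      obtain ⟨m, -, hm⟩ := (Nat.dvd_prime_pow (Fact.out : q.Prime)).mp hdvd
      exact ⟨m + j, by rw [hfin, hm, hj, pow_add]⟩

/-- **q-power degrees**: an irreducible representation of a `q`-group over an algebraically closed
field has `q`-power dimension. -/
theorem qpow_finrank {q : ℕ} [Fact q.Prime] {Q : Type w} [Group Q] [Finite Q] {V : Type u}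
    [AddCommGroup V] [Module K V] [FiniteDimensional K V] [Nontrivial V]
    (r : Q →* Module.End K V) (hQ : IsPGroup q Q) (hirr : Irr r) :
    ∃ j : ℕ, finrank K V = q ^ j :=
  qpow_finrank_aux (Nat.card Q) Q V r le_rfl hQ hirr

end QPow2





section CharPId

variable {K : Type*} [Field K] {p : ℕ} [Fact p.Prime] [CharP K p]

theorem poly_sub_one_pow (n : ℕ) : ((X : K[X]) - 1) ^ (p ^ n) = X ^ (p ^ n) - 1 := by
  rw [sub_pow_char_pow, one_pow]

theorem poly_sub_one_pow_pred (n : ℕ) :
    ((X : K[X]) - 1) ^ (p ^ n - 1) = ∑ i ∈ Finset.range (p ^ n), X ^ i := by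
  have hpos : 0 < p ^ n := pow_pos (Fact.out : p.Prime).pos n
  have h1 : ((X : K[X]) - 1) ^ (p ^ n - 1) * (X - 1) = (∑ i ∈ Finset.range (p ^ n), X ^ i) * (X - 1) := by
    rw [← pow_succ, Nat.sub_add_cancel hpos, poly_sub_one_pow, geom_sum_mul]
  have hne : (X : K[X]) - 1 ≠ 0 := by
    have := Polynomial.X_sub_C_ne_zero (1 : K)
    simpa using this
  exact mul_right_cancel₀ hne h1

variable (K) in
theorem alg_sub_one_pow {A : Type*} [Ring A] [Algebra K A] (c : A) (n : ℕ) : (c - 1) ^ (p ^ n) = c ^ (p ^ n) - 1 := by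
  have := congrArg (Polynomial.aeval c) (poly_sub_one_pow (K := K) (p := p) n)
  simpa using this

variable (K) in
theorem alg_sub_one_pow_pred {A : Type*} [Ring A] [Algebra K A] (c : A) (n : ℕ) :
    (c - 1) ^ (p ^ n - 1) = ∑ i ∈ Finset.range (p ^ n), c ^ i := by
  have := congrArg (Polynomial.aeval c) (poly_sub_one_pow_pred (K := K) (p := p) n)
  simpa using this

end CharPId




section Main

universe u v w
variable {K : Type v} [Field K] [IsAlgClosed K] {p : ℕ} [Fact p.Prime] [CharP K p]
variable {V : Type u} [AddCommGroup V] [Module K V] [FiniteDimensional K V] [Nontrivial V]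
variable {Q : Type w} [Group Q] [Fintype Q]
variable {r : Q →* Module.End K V} {α : MulAut Q} {X Y : Module.End K V} {n : ℕ}

theorem Cj_pow_eq_one (hXY : X * Y = 1) (hYX : Y * X = 1) (N : ℕ) (hX : X ^ N = 1) :
    Cj X Y ^ N = 1 := by
  ext ψ : 1
  rw [Cj_pow_apply, hX]
  have : Y ^ N = 1 := by
    calc Y ^ N = Y ^ N * X ^ N := by rw [hX, mul_one]
      _ = (Y * X) ^ N := by
          rw [Commute.mul_pow]
          show Commute Y X
          rw [Commute, SemiconjBy, hYX, hXY]
      _ = 1 := by rw [hYX, one_pow]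
  rw [this]; simp

theorem ker_Cj_sub_one (hXY : X * Y = 1) (hYX : Y * X = 1) :
    LinearMap.ker (Cj X Y - 1) = comm (X - 1) := by
  ext φ
  rw [LinearMap.mem_ker, LinearMap.sub_apply, Module.End.one_apply, Cj_apply, sub_eq_zero, mem_comm]
  constructor
  · intro h
    have h1 : φ * X = X * φ := by
      calc φ * X = (X * Y) * φ * X := by rw [hXY, one_mul]
        _ = X * (Y * φ * X) := by simp only [mul_assoc]
        _ = X * φ := by rw [h]
    rw [sub_mul, mul_sub, one_mul, mul_one, h1]
  · intro h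
    have h1 : X * φ = φ * X := by
      have := h
      rw [sub_mul, mul_sub, one_mul, mul_one] at this
      exact sub_left_injective this
    calc Y * φ * X = Y * (φ * X) := by rw [mul_assoc]
      _ = Y * (X * φ) := by rw [h1]
      _ = φ := by rw [← mul_assoc, hYX, one_mul]

theorem nilp_index_le_finrank (τ : Module.End K V) (s : ℕ) (hs : τ ^ s = 0)
    (hmin : ∀ k < s, τ ^ k ≠ 0) : s ≤ finrank K V := by
  by_contra hlt
  push Not at hlt
  apply hmin _ hlt
  have hnil : IsNilpotent τ := ⟨s, hs⟩
  have h1 := LinearMap.aeval_self_charpoly τ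
  rw [hnil.charpoly_eq_X_pow_finrank] at h1
  simpa using h1

theorem crit_abstract {N : ℕ} (h : Twist r α X Y N) (hN : N = p ^ n) (hirr : Irr r)
    (hQ : (Fintype.card Q : K) ≠ 0) (hXN : X ^ N = 1) (s : ℕ) (hs : (X - 1) ^ s = 0)
    (hmin : ∀ k < s, (X - 1) ^ k ≠ 0) :
    s ≤ N ∧ (X = 1 ∨ N ≤ s + 1) ∧ (s + 1 = N → X ≠ 1 → finrank K V = s) := by
  have hNpos : 0 < N := h.Npos
  -- s ≤ N
  have hsN : s ≤ N := by
    by_contra hlt
    push Not at hlt
    apply hmin N hlt
    rw [hN, alg_sub_one_pow K X n, ← hN, hXN, sub_self]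
  have hs1 : 1 ≤ s := by
    rcases Nat.eq_zero_or_pos s with h0 | h0
    · subst h0
      rw [pow_zero] at hs
      exact absurd hs end_one_ne_zero'
    · exact h0
  set T : Module.End K (Module.End K V) := Cj X Y - 1 with hT
  have hCN : Cj X Y ^ N = 1 := Cj_pow_eq_one h.XY h.YX N hXN
  have hTN : T ^ N = 0 := by
    rw [hT, hN, alg_sub_one_pow K (Cj X Y) n, ← hN, hCN, sub_self]
  have hTpred : T ^ (N - 1) = ∑ i ∈ Finset.range N, Cj X Y ^ i := by
    rw [hT, hN, alg_sub_one_pow_pred K (Cj X Y) n]
  have hker : LinearMap.ker T ≤ Submodule.span K {(1 : Module.End K V)} ⊔ LinearMap.range (T ^ (N - 1)) := by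
    intro φ hφ
    rw [LinearMap.mem_ker, hT, LinearMap.sub_apply, Module.End.one_apply, Cj_apply, sub_eq_zero] at hφ
    obtain ⟨c, ψ, hcψ⟩ := h.fixed_mem hirr hQ φ hφ
    rw [hcψ]
    refine Submodule.add_mem_sup (Submodule.smul_mem _ c (Submodule.mem_span_singleton_self _)) ?_
    refine ⟨ψ, ?_⟩
    rw [hTpred, LinearMap.sum_apply]
  have h3 := mul_finrank_ker_le T N hNpos hTN 1 hker
  rw [hT, ker_Cj_sub_one h.XY h.YX, Module.finrank_linearMap] at h3
  have h4 := comm_bound s V (X - 1) hs
  have h5 := nilp_index_le_finrank (X - 1) s hs hmin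
  set γ := finrank K (comm (X - 1))
  set d := finrank K V
  have hX1 : s = 1 → X = 1 := by
    intro h1
    rw [h1, pow_one] at hs
    exact sub_eq_zero.mp hs
  refine ⟨hsN, ?_, ?_⟩
  · by_contra hcon
    push Not at hcon
    obtain ⟨hXne, hlt⟩ := hcon
    have hs2 : 2 ≤ s := by
      rcases Nat.lt_or_ge s 2 with h | h
      · exact absurd (hX1 (by omega)) hXne
      · exact h
    -- (N - s) * s ≤ N - 1 contradiction
    obtain ⟨e, rfl⟩ : ∃ e, N = s + 2 + e := ⟨N - s - 2, by omega⟩
    have e1 : (s + 2 + e) * d ^ 2 ≤ s * (d * d + (s + 2 + e - 1)) := by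
      calc (s + 2 + e) * d ^ 2 ≤ (s + 2 + e) * (s * γ) := Nat.mul_le_mul_left _ h4
        _ = s * ((s + 2 + e) * γ) := by ring
        _ ≤ s * (d * d + (s + 2 + e - 1)) := Nat.mul_le_mul_left _ h3
    have e2 : s + 2 + e - 1 = s + 1 + e := by omega
    rw [e2] at e1
    have e3 : s * s ≤ d * d := Nat.mul_le_mul h5 h5
    have e4 : (2 + e) * (s * s) ≤ (2 + e) * (d * d) := Nat.mul_le_mul_left _ e3
    have e5 : s * ((2 + e) * s) ≤ s * (s + 1 + e) := by nlinarith
    have e6 : (2 + e) * s ≤ s + 1 + e := Nat.le_of_mul_le_mul_left e5 (by omega)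
    nlinarith
  · intro hsN1 hXne
    have hs2 : 2 ≤ s := by
      rcases Nat.lt_or_ge s 2 with h | h
      · exact absurd (hX1 (by omega)) hXne
      · exact h
    subst hsN1
    have e1 : (s + 1) * d ^ 2 ≤ s * (d * d + s) := by
      calc (s + 1) * d ^ 2 ≤ (s + 1) * (s * γ) := Nat.mul_le_mul_left _ h4
        _ = s * ((s + 1) * γ) := by ring
        _ ≤ s * (d * d + s) := by
            have := h3
            simp only [Nat.add_sub_cancel] at this
            exact Nat.mul_le_mul_left _ this
    have e2 : d * d ≤ s * s := by nlinarith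
    have e3 : d ≤ s := by
      by_contra hlt
      push Not at hlt
      have : s * s < d * d := Nat.mul_lt_mul'' hlt hlt
      omega
    omega

end Main


end Cfsg.Agent.Lib.Helper66.HHCrit
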