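import Cfsg.Agent.Lib.Helper66.HHThmB3
import Cfsg.Agent.Lib.Helper66.HHPairDefs

set_option autoImplicit false
set_option linter.unusedSectionVars false
set_option linter.style.haveILetI false

namespace Cfsg.Agent.Lib.Helper66.HHPair

open Module Cfsg.Agent.Lib.Helper66.HHCrit Cfsg.Agent.Lib.Helper66.HHThmB
open scoped commutatorElement

universe u v w t

section PGrp

variable {E : Type*} [Group E] [Finite E] {p : ℕ} [hp : Fact p.Prime]

/-- A proper subgroup of a finite `p`-group lies in a normal subgroup of index `p`. -/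
theorem exists_normal_index_p_ge' (hE : IsPGroup p E) (H : Subgroup E) (hH : H ≠ ⊤) :
    ∃ E₁ : Subgroup E, E₁.Normal ∧ E₁.index = p ∧ H ≤ E₁ := by
  obtain ⟨k, hk⟩ := IsPGroup.iff_card.mp hE
  obtain ⟨n, hn⟩ := IsPGroup.iff_card.mp (hE.to_subgroup H)
  have hlt : n < k := by
    have h1 : Nat.card H < Nat.card E := by
      by_contra hc
      have hge : Nat.card E ≤ Nat.card H := Nat.le_of_not_lt hc
      exact hH (Subgroup.eq_top_of_card_eq H (le_antisymm (Subgroup.card_le_card_group H) hge))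
    rw [hn, hk] at h1
    exact (Nat.pow_lt_pow_iff_right hp.out.one_lt).mp h1
  obtain ⟨E₁, hE₁c, hHE₁⟩ := Sylow.exists_subgroup_card_pow_prime_le p (n := n) (m := k - 1)
    (by rw [hk]; exact pow_dvd_pow p (Nat.sub_le k 1)) H hn (by omega)
  have hidx : E₁.index = p := by
    have h1 := E₁.card_mul_index
    rw [hE₁c, hk] at h1
    have hk1 : k = (k - 1) + 1 := by omega
    have h2 : p ^ k = p ^ (k - 1) * p := by rw [← pow_succ, ← hk1]
    rw [h2] at h1
    exact Nat.eq_of_mul_eq_mul_left (pow_pos hp.out.pos _) h1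
  refine ⟨E₁, ?_, hidx, hHE₁⟩
  apply Subgroup.normal_of_index_eq_minFac_card
  rw [hidx, hk]
  exact (Nat.Prime.pow_minFac hp.out (by omega)).symm

theorem exists_pow_mul_mem' {E₁ : Subgroup E} [hn : E₁.Normal] (hidx : E₁.index = p) {h : E}
    (hh : h ∉ E₁) (e : E) : ∃ a < p, (h ^ a)⁻¹ * e ∈ E₁ := by
  classical
  have hcard : Nat.card (E ⧸ E₁) = p := by rw [← Subgroup.index_eq_card, hidx]
  have hne : (QuotientGroup.mk h : E ⧸ E₁) ≠ 1 := fun h1 => hh ((QuotientGroup.eq_one_iff h).mp h1)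
  have htop := zpowers_eq_top_of_prime_card hcard hne
  have ho : orderOf (QuotientGroup.mk h : E ⧸ E₁) = p := by
    apply orderOf_eq_prime
    · rw [← hcard]; exact pow_card_eq_one'
    · exact hne
  have hmem : (QuotientGroup.mk e : E ⧸ E₁) ∈ Subgroup.zpowers (QuotientGroup.mk h : E ⧸ E₁) := by
    rw [htop]; exact Subgroup.mem_top _
  rw [mem_zpowers_iff_mem_range_orderOf, ho] at hmem
  obtain ⟨a, ha, hae⟩ := Finset.mem_image.mp hmem
  refine ⟨a, Finset.mem_range.mp ha, ?_⟩
  rw [← QuotientGroup.eq_one_iff, QuotientGroup.mk_mul, QuotientGroup.mk_inv, QuotientGroup.mk_pow,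
    ← hae, inv_mul_cancel]

end PGrp

section FixVec

variable {K : Type v} [Field K] {p : ℕ} [hp : Fact p.Prime] [CharP K p]
variable {M : Type u} [AddCommGroup M] [Module K M]

/-- the set of `g` moving `b` only inside `M'` is a subgroup -/
def stabMod {T : Type t} [Group T] (π : T →* Module.End K M) (M' : Submodule K M)
    (inv' : ∀ g, ∀ m ∈ M', π g m ∈ M') (b : M) : Subgroup T where
  carrier := {g | π g b - b ∈ M'}
  one_mem' := by simp
  mul_mem' := by
    intro g h hg hh
    simp only [Set.mem_ofPred_eq] at hg hh ⊢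
    have : π (g * h) b - b = π g (π h b - b) + (π g b - b) := by
      rw [map_mul, Module.End.mul_apply, map_sub]; abel
    rw [this]
    exact M'.add_mem (inv' g _ hh) hg
  inv_mem' := by
    intro g hg
    simp only [Set.mem_ofPred_eq] at hg ⊢
    have : π g⁻¹ b - b = - π g⁻¹ (π g b - b) := by
      rw [map_sub, ← Module.End.mul_apply, ← map_mul, inv_mul_cancel, map_one]; simp
    rw [this]
    exact M'.neg_mem (inv' g⁻¹ _ hg)

theorem fixvec_aux (n : ℕ) : ∀ (T : Type t) [Group T] [Finite T], IsPGroup p T → Nat.card T ≤ n →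
    ∀ (π : T →* Module.End K M) (M' M'' : Submodule K M) (_ : ∀ g, ∀ m ∈ M', π g m ∈ M')
      (_ : ∀ g, ∀ m ∈ M'', π g m ∈ M'') (b₀ : M), b₀ ∈ M'' → b₀ ∉ M' →
      ∃ b ∈ M'', b ∉ M' ∧ ∀ g, π g b - b ∈ M' := by
  induction n with
  | zero =>
    intro T _ _ _ hc
    have := Nat.card_pos (α := T)
    omega
  | succ n ih =>
    intro T _ _ hT hc π M' M'' inv' inv'' b₀ hb₀ hb₀'
    by_cases htriv : (⊥ : Subgroup T) = ⊤
    · refine ⟨b₀, hb₀, hb₀', ?_⟩
      intro g
      have : g ∈ (⊥ : Subgroup T) := by rw [htriv]; trivial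
      rw [Subgroup.mem_bot] at this
      rw [this, map_one]; simp
    · obtain ⟨E₁, hE₁n, hidx, -⟩ := exists_normal_index_p_ge' hT ⊥ htriv
      have hE₁lt : Nat.card E₁ < Nat.card T := by
        have h1 := E₁.card_mul_index
        rw [hidx] at h1
        have : 0 < Nat.card E₁ := Nat.card_pos
        have hp2 := hp.out.two_le
        nlinarith
      -- the submodule of vectors moved by E₁ only inside M'
      let M₁ : Submodule K M :=
        { carrier := {b | b ∈ M'' ∧ ∀ g ∈ E₁, π g b - b ∈ M'}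
          add_mem' := by
            rintro a b ⟨ha, ha'⟩ ⟨hb, hb'⟩
            refine ⟨M''.add_mem ha hb, fun g hg => ?_⟩
            have : π g (a + b) - (a + b) = (π g a - a) + (π g b - b) := by rw [map_add]; abel
            rw [this]; exact M'.add_mem (ha' g hg) (hb' g hg)
          zero_mem' := ⟨M''.zero_mem, fun g _ => by simp⟩
          smul_mem' := by
            rintro c a ⟨ha, ha'⟩
            refine ⟨M''.smul_mem c ha, fun g hg => ?_⟩
            have : π g (c • a) - c • a = c • (π g a - a) := by rw [map_smul, smul_sub]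
            rw [this]; exact M'.smul_mem c (ha' g hg) }
      have hM₁ : ∀ b, b ∈ M₁ ↔ b ∈ M'' ∧ ∀ g ∈ E₁, π g b - b ∈ M' := fun b => Iff.rfl
      have hM₁inv : ∀ s : T, ∀ b ∈ M₁, π s b ∈ M₁ := by
        intro s b hb
        rw [hM₁] at hb ⊢
        refine ⟨inv'' s b hb.1, fun g hg => ?_⟩
        have hconj : s⁻¹ * g * s ∈ E₁ := by
          have := hE₁n.conj_mem g hg s⁻¹
          simpa using this
        have : π g (π s b) - π s b = π s (π (s⁻¹ * g * s) b - b) := by
          rw [map_sub, ← Module.End.mul_apply, ← Module.End.mul_apply, ← map_mul, ← map_mul]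
          congr 3
          group
        rw [this]
        exact inv' s _ (hb.2 _ hconj)
      -- IH on E₁
      obtain ⟨b₁, hb₁, hb₁', hb₁E⟩ := ih E₁ (hT.to_subgroup E₁) (by omega)
        (π.comp E₁.subtype) M' M'' (fun g m hm => inv' g m hm) (fun g m hm => inv'' g m hm)
        b₀ hb₀ hb₀'
      have hb₁M : b₁ ∈ M₁ := ⟨hb₁, fun g hg => hb₁E ⟨g, hg⟩⟩
      obtain ⟨s, hs⟩ : ∃ s : T, s ∉ E₁ := by
        by_contra hcon
        push Not at hcon
        have : E₁ = ⊤ := by rw [eq_top_iff]; intro g _; exact hcon g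
        rw [this, Subgroup.index_top] at hidx
        exact hp.out.one_lt.ne hidx
      have hsp : s ^ p ∈ E₁ := by
        have hcard : Nat.card (T ⧸ E₁) = p := by rw [← Subgroup.index_eq_card, hidx]
        rw [← QuotientGroup.eq_one_iff, QuotientGroup.mk_pow, ← hcard]
        exact pow_card_eq_one'
      -- the sequence (π s - 1)^k b₁
      obtain ⟨D, hD⟩ : ∃ D : Module.End K M, D = π s - 1 := ⟨_, rfl⟩
      have hDapp : ∀ m, D m = π s m - m := by
        intro m; rw [hD, LinearMap.sub_apply, Module.End.one_apply]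
      have hseq : ∀ k : ℕ, (D ^ k) b₁ ∈ M₁ := by
        intro k
        induction k with
        | zero => simpa using hb₁M
        | succ j ihj =>
          rw [pow_succ', Module.End.mul_apply, hDapp]
          exact M₁.sub_mem (hM₁inv s _ ihj) ihj
      have hlast : (D ^ p) b₁ ∈ M' := by
        have h1 := alg_sub_one_pow K (π s) 1 (p := p)
        rw [pow_one] at h1
        rw [hD, h1, ← map_pow, LinearMap.sub_apply, Module.End.one_apply]
        exact hb₁M.2 _ hsp
      have hex : ∃ k, (D ^ k) b₁ ∈ M' := ⟨p, hlast⟩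
      classical
      have hk0 : Nat.find hex ≠ 0 := by
        intro h0
        have := Nat.find_spec hex
        rw [h0] at this
        exact hb₁' (by simpa using this)
      have hkm : (D ^ (Nat.find hex - 1)) b₁ ∉ M' := Nat.find_min hex (by omega)
      set b := (D ^ (Nat.find hex - 1)) b₁ with hb
      have hbM₁ : b ∈ M₁ := hseq _
      have hbs : π s b - b ∈ M' := by
        have := Nat.find_spec hex
        have e : Nat.find hex = (Nat.find hex - 1) + 1 := by omega
        rw [e, pow_succ', Module.End.mul_apply, hDapp] at this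
        exact this
      refine ⟨b, hbM₁.1, hkm, ?_⟩
      intro g
      obtain ⟨a, -, ha⟩ := exists_pow_mul_mem' hidx hs g
      have h1 : (s ^ a)⁻¹ * g ∈ stabMod π M' inv' b := hbM₁.2 _ ha
      have h2 : s ∈ stabMod π M' inv' b := hbs
      have h3 : g = s ^ a * ((s ^ a)⁻¹ * g) := by group
      have : g ∈ stabMod π M' inv' b := by
        rw [h3]
        exact Subgroup.mul_mem _ (Subgroup.pow_mem _ h2 a) h1
      exact this

/-- a finite `p`-group acting in characteristic `p` on `M'' ⊋ M'` has a "fixed vector modulo `M'`" -/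
theorem fixvec {T : Type t} [Group T] [Finite T] (hT : IsPGroup p T)
    (π : T →* Module.End K M) (M' M'' : Submodule K M) (inv' : ∀ g, ∀ m ∈ M', π g m ∈ M')
    (inv'' : ∀ g, ∀ m ∈ M'', π g m ∈ M'') (b₀ : M) (hb₀ : b₀ ∈ M'') (hb₀' : b₀ ∉ M') :
    ∃ b ∈ M'', b ∉ M' ∧ ∀ g, π g b - b ∈ M' :=
  fixvec_aux _ T hT le_rfl π M' M'' inv' inv'' b₀ hb₀ hb₀'

end FixVec


section Defs

variable {K : Type v} [Field K] {Q : Type w} [Group Q] {V : Type u} [AddCommGroup V] [Module K V]
  {T : Type t} [Group T]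

/-- compatibility of the three actions -/
def Tw (r : Q →* Module.End K V) (θ : T →* MulAut Q) (ρ : T →* Module.End K V) : Prop :=
  ∀ (g : T) (u : Q), ρ g * r u = r (θ g u) * ρ g

/-- `x` is exceptional at level `n`, with top power `a` -/
structure Exc (p : ℕ) (ρ : T →* Module.End K V) (x : T) (n : ℕ) (a : T) : Prop where
  npos : 1 ≤ n
  xN : x ^ p ^ n = 1
  xE : (ρ x - 1) ^ (p ^ n - 1) = 0
  ha : a = x ^ p ^ (n - 1)

variable {r : Q →* Module.End K V} {θ : T →* MulAut Q} {ρ : T →* Module.End K V}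

theorem Tw.conj (h : Tw r θ ρ) (g : T) (u : Q) : r (θ g u) = ρ g * r u * ρ g⁻¹ := by
  rw [h g u, mul_assoc, r_mul_inv, mul_one]

theorem Tw.fix_iff (h : Tw r θ ρ) (g : T) (u : Q) :
    r (θ g u) = r u ↔ ρ g * r u = r u * ρ g := by
  constructor
  · intro e
    rw [h g u, e]
  · intro e
    rw [h.conj, e, mul_assoc, r_mul_inv, mul_one]

theorem Tw.comp (h : Tw r θ ρ) {T' : Type*} [Group T'] (f : T' →* T) :
    Tw r (θ.comp f) (ρ.comp f) := fun g u => h (f g) u

theorem Tw.sub (h : Tw r θ ρ) (W : Submodule K V) (hW : ∀ u, ∀ w ∈ W, r u w ∈ W)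
    (hρ : ∀ g, ∀ w ∈ W, ρ g w ∈ W) : Tw (subRep r W hW) θ (subRep ρ W hρ) := by
  intro g u
  ext w
  simp only [Module.End.mul_apply, subRep_apply]
  have := LinearMap.congr_fun (h g u) (w : V)
  simpa using this

theorem Tw.quot (h : Tw r θ ρ) (W : Submodule K V) (hW : ∀ u, ∀ w ∈ W, r u w ∈ W)
    (hρ : ∀ g, ∀ w ∈ W, ρ g w ∈ W) : Tw (quotRep r W hW) θ (quotRep ρ W hρ) := by
  intro g u
  ext v
  simp only [LinearMap.comp_apply, Submodule.mkQ_apply, Module.End.mul_apply, quotRep_mk]
  have := LinearMap.congr_fun (h g u) v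
  simp only [Module.End.mul_apply] at this
  rw [this]

/-- restriction of the action on `Q` to an invariant subgroup -/
def resθ (θ : T →* MulAut Q) (H : Subgroup Q) (hH : ∀ g, ∀ u ∈ H, θ g u ∈ H) : T →* MulAut H where
  toFun g :=
    { toFun := fun u => ⟨θ g u, hH g u u.2⟩
      invFun := fun u => ⟨θ g⁻¹ u, hH g⁻¹ u u.2⟩
      left_inv := by
        intro u
        apply Subtype.ext
        show θ g⁻¹ (θ g u) = u
        rw [← MulAut.mul_apply, ← map_mul, inv_mul_cancel, map_one, MulAut.one_apply]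
      right_inv := by
        intro u
        apply Subtype.ext
        show θ g (θ g⁻¹ u) = u
        rw [← MulAut.mul_apply, ← map_mul, mul_inv_cancel, map_one, MulAut.one_apply]
      map_mul' := by
        intro u v
        apply Subtype.ext
        simp }
  map_one' := by
    ext u
    simp
  map_mul' := by
    intro g h
    ext u
    simp

theorem resθ_apply (H : Subgroup Q) (hH : ∀ g, ∀ u ∈ H, θ g u ∈ H) (g : T) (u : H) :
    ((resθ θ H hH g u : H) : Q) = θ g u := rfl

theorem Tw.subgroup (h : Tw r θ ρ) (H : Subgroup Q) (hH : ∀ g, ∀ u ∈ H, θ g u ∈ H) :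
    Tw (r.comp H.subtype) (resθ θ H hH) ρ := by
  intro g u
  exact h g u

theorem Exc.comp {p : ℕ} {T' : Type*} [Group T'] (f : T' →* T) {x a : T'} {n : ℕ}
    (hxN : x ^ p ^ n = 1) (ha : a = x ^ p ^ (n - 1)) (h : Exc p ρ (f x) n (f a)) :
    Exc p (ρ.comp f) x n a :=
  ⟨h.npos, hxN, h.xE, ha⟩

theorem Exc.sub {p : ℕ} {x a : T} {n : ℕ} (h : Exc p ρ x n a) (W : Submodule K V)
    (hρ : ∀ g, ∀ w ∈ W, ρ g w ∈ W) : Exc p (subRep ρ W hρ) x n a := by
  refine ⟨h.npos, h.xN, ?_, h.ha⟩
  ext w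
  have e := restrict_sub_one_pow (X := ρ x) W (hρ x) (p ^ n - 1) w
  rw [h.xE] at e
  exact e.trans (by simp)

theorem Exc.quot {p : ℕ} {x a : T} {n : ℕ} (h : Exc p ρ x n a) (W : Submodule K V)
    (hρ : ∀ g, ∀ w ∈ W, ρ g w ∈ W) : Exc p (quotRep ρ W hρ) x n a := by
  refine ⟨h.npos, h.xN, ?_, h.ha⟩
  ext v
  have e := mapQ_sub_one_pow (X := ρ x) W (hρ x) (p ^ n - 1) v
  rw [h.xE] at e
  exact e.trans (by simp)

end Defs

end Cfsg.Agent.Lib.Helper66.HHPair
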