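import Cfsg.Agent.Lib.Helper66.HHPair1

set_option autoImplicit false
set_option linter.unusedSectionVars false
set_option linter.style.haveILetI false

namespace Cfsg.Agent.Lib.Helper66.HHPair

open Module Cfsg.Agent.Lib.Helper66.HHCrit Cfsg.Agent.Lib.Helper66.HHThmB
open scoped commutatorElement

universe u v w t

section Ind

variable (K : Type v) [Field K]

/-- the inductive statement -/
def PairP (p q m : ℕ) : Prop :=
  ∀ (Q : Type w) [Group Q] [Finite Q] (V : Type u) [AddCommGroup V] [Module K V]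
    [FiniteDimensional K V] (T : Type t) [Group T] [Finite T]
    (r : Q →* Module.End K V) (θ : T →* MulAut Q) (ρ : T →* Module.End K V),
    IsPGroup q Q → IsPGroup p T → Tw r θ ρ → Nat.card Q + finrank K V ≤ m →
    ∀ (x y : T) (n n' : ℕ) (a b : T), Exc p ρ x n a → Exc p ρ y n' b →
    ∀ u, r (θ ⁅a, b⁆ u) = r u

end Ind

section Step1

variable {K : Type v} [Field K]
variable {Q : Type w} [Group Q] {V : Type u} [AddCommGroup V] [Module K V]
variable {r : Q →* Module.End K V}

/-- gluing: an automorphism acting trivially on sub and quotient acts trivially -/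
theorem fix_of_sub_quot [Finite Q] {q : ℕ} (hQ : IsPGroup q Q) (hqK : (q : K) ≠ 0)
    (β : MulAut Q) (W : Submodule K V) (hW : ∀ u, ∀ w ∈ W, r u w ∈ W)
    (hs : ∀ u, subRep r W hW (β u) = subRep r W hW u)
    (hq : ∀ u, quotRep r W hW (β u) = quotRep r W hW u) (u₀ : Q) : r (β u₀) = r u₀ := by
  set g := β u₀ * u₀⁻¹ with hg
  obtain ⟨l, hl⟩ := hQ g
  have hA : r g ^ (q ^ l) = 1 := by rw [← map_pow, hl, map_one]
  have h1 : ∀ w ∈ W, r g w = w := by
    intro w hw
    rw [hg, map_mul, Module.End.mul_apply]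
    have e2 : w = r u₀ (r u₀⁻¹ w) := by
      rw [← Module.End.mul_apply, r_mul_inv]; rfl
    have hw' : r u₀⁻¹ w ∈ W := hW _ _ hw
    have e3 := LinearMap.congr_fun (hs u₀) ⟨r u₀⁻¹ w, hw'⟩
    have e4 : r (β u₀) (r u₀⁻¹ w) = r u₀ (r u₀⁻¹ w) := congrArg Subtype.val e3
    rw [e4, ← e2]
  have h2 : ∀ v, r g v - v ∈ W := by
    intro v
    rw [hg, map_mul, Module.End.mul_apply]
    have e3 := LinearMap.congr_fun (hq u₀) (Submodule.Quotient.mk (r u₀⁻¹ v))
    rw [quotRep_mk, quotRep_mk] at e3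
    have e2 : r u₀ (r u₀⁻¹ v) = v := by
      rw [← Module.End.mul_apply, r_mul_inv]; rfl
    rw [e2] at e3
    exact (Submodule.Quotient.eq W).mp e3
  have hone := eq_one_of_sub_quot hqK (r g) l hA W h1 h2
  rw [hg, map_mul] at hone
  calc r (β u₀) = r (β u₀) * (r u₀⁻¹ * r u₀) := by rw [r_inv_mul, mul_one]
    _ = (r (β u₀) * r u₀⁻¹) * r u₀ := by rw [mul_assoc]
    _ = r u₀ := by rw [hone, one_mul]

variable {T : Type t} [Group T] {θ : T →* MulAut Q} {ρ : T →* Module.End K V}

/-- **Step 1**: a proper nonzero invariant subspace. -/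
theorem step1 [Finite Q] [Finite T] [FiniteDimensional K V] {p q m : ℕ} (hqK : (q : K) ≠ 0)
    (IH : PairP.{u, v, w, t} K p q m)
    (hQ : IsPGroup q Q) (hT : IsPGroup p T) (htw : Tw r θ ρ)
    (hm : Nat.card Q + finrank K V ≤ m + 1)
    (W : Submodule K V) (hW : ∀ u, ∀ w ∈ W, r u w ∈ W) (hρ : ∀ g, ∀ w ∈ W, ρ g w ∈ W)
    (hbot : W ≠ ⊥) (htop : W ≠ ⊤)
    {x y : T} {n n' : ℕ} {a b : T} (hx : Exc p ρ x n a) (hy : Exc p ρ y n' b) (u : Q) :
    r (θ ⁅a, b⁆ u) = r u := by
  have h1 : finrank K W < finrank K V := Submodule.finrank_lt htop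
  have h2 : finrank K (V ⧸ W) < finrank K V := by
    have := Submodule.finrank_quotient_add_finrank W
    have hpos : 0 < finrank K W := by
      rw [Module.finrank_pos_iff]
      exact Submodule.nontrivial_iff_ne_bot.mpr hbot
    omega
  apply fix_of_sub_quot hQ hqK (θ ⁅a, b⁆) W hW
  · exact IH Q W T _ θ _ hQ hT (htw.sub W hW hρ) (by omega) x y n n' a b (hx.sub W hρ) (hy.sub W hρ)
  · exact IH Q (V ⧸ W) T _ θ _ hQ hT (htw.quot W hW hρ) (by omega) x y n n' a b
      (hx.quot W hρ) (hy.quot W hρ)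

end Step1


section Step2

variable {K : Type v} [Field K]
variable {Q : Type w} [Group Q] {V : Type u} [AddCommGroup V] [Module K V]
variable {T : Type t} [Group T]
variable {r : Q →* Module.End K V} {θ : T →* MulAut Q} {ρ : T →* Module.End K V}

/-- irreducibility under `r(Q)` and `ρ(T)` -/
def IrrT (r : Q →* Module.End K V) (ρ : T →* Module.End K V) : Prop :=
  ∀ W : Submodule K V, (∀ u, ∀ w ∈ W, r u w ∈ W) → (∀ g, ∀ w ∈ W, ρ g w ∈ W) → W = ⊥ ∨ W = ⊤

/-- conjugation action of `T` on `End V` -/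
def conjRep (ρ : T →* Module.End K V) : T →* Module.End K (Module.End K V) where
  toFun g := (LinearMap.mulLeft K (ρ g)).comp (LinearMap.mulRight K (ρ g⁻¹))
  map_one' := by
    ext φ
    simp
  map_mul' := by
    intro g h
    ext φ
    simp [mul_assoc]

theorem conjRep_apply (g : T) (φ : Module.End K V) : conjRep ρ g φ = ρ g * φ * ρ g⁻¹ := by
  simp [conjRep, mul_assoc]

theorem schurT [IsAlgClosed K] [FiniteDimensional K V] [Nontrivial V] (hirr : IrrT r ρ)
    (b : Module.End K V) (hb : b ∈ commR r) (hbX : ∀ g, b * ρ g = ρ g * b) :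
    ∃ ν : K, b = ν • (1 : Module.End K V) := by
  obtain ⟨ν, hν⟩ := Module.End.exists_eigenvalue b
  refine ⟨ν, ?_⟩
  have h1 : ∀ u : Q, ∀ w ∈ b.eigenspace ν, r u w ∈ b.eigenspace ν := by
    intro u w hw
    rw [Module.End.mem_eigenspace_iff] at hw ⊢
    have := LinearMap.congr_fun (hb u) w
    simp only [Module.End.mul_apply] at this
    rw [this, hw, map_smul]
  have h2 : ∀ g : T, ∀ w ∈ b.eigenspace ν, ρ g w ∈ b.eigenspace ν := by
    intro g w hw
    rw [Module.End.mem_eigenspace_iff] at hw ⊢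
    have := LinearMap.congr_fun (hbX g) w
    simp only [Module.End.mul_apply] at this
    rw [this, hw, map_smul]
  rcases hirr _ h1 h2 with h | h
  · exact absurd h (Module.End.hasEigenvalue_iff.mp hν)
  · ext v
    have : v ∈ b.eigenspace ν := by rw [h]; trivial
    rw [Module.End.mem_eigenspace_iff] at this
    simpa using this

theorem exists_bT [Nontrivial V] [Finite T] {p : ℕ} [Fact p.Prime] [CharP K p]
    (hT : IsPGroup p T) (htw : Tw r θ ρ)
    (hne : ∃ φ ∈ commR r, φ ∉ Submodule.span K {(1 : Module.End K V)}) :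
    ∃ b ∈ commR r, b ∉ Submodule.span K {(1 : Module.End K V)} ∧
      ∀ g : T, ∃ c : K, ρ g * b * ρ g⁻¹ - b = c • (1 : Module.End K V) := by
  obtain ⟨φ, hφ, hφ'⟩ := hne
  have inv' : ∀ g : T, ∀ m ∈ Submodule.span K {(1 : Module.End K V)},
      conjRep ρ g m ∈ Submodule.span K {(1 : Module.End K V)} := by
    intro g m hm
    obtain ⟨c, rfl⟩ := Submodule.mem_span_singleton.mp hm
    rw [conjRep_apply, mul_smul_comm, mul_one, smul_mul_assoc, r_mul_inv]
    exact Submodule.mem_span_singleton.mpr ⟨c, rfl⟩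
  have inv'' : ∀ g : T, ∀ m ∈ commR r, conjRep ρ g m ∈ commR r := by
    intro g m hm
    rw [conjRep_apply]
    exact commR_conj (α := θ g) (htw g) (ρ g⁻¹) (r_mul_inv ρ g) (r_inv_mul ρ g) m hm
  obtain ⟨b, hb, hb', hbg⟩ := fixvec (p := p) hT (conjRep ρ) _ _ inv' inv'' φ hφ hφ'
  refine ⟨b, hb, hb', ?_⟩
  intro g
  have := hbg g
  rw [conjRep_apply] at this
  obtain ⟨c, hc⟩ := Submodule.mem_span_singleton.mp this
  exact ⟨c, hc.symm⟩


theorem div_p_aux {p : ℕ} (hp : 2 ≤ p) {n : ℕ} (hn : 1 ≤ n) : (p ^ n - 1) / p = p ^ (n - 1) - 1 := by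
  have h1 : p ^ n = p * p ^ (n - 1) := by rw [← pow_succ']; congr 1; omega
  have h2 : 1 ≤ p ^ (n - 1) := Nat.one_le_pow _ _ (by omega)
  have h3 : p ^ n - 1 = (p - 1) + p * (p ^ (n - 1) - 1) := by
    rw [h1, Nat.mul_sub, mul_one]
    have : p ≤ p * p ^ (n - 1) := Nat.le_mul_of_pos_right _ (by omega)
    omega
  rw [h3, Nat.add_mul_div_left _ _ (by omega : 0 < p), Nat.div_eq_of_lt (by omega), zero_add]

/-- **Step 2**: the commutant of `r(Q)` is not scalar (wreath-type reduction). -/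
theorem step2 [IsAlgClosed K] [FiniteDimensional K V] [Nontrivial V] [Finite Q] [Finite T]
    {p q m : ℕ} [Fact p.Prime] [CharP K p]
    (IH : PairP.{u, v, w, t} K p q m)
    (hQ : IsPGroup q Q) (hT : IsPGroup p T) (htw : Tw r θ ρ)
    (hm : Nat.card Q + finrank K V ≤ m + 1)
    (hirr : IrrT r ρ)
    (hne : ∃ φ ∈ commR r, φ ∉ Submodule.span K {(1 : Module.End K V)})
    {x y : T} {n n' : ℕ} {a b' : T} (hx : Exc p ρ x n a) (hy : Exc p ρ y n' b') (u : Q) :
    r (θ ⁅a, b'⁆ u) = r u := by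
  classical
  have hp : p.Prime := Fact.out
  obtain ⟨b, hb, hbns, hshift⟩ := exists_bT hT htw hne
  choose c hc using hshift
  have hsh : ∀ g, Shift r (ρ g) (ρ g⁻¹) b (c g) :=
    fun g => ⟨r_mul_inv ρ g, r_inv_mul ρ g, hb, hc g⟩
  have hone_ne : (1 : Module.End K V) ≠ 0 := end_one_ne_zero'
  have hadd : ∀ g h, c (g * h) = c g + c h := by
    intro g h
    have key : ρ (g * h) * b * ρ (g * h)⁻¹ - b = (c g + c h) • (1 : Module.End K V) := by
      have e1 : ρ h * b * ρ h⁻¹ = b + c h • (1 : Module.End K V) := by rw [← hc h]; abel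
      have e2 : ρ g * b * ρ g⁻¹ = b + c g • (1 : Module.End K V) := by rw [← hc g]; abel
      rw [mul_inv_rev, map_mul, map_mul]
      have : ρ g * ρ h * b * (ρ h⁻¹ * ρ g⁻¹) = ρ g * (ρ h * b * ρ h⁻¹) * ρ g⁻¹ := by
        simp only [mul_assoc]
      rw [this, e1, mul_add, add_mul, e2, mul_smul_comm, smul_mul_assoc, mul_one, r_mul_inv,
        add_smul]
      abel
    exact smul_right_cancel' hone_ne ((hc (g * h)).symm.trans key)
  have hc1 : c 1 = 0 := by
    have := hadd 1 1
    rw [mul_one] at this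
    exact left_eq_add.mp this
  have hinv : ∀ g, c g⁻¹ = - c g := by
    intro g
    have := hadd g g⁻¹
    rw [mul_inv_cancel, hc1] at this
    exact eq_neg_of_add_eq_zero_right this.symm
  have hpow : ∀ g (k : ℕ), c (g ^ k) = k * c g := by
    intro g k
    induction k with
    | zero => simp [hc1]
    | succ j ih => rw [pow_succ, hadd, ih]; push_cast; ring
  let T₁ : Subgroup T :=
    { carrier := {g | c g = 0}
      one_mem' := hc1
      mul_mem' := by
        intro g h hg hh
        simp only [Set.mem_ofPred_eq] at hg hh ⊢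
        rw [hadd, hg, hh, add_zero]
      inv_mem' := by
        intro g hg
        simp only [Set.mem_ofPred_eq] at hg ⊢
        rw [hinv, hg, neg_zero] }
  have hT₁ : ∀ g, g ∈ T₁ ↔ c g = 0 := fun g => Iff.rfl
  have hE : ∀ ν : K, ∀ w ∈ b.eigenspace ν, r (θ ⁅a, b'⁆ u) w = r u w := by
    intro ν w hw
    by_cases hEbot : b.eigenspace ν = ⊥
    · rw [hEbot, Submodule.mem_bot] at hw
      rw [hw]; simp
    have hEr : ∀ u, ∀ w ∈ b.eigenspace ν, r u w ∈ b.eigenspace ν :=
      fun u w hw => (hsh 1).r_maps ν u w hw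
    have hEρ : ∀ g : T₁, ∀ w ∈ b.eigenspace ν, (ρ.comp T₁.subtype) g w ∈ b.eigenspace ν := by
      intro g w hw
      have := (hsh g.1).X_maps ν w hw
      rw [(hT₁ g.1).mp g.2, sub_zero] at this
      exact this
    have hEtop : b.eigenspace ν ≠ ⊤ := by
      intro htop
      apply hbns
      rw [Submodule.mem_span_singleton]
      refine ⟨ν, ?_⟩
      ext v
      have : v ∈ b.eigenspace ν := by rw [htop]; trivial
      rw [Module.End.mem_eigenspace_iff] at this
      simpa using this.symm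
    have hlt : finrank K (b.eigenspace ν) < finrank K V := Submodule.finrank_lt hEtop
    have hEnt : Nontrivial (b.eigenspace ν) := Submodule.nontrivial_iff_ne_bot.mpr hEbot
    have key : ∀ (x : T) (n : ℕ) (a : T), Exc p ρ x n a →
        ∃ (x₁ : T₁) (n₁ : ℕ) (a₁ : T₁),
          Exc p (subRep (ρ.comp T₁.subtype) (b.eigenspace ν) hEρ) x₁ n₁ a₁ ∧ (a₁ : T) = a := by
      intro x n a hx
      by_cases hcx : c x = 0
      · have hxT : x ∈ T₁ := hcx
        have haT : a ∈ T₁ := by rw [hx.ha]; exact Subgroup.pow_mem _ hxT _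
        refine ⟨⟨x, hxT⟩, n, ⟨a, haT⟩, ?_, rfl⟩
        apply Exc.sub _ (b.eigenspace ν) hEρ
        exact Exc.comp T₁.subtype (Subtype.ext (by simpa using hx.xN))
          (Subtype.ext (by simpa using hx.ha)) hx
      · have hxp : x ^ p ∈ T₁ := by rw [hT₁, hpow, CharP.cast_eq_zero K p, zero_mul]
        have hWX : ∀ w ∈ b.eigenspace ν, ((ρ x) ^ p) w ∈ b.eigenspace ν := by
          intro w hw
          have := (hsh x).X_pow_maps ν p w hw
          rwa [Shift.eig_p] at this
        have hlow := (hsh x).lower hcx ν hWX (p ^ n - 1) hx.xE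
        rw [div_p_aux hp.two_le hx.npos] at hlow
        have hn2 : 2 ≤ n := by
          by_contra hcon
          have hn1 : n = 1 := by have := hx.npos; omega
          rw [hn1] at hlow
          simp only [Nat.sub_self, pow_zero] at hlow
          exact end_one_ne_zero' hlow
        have haT : a ∈ T₁ := by
          rw [hx.ha]
          have : p ^ (n - 1) = p * p ^ (n - 2) := by rw [← pow_succ']; congr 1; omega
          rw [this, pow_mul]
          exact Subgroup.pow_mem _ hxp _
        refine ⟨⟨x ^ p, hxp⟩, n - 1, ⟨a, haT⟩, ⟨by omega, ?_, ?_, ?_⟩, rfl⟩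
        · apply Subtype.ext
          simp only [Subgroup.coe_pow, Subgroup.coe_one]
          rw [← pow_mul, ← pow_succ']
          have : n - 1 + 1 = n := by omega
          rw [this, hx.xN]
        · have : subRep (ρ.comp T₁.subtype) (b.eigenspace ν) hEρ ⟨x ^ p, hxp⟩
              = ((ρ x) ^ p).restrict hWX := by
            ext w
            simp [subRep_apply, map_pow]
          rw [this]; exact hlow
        · apply Subtype.ext
          simp only [Subgroup.coe_pow]
          rw [hx.ha, ← pow_mul, ← pow_succ']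
          congr 2; omega
    obtain ⟨x₁, n₁, a₁, hx₁, ha₁⟩ := key x n a hx
    obtain ⟨y₁, n₁', b₁, hy₁, hb₁⟩ := key y n' b' hy
    have hres := IH Q (b.eigenspace ν) T₁ (subRep r (b.eigenspace ν) hEr) (θ.comp T₁.subtype)
      (subRep (ρ.comp T₁.subtype) (b.eigenspace ν) hEρ) hQ (hT.to_subgroup T₁)
      ((htw.comp T₁.subtype).sub (b.eigenspace ν) hEr hEρ) (by omega) x₁ y₁ n₁ n₁' a₁ b₁ hx₁ hy₁ u
    have e : ((θ.comp T₁.subtype) ⁅a₁, b₁⁆) = θ ⁅a, b'⁆ := by
      rw [MonoidHom.comp_apply, map_commutatorElement]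
      simp [ha₁, hb₁]
    rw [e] at hres
    have := LinearMap.congr_fun hres ⟨w, hw⟩
    exact congrArg Subtype.val this
  have hsup : (⨆ ν : K, b.eigenspace ν) = ⊤ := by
    have inv1 : ∀ u, ∀ w ∈ (⨆ ν : K, b.eigenspace ν), r u w ∈ (⨆ ν : K, b.eigenspace ν) := by
      intro u w hw
      refine Submodule.iSup_induction _ (motive := fun w => r u w ∈ ⨆ ν : K, b.eigenspace ν) hw
        ?_ ?_ ?_
      · intro ν w hw
        exact le_iSup (fun ν => b.eigenspace ν) ν ((hsh 1).r_maps ν u w hw)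
      · simp
      · intro a b ha hb
        rw [map_add]; exact Submodule.add_mem _ ha hb
    have inv2 : ∀ g, ∀ w ∈ (⨆ ν : K, b.eigenspace ν), ρ g w ∈ (⨆ ν : K, b.eigenspace ν) := by
      intro g w hw
      refine Submodule.iSup_induction _ (motive := fun w => ρ g w ∈ ⨆ ν : K, b.eigenspace ν) hw
        ?_ ?_ ?_
      · intro ν w hw
        exact le_iSup (fun ν => b.eigenspace ν) (ν - c g) ((hsh g).X_maps ν w hw)
      · simp
      · intro a b ha hb
        rw [map_add]; exact Submodule.add_mem _ ha hb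
    rcases hirr _ inv1 inv2 with h | h
    · exfalso
      obtain ⟨ν, hν⟩ := Module.End.exists_eigenvalue b
      have : b.eigenspace ν ≤ ⊥ := h ▸ le_iSup (fun ν => b.eigenspace ν) ν
      exact Module.End.hasEigenvalue_iff.mp hν (le_bot_iff.mp this)
    · exact h
  have hle : (⊤ : Submodule K V) ≤ LinearMap.eqLocus (r (θ ⁅a, b'⁆ u)) (r u) := by
    rw [← hsup]
    apply iSup_le
    intro ν w hw
    exact hE ν w hw
  ext v
  exact hle (Submodule.mem_top)

end Step2

end Cfsg.Agent.Lib.Helper66.HHPair
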