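import Cfsg.Agent.Lib.Helper66.HHPair2

set_option autoImplicit false
set_option linter.unusedSectionVars false
set_option linter.style.haveILetI false

namespace Cfsg.Agent.Lib.Helper66.HHPair

open Module Cfsg.Agent.Lib.Helper66.HHCrit Cfsg.Agent.Lib.Helper66.HHThmB
open scoped commutatorElement

universe u v w t

section Step4

variable {K : Type v} [Field K]
variable {Q : Type w} [Group Q] {V : Type u} [AddCommGroup V] [Module K V]
variable {T : Type t} [Group T]
variable {r : Q →* Module.End K V} {θ : T →* MulAut Q} {ρ : T →* Module.End K V}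

/-- centraliser in `Q` of the image of a subgroup -/
def cenSub (r : Q →* Module.End K V) (H : Subgroup Q) : Subgroup Q where
  carrier := {u | ∀ v ∈ H, r u * r v = r v * r u}
  one_mem' := by intro v _; simp
  mul_mem' := by
    intro a b ha hb v hv
    rw [map_mul, mul_assoc, hb v hv, ← mul_assoc, ha v hv, mul_assoc]
  inv_mem' := by
    intro a ha v hv
    have h1 := ha v hv
    calc r a⁻¹ * r v = r a⁻¹ * (r v * r a) * r a⁻¹ := by
          rw [mul_assoc, mul_assoc, r_mul_inv, mul_one]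
      _ = r a⁻¹ * (r a * r v) * r a⁻¹ := by rw [h1]
      _ = r v * r a⁻¹ := by rw [← mul_assoc, r_inv_mul, one_mul]

theorem mem_cenSub (H : Subgroup Q) (u : Q) :
    u ∈ cenSub r H ↔ ∀ v ∈ H, r u * r v = r v * r u := Iff.rfl

theorem cenSub_inv (htw : Tw r θ ρ) (H : Subgroup Q) (hH : ∀ g, ∀ u ∈ H, θ g u ∈ H)
    (g : T) (u : Q) (hu : u ∈ cenSub r H) : θ g u ∈ cenSub r H := by
  intro v hv
  have hv' : θ g⁻¹ v ∈ H := hH g⁻¹ v hv
  have h1 := hu _ hv'
  have e : θ g (θ g⁻¹ v) = v := by
    rw [← MulAut.mul_apply, ← map_mul, mul_inv_cancel, map_one, MulAut.one_apply]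
  have h2 : r v = ρ g * r (θ g⁻¹ v) * ρ g⁻¹ := by rw [← htw.conj, e]
  rw [htw.conj, h2]
  calc ρ g * r u * ρ g⁻¹ * (ρ g * r (θ g⁻¹ v) * ρ g⁻¹)
      = ρ g * (r u * (ρ g⁻¹ * ρ g) * r (θ g⁻¹ v)) * ρ g⁻¹ := by simp only [mul_assoc]
    _ = ρ g * (r (θ g⁻¹ v) * r u) * ρ g⁻¹ := by rw [r_inv_mul, mul_one, h1]
    _ = ρ g * (r (θ g⁻¹ v) * (ρ g⁻¹ * ρ g) * r u) * ρ g⁻¹ := by rw [r_inv_mul, mul_one]
    _ = ρ g * r (θ g⁻¹ v) * ρ g⁻¹ * (ρ g * r u * ρ g⁻¹) := by simp only [mul_assoc]

/-- conjugating `k` times -/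
theorem conj_pow_eq (C C' A B : Module.End K V)
    (hA : C * A = A * C) (hB : C * B * C' = A * B) (k : ℕ) :
    C ^ k * B * C' ^ k = A ^ k * B := by
  induction k with
  | zero => simp
  | succ j ih =>
    have hAj : C * A ^ j = A ^ j * C := by
      have : Commute C A := hA
      exact (this.pow_right j)
    calc C ^ (j + 1) * B * C' ^ (j + 1) = C * (C ^ j * B * C' ^ j) * C' := by
          rw [pow_succ', pow_succ]; simp only [mul_assoc]
      _ = C * (A ^ j * B) * C' := by rw [ih]
      _ = A ^ j * (C * B * C') := by rw [← mul_assoc, hAj]; simp only [mul_assoc]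
      _ = A ^ (j + 1) * B := by rw [hB, ← mul_assoc, ← pow_succ]

/-- **Step 4a**: a proper invariant normal subgroup whose image is not scalar. -/
theorem step4a [IsAlgClosed K] [FiniteDimensional K V] [Nontrivial V] [Finite Q] [Finite T]
    {p q : ℕ} [Fact p.Prime] [Fact q.Prime] (hpq : p ≠ q)
    (hQ : IsPGroup q Q) (hT : IsPGroup p T) (htw : Tw r θ ρ) (hirr : Irr r) (c₀ : T)
    (IHsub : ∀ H : Subgroup Q, H ≠ ⊤ → (∀ g, ∀ u ∈ H, θ g u ∈ H) →
      ∀ u ∈ H, r (θ c₀ u) = r u)
    (H : Subgroup Q) [H.Normal] (hH : ∀ g, ∀ u ∈ H, θ g u ∈ H) (hHtop : H ≠ ⊤)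
    (hHZ : ¬ H ≤ scalarSub r) (u : Q) : r (θ c₀ u) = r u := by
  have hp : p.Prime := Fact.out
  have hq : q.Prime := Fact.out
  have hDtop : cenSub r H ≠ ⊤ := by
    intro htop
    apply hHZ
    intro v hv
    rw [mem_scalarSub]
    apply schur_scalar r hirr
    intro u
    have : u ∈ cenSub r H := by rw [htop]; trivial
    exact (this v hv).symm
  have hDinv : ∀ g, ∀ u ∈ cenSub r H, θ g u ∈ cenSub r H := fun g u hu => cenSub_inv htw H hH g u hu
  have hD := IHsub _ hDtop hDinv
  have hHfix := IHsub H hHtop hH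
  set d := θ c₀ u * u⁻¹ with hd
  have hdD : d ∈ cenSub r H := by
    intro v hv
    have hv' : u⁻¹ * v * u ∈ H := by
      have := (inferInstance : H.Normal).conj_mem v hv u⁻¹
      simpa using this
    have e1 := hHfix _ hv'
    have e2 := hHfix _ hv
    simp only [map_mul, map_inv] at e1
    rw [e2] at e1
    -- e1 : r (θ c₀ u)⁻¹ * r v * r (θ c₀ u) = r u⁻¹ * r v * r u
    rw [hd, map_mul]
    calc r (θ c₀ u) * r u⁻¹ * r v
        = r (θ c₀ u) * (r u⁻¹ * r v * r u) * r u⁻¹ := by
          simp only [mul_assoc]; rw [r_mul_inv, mul_one]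
      _ = r (θ c₀ u) * (r (θ c₀ u)⁻¹ * r v * r (θ c₀ u)) * r u⁻¹ := by rw [e1]
      _ = r v * (r (θ c₀ u) * r u⁻¹) := by
          simp only [← mul_assoc]; rw [r_mul_inv, one_mul]
  have hfixd : r (θ c₀ d) = r d := hD d hdD
  -- iterate
  have hC : ρ c₀ * r d = r d * ρ c₀ := (htw.fix_iff c₀ d).mp hfixd
  have hB : ρ c₀ * r u * ρ c₀⁻¹ = r d * r u := by
    rw [← htw.conj, ← map_mul, hd]
    congr 1; group
  obtain ⟨j, hj⟩ := hT c₀
  obtain ⟨i, hi⟩ := hQ d
  have hk := conj_pow_eq (ρ c₀) (ρ c₀⁻¹) (r d) (r u) hC hB (p ^ j)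
  rw [← map_pow, ← map_pow, inv_pow, hj, inv_one, map_one, one_mul, mul_one] at hk
  have h1 : r d ^ p ^ j = 1 := by
    have := congrArg (· * r u⁻¹) hk
    simp only [mul_assoc, r_mul_inv, mul_one] at this
    exact this.symm
  have h2 : r d ^ q ^ i = 1 := by rw [← map_pow, hi, map_one]
  have h3 := (pow_gcd_eq_one (a := r d)).mpr ⟨h1, h2⟩
  have hcop : Nat.gcd (p ^ j) (q ^ i) = 1 :=
    Nat.Coprime.pow _ _ ((Nat.coprime_primes hp hq).mpr hpq)
  rw [hcop, pow_one] at h3
  have : θ c₀ u = d * u := by rw [hd]; group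
  rw [this, map_mul, h3, one_mul]


theorem scalarSub_inv [Nontrivial V] (htw : Tw r θ ρ) (g : T) (u : Q) (hu : u ∈ scalarSub r) :
    θ g u ∈ scalarSub r := by
  obtain ⟨c, hc⟩ := hu
  refine ⟨c, ?_⟩
  rw [htw.conj, hc, mul_smul_comm, mul_one, smul_mul_assoc, r_mul_inv]

/-- induced action on the quotient by an invariant normal subgroup -/
noncomputable def quotθ (θ : T →* MulAut Q) (Z : Subgroup Q) [Z.Normal]
    (hZ : ∀ g, ∀ u ∈ Z, θ g u ∈ Z) : T →* MulAut (Q ⧸ Z) where
  toFun g := QuotientGroup.congr Z Z (θ g) (by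
    ext v
    constructor
    · rintro ⟨u, hu, rfl⟩
      exact hZ g u hu
    · intro hv
      refine ⟨θ g⁻¹ v, hZ g⁻¹ v hv, ?_⟩
      show θ g (θ g⁻¹ v) = v
      rw [← MulAut.mul_apply, ← map_mul, mul_inv_cancel, map_one, MulAut.one_apply])
  map_one' := by
    ext ū
    induction ū using QuotientGroup.induction_on with
    | H u => simp
  map_mul' := by
    intro g h
    ext ū
    induction ū using QuotientGroup.induction_on with
    | H u => simp

theorem quotθ_mk (Z : Subgroup Q) [Z.Normal] (hZ : ∀ g, ∀ u ∈ Z, θ g u ∈ Z) (g : T) (u : Q) :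
    quotθ θ Z hZ g (QuotientGroup.mk u) = QuotientGroup.mk (θ g u) := rfl

/-- structure of a minimal configuration: `Q / Z` is an irreducible elementary abelian module -/
theorem min_struct [Nontrivial V] [Finite Q] {q : ℕ} [Fact q.Prime] (hQ : IsPGroup q Q)
    (htw : Tw r θ ρ) (hZtop : scalarSub r ≠ ⊤)
    (hmin : ∀ H : Subgroup Q, H.Normal → (∀ g, ∀ u ∈ H, θ g u ∈ H) → H ≠ ⊤ → H ≤ scalarSub r) :
    (∀ a b : Q ⧸ scalarSub r, a * b = b * a) ∧ (∀ a : Q ⧸ scalarSub r, a ^ q = 1) ∧
    (∀ W : Subgroup (Q ⧸ scalarSub r),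
      (∀ g, ∀ w ∈ W, quotθ θ (scalarSub r) (scalarSub_inv htw) g w ∈ W) → W = ⊥ ∨ W = ⊤) := by
  have hq : q.Prime := Fact.out
  have hZinv := scalarSub_inv htw
  have hntQ : Nontrivial Q := by
    by_contra hcon
    rw [not_nontrivial_iff_subsingleton] at hcon
    apply hZtop
    rw [eq_top_iff]
    intro u _
    rw [Subsingleton.elim u 1]
    exact Subgroup.one_mem _
  have hnil : Group.IsNilpotent Q := hQ.isNilpotent
  have hcomm_le : commutator Q ≤ scalarSub r := by
    apply hmin _ inferInstance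
    · intro g u hu
      have hfix := (inferInstance : (commutator Q).Characteristic).fixed (θ g)
      rw [← hfix] at hu
      exact hu
    · exact (Group.IsSolvable.commutator_lt_top_of_nontrivial Q).ne
  have hcomm : ∀ a b : Q ⧸ scalarSub r, a * b = b * a := by
    have h1 := (Subgroup.Normal.quotient_commutative_iff_commutator_le (N := scalarSub r)).mpr
      hcomm_le
    intro a b
    exact h1.is_comm.comm a b
  refine ⟨hcomm, ?_, ?_⟩
  · -- exponent q
    let H : Subgroup Q :=
      { carrier := {u | (QuotientGroup.mk u : Q ⧸ scalarSub r) ^ q = 1}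
        one_mem' := by simp
        mul_mem' := by
          intro a b ha hb
          simp only [Set.mem_ofPred_eq] at ha hb ⊢
          have hc : Commute (QuotientGroup.mk a : Q ⧸ scalarSub r) (QuotientGroup.mk b) :=
            hcomm _ _
          rw [QuotientGroup.mk_mul, hc.mul_pow, ha, hb, one_mul]
        inv_mem' := by
          intro a ha
          simp only [Set.mem_ofPred_eq] at ha ⊢
          rw [QuotientGroup.mk_inv, inv_pow, ha, inv_one] }
    have hHmem : ∀ u, u ∈ H ↔ (QuotientGroup.mk u : Q ⧸ scalarSub r) ^ q = 1 := fun u => Iff.rfl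
    have hHn : H.Normal := by
      constructor
      intro u hu g
      rw [hHmem] at hu ⊢
      rw [QuotientGroup.mk_mul, QuotientGroup.mk_mul, QuotientGroup.mk_inv, conj_pow, hu, mul_one,
        mul_inv_cancel]
    have hHinv : ∀ g, ∀ u ∈ H, θ g u ∈ H := by
      intro g u hu
      rw [hHmem] at hu ⊢
      rw [← quotθ_mk (scalarSub r) hZinv, ← map_pow, hu, map_one]
    by_cases hHtop : H = ⊤
    · intro a
      obtain ⟨u, rfl⟩ := QuotientGroup.mk_surjective a
      have : u ∈ H := by rw [hHtop]; trivial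
      exact this
    · exfalso
      have hHZ := hmin H hHn hHinv hHtop
      have hU : IsPGroup q (Q ⧸ scalarSub r) := hQ.to_quotient _
      have hUnt : Nontrivial (Q ⧸ scalarSub r) := by
        by_contra hcon
        rw [not_nontrivial_iff_subsingleton] at hcon
        apply hZtop
        rw [eq_top_iff]
        intro u _
        have : (QuotientGroup.mk u : Q ⧸ scalarSub r) = 1 := Subsingleton.elim _ _
        exact (QuotientGroup.eq_one_iff u).mp this
      obtain ⟨k, hk⟩ := IsPGroup.iff_card.mp hU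
      have hk0 : k ≠ 0 := by
        rintro rfl
        rw [pow_zero] at hk
        have := Finite.one_lt_card (α := Q ⧸ scalarSub r)
        omega
      have hdvd : q ∣ Nat.card (Q ⧸ scalarSub r) := by rw [hk]; exact dvd_pow_self q hk0
      obtain ⟨ū, hū⟩ := exists_prime_orderOf_dvd_card' q hdvd
      obtain ⟨u, rfl⟩ := QuotientGroup.mk_surjective ū
      have huH : u ∈ H := by rw [hHmem, ← hū]; exact pow_orderOf_eq_one _
      have := (QuotientGroup.eq_one_iff u).mpr (hHZ huH)
      rw [this, orderOf_one] at hū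
      exact hq.one_lt.ne hū
  · intro W hW
    have hWn : W.Normal := by
      constructor
      intro w hw g
      rw [hcomm g w, mul_inv_cancel_right]
      exact hw
    have hHn : (W.comap (QuotientGroup.mk' (scalarSub r))).Normal := hWn.comap _
    have hHinv : ∀ g, ∀ u ∈ W.comap (QuotientGroup.mk' (scalarSub r)),
        θ g u ∈ W.comap (QuotientGroup.mk' (scalarSub r)) := by
      intro g u hu
      rw [Subgroup.mem_comap] at hu ⊢
      exact hW g _ hu
    by_cases hHtop : W.comap (QuotientGroup.mk' (scalarSub r)) = ⊤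
    · right
      rw [eq_top_iff]
      intro a _
      obtain ⟨u, rfl⟩ := QuotientGroup.mk_surjective a
      have : u ∈ W.comap (QuotientGroup.mk' (scalarSub r)) := by rw [hHtop]; trivial
      exact this
    · left
      have hHZ := hmin _ hHn hHinv hHtop
      rw [eq_bot_iff]
      intro a ha
      obtain ⟨u, rfl⟩ := QuotientGroup.mk_surjective a
      rw [Subgroup.mem_bot]
      exact (QuotientGroup.eq_one_iff u).mpr (hHZ ha)

end Step4

end Cfsg.Agent.Lib.Helper66.HHPair
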