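import Cfsg.Agent.Lib.Helper66.HHPair3

set_option autoImplicit false
set_option linter.unusedSectionVars false
set_option linter.style.haveILetI false

namespace Cfsg.Agent.Lib.Helper66.HHPair

open Module Cfsg.Agent.Lib.Helper66.HHCrit Cfsg.Agent.Lib.Helper66.HHThmB
open scoped commutatorElement

universe u v w t

section Orb

variable {U : Type*} [Group U]

/-- action of the cyclic group `Fin N` through powers of `σ` -/
@[instance_reducible]
def cycAct (σ : MulAut U) (N : ℕ) [NeZero N] (hσ : σ ^ N = 1) :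
    MulAction (Multiplicative (Fin N)) U where
  smul g ū := (σ ^ (Multiplicative.toAdd g).val) ū
  one_smul := by
    intro ū
    show (σ ^ ((0 : Fin N).val)) ū = ū
    simp
  mul_smul := by
    intro g h ū
    show (σ ^ ((Multiplicative.toAdd g + Multiplicative.toAdd h).val)) ū
      = (σ ^ (Multiplicative.toAdd g).val) ((σ ^ (Multiplicative.toAdd h).val) ū)
    rw [Fin.val_add, ← pow_eq_pow_mod _ hσ, pow_add, MulAut.mul_apply]

theorem orb_count [Fintype U] [DecidableEq U] (σ : MulAut U) (N : ℕ) (hN : 0 < N)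
    (hσ : σ ^ N = 1) :
    ∃ (k : ℕ) (reps : Fin k → U), (∀ ū, ∃ j i, (σ ^ i) (reps j) = ū) ∧
      k * N = ∑ i ∈ Finset.range N, (Finset.univ.filter (fun ū => (σ ^ i) ū = ū)).card := by
  classical
  haveI : NeZero N := ⟨hN.ne'⟩
  letI := cycAct σ N hσ
  have hsmul : ∀ (g : Multiplicative (Fin N)) (ū : U),
      g • ū = (σ ^ (Multiplicative.toAdd g).val) ū := fun g ū => rfl
  let Ω := MulAction.orbitRel.Quotient (Multiplicative (Fin N)) U
  haveI : Fintype Ω := Fintype.ofFinite _
  let e := Fintype.equivFin Ω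
  refine ⟨Fintype.card Ω, fun j => (e.symm j).out, ?_, ?_⟩
  · intro ū
    refine ⟨e (Quotient.mk'' ū), ?_⟩
    simp only [Equiv.symm_apply_apply]
    have h1 : (Quotient.mk'' ū : Ω).out ∈ MulAction.orbit (Multiplicative (Fin N)) ū := by
      have := Quotient.mk_out (s := MulAction.orbitRel (Multiplicative (Fin N)) U) ū
      exact this
    have h2 : ū ∈ MulAction.orbit (Multiplicative (Fin N)) (Quotient.mk'' ū : Ω).out := by
      rw [MulAction.orbit_eq_iff.mpr h1]
      exact MulAction.mem_orbit_self _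
    obtain ⟨g, hg⟩ := h2
    exact ⟨(Multiplicative.toAdd g).val, hg⟩
  · have hB := MulAction.sum_card_fixedBy_eq_card_orbits_mul_card_group (Multiplicative (Fin N)) U
    have hc : Fintype.card (Multiplicative (Fin N)) = N := by simp
    rw [hc] at hB
    rw [← Fin.sum_univ_eq_sum_range (fun i => (Finset.univ.filter (fun ū => (σ ^ i) ū = ū)).card) N]
    have : Fintype.card Ω = Fintype.card (Quotient (MulAction.orbitRel (Multiplicative (Fin N)) U)) :=
      Fintype.card_congr (Equiv.refl _)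
    rw [this, ← hB]
    refine Fintype.sum_equiv Multiplicative.toAdd _ _ ?_
    intro g
    rw [← Fintype.card_subtype]
    apply Fintype.card_congr
    exact Equiv.subtypeEquivRight (fun ū => by rw [MulAction.mem_fixedBy, hsmul])

end Orb


section Step5a

variable {K : Type v} [Field K] [IsAlgClosed K]
variable {Q : Type w} [Group Q] [Fintype Q] {V : Type u} [AddCommGroup V] [Module K V]
  [FiniteDimensional K V] [Nontrivial V]
variable {r : Q →* Module.End K V}

theorem trace_eq_zero_of_not_scalar (hirr : Irr r) (hab : ∀ u v : Q, ⁅u, v⁆ ∈ scalarSub r)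
    (u : Q) (hu : u ∉ scalarSub r) : LinearMap.trace K V (r u) = 0 := by
  have hex : ∃ v, r u * r v ≠ r v * r u := by
    by_contra hcon
    push Not at hcon
    apply hu
    rw [mem_scalarSub]
    exact schur_scalar r hirr (r u) hcon
  obtain ⟨v, hv⟩ := hex
  obtain ⟨l, hl⟩ := hab u v
  rw [commutatorElement_def, map_mul, map_mul, map_mul] at hl
  have h1 : r u * r v = l • (r v * r u) := by
    have := congrArg (· * (r v * r u)) hl
    simp only [smul_mul_assoc, one_mul] at this
    rw [← this]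
    simp only [mul_assoc]
    rw [← mul_assoc (r v⁻¹), r_inv_mul, one_mul, r_inv_mul, mul_one]
  have hl1 : l ≠ 1 := by
    rintro rfl
    rw [one_smul] at h1
    exact hv h1
  have h2 : LinearMap.trace K V (r u) = l * LinearMap.trace K V (r u) := by
    calc LinearMap.trace K V (r u) = LinearMap.trace K V (r u * r v * r v⁻¹) := by
          rw [mul_assoc, r_mul_inv, mul_one]
      _ = LinearMap.trace K V (l • (r v * r u) * r v⁻¹) := by rw [h1]
      _ = l * LinearMap.trace K V (r v * r u * r v⁻¹) := by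
          rw [smul_mul_assoc, map_smul, smul_eq_mul]
      _ = l * LinearMap.trace K V (r u) := by
          rw [LinearMap.trace_mul_comm, ← mul_assoc, r_inv_mul, one_mul]
  have h3 : (1 - l) * LinearMap.trace K V (r u) = 0 := by
    rw [sub_mul, one_mul, ← h2, sub_self]
  rcases mul_eq_zero.mp h3 with h | h
  · exact absurd (sub_eq_zero.mp h).symm hl1
  · exact h

theorem card_le_sq (hirr : Irr r) (hQK : (Fintype.card Q : K) ≠ 0)
    (hab : ∀ u v : Q, ⁅u, v⁆ ∈ scalarSub r) :
    Nat.card (Q ⧸ scalarSub r) ≤ finrank K V ^ 2 := by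
  classical
  haveI : Fintype (Q ⧸ scalarSub r) := Fintype.ofFinite _
  let s : Q ⧸ scalarSub r → Q := Quotient.out
  have hs : ∀ ū, (QuotientGroup.mk (s ū) : Q ⧸ scalarSub r) = ū := fun ū => QuotientGroup.out_eq' ū
  let Φ : (Q ⧸ scalarSub r → K) →ₗ[K] Module.End K V :=
    Fintype.linearCombination K (fun ū => r (s ū))
  have hΦ : Function.Injective Φ := by
    rw [← LinearMap.ker_eq_bot, LinearMap.ker_eq_bot']
    intro c hc
    ext ū₀
    have h0 : ∑ ū, c ū • r (s ū) = 0 := by
      have := hc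
      simp only [Φ, Fintype.linearCombination_apply] at this
      exact this
    have h1 : LinearMap.trace K V ((∑ ū, c ū • r (s ū)) * r (s ū₀)⁻¹) = 0 := by
      rw [h0, zero_mul, map_zero]
    rw [Finset.sum_mul, map_sum] at h1
    rw [Finset.sum_eq_single ū₀] at h1
    · rw [smul_mul_assoc, r_mul_inv, map_smul, LinearMap.trace_one, smul_eq_mul] at h1
      rcases mul_eq_zero.mp h1 with h | h
      · simpa using h
      · exact absurd h (finrank_ne_zero r hirr hQK)
    · intro ū _ hne
      rw [smul_mul_assoc, map_smul, ← map_mul, trace_eq_zero_of_not_scalar hirr hab, smul_zero]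
      intro hmem
      apply hne
      rw [← hs ū, ← hs ū₀]
      rw [QuotientGroup.eq]
      have h2 := (inferInstance : (scalarSub r).Normal).conj_mem _ hmem (s ū)⁻¹
      have h3 := (scalarSub r).inv_mem h2
      have e : ((s ū)⁻¹ * (s ū * (s ū₀)⁻¹) * (s ū)⁻¹⁻¹)⁻¹ = (s ū)⁻¹ * s ū₀ := by group
      rwa [e] at h3
    · intro h; exact absurd (Finset.mem_univ _) h
  have h1 := LinearMap.finrank_le_finrank_of_injective hΦ
  rw [Module.finrank_fintype_fun_eq_card, Module.finrank_linearMap] at h1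
  rw [Nat.card_eq_fintype_card, sq]
  exact h1

end Step5a


section Step5b

variable {K : Type v} [Field K] [IsAlgClosed K]
variable {Q : Type w} [Group Q] [Fintype Q] {V : Type u} [AddCommGroup V] [Module K V]
  [FiniteDimensional K V] [Nontrivial V]
variable {r : Q →* Module.End K V}

theorem comm_le {σ : MulAut Q} {X Y : Module.End K V} (hirr : Irr r)
    (hQK : (Fintype.card Q : K) ≠ 0) (hXY : X * Y = 1) (hYX : Y * X = 1)
    (htw : ∀ u, X * r u = r (σ u) * X) (k : ℕ) (reps : Fin k → Q)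
    (hcov : ∀ u : Q, ∃ j i, ∃ z ∈ scalarSub r, u = (σ ^ i) (reps j) * z) :
    finrank K (comm (X - 1)) ≤ k := by
  classical
  let Ψ : comm (X - 1) →ₗ[K] (Fin k → K) :=
    LinearMap.pi (fun j => (LinearMap.trace K V).comp
      ((LinearMap.mulRight K (r (reps j)⁻¹)).comp (Submodule.subtype _)))
  have hΨ : ∀ (φ : comm (X - 1)) (j : Fin k),
      Ψ φ j = LinearMap.trace K V ((φ : Module.End K V) * r (reps j)⁻¹) := fun φ j => rfl
  have hinj : Function.Injective Ψ := by
    rw [← LinearMap.ker_eq_bot, LinearMap.ker_eq_bot']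
    rintro ⟨φ, hφ⟩ h0
    have hXφ : X * φ = φ * X := by
      rw [mem_comm] at hφ
      have : X * φ - φ = φ * X - φ := by
        rw [sub_mul, mul_sub, one_mul, mul_one] at hφ
        exact hφ
      exact sub_left_injective this
    have hYφX : Y * φ * X = φ := by
      rw [mul_assoc, ← hXφ, ← mul_assoc, hYX, one_mul]
    have hrσ : ∀ w, r (σ w) = X * r w * Y := fun w => by
      rw [htw, mul_assoc, hXY, mul_one]
    have hfσ : ∀ w, LinearMap.trace K V (φ * r (σ w)⁻¹) = LinearMap.trace K V (φ * r w⁻¹) := by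
      intro w
      rw [← map_inv, hrσ]
      have h2 : φ * (X * r w⁻¹ * Y) = (φ * X * r w⁻¹) * Y := by simp only [mul_assoc]
      rw [h2, LinearMap.trace_mul_comm]
      have h3 : Y * (φ * X * r w⁻¹) = (Y * φ * X) * r w⁻¹ := by simp only [mul_assoc]
      rw [h3, hYφX]
    have hfσi : ∀ (i : ℕ) w,
        LinearMap.trace K V (φ * r ((σ ^ i) w)⁻¹) = LinearMap.trace K V (φ * r w⁻¹) := by
      intro i
      induction i with
      | zero => intro w; simp
      | succ j ih => intro w; rw [pow_succ', MulAut.mul_apply, hfσ, ih]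
    have hf0 : ∀ u : Q, LinearMap.trace K V (φ * r u⁻¹) = 0 := by
      intro u
      obtain ⟨j, i, z, hz, rfl⟩ := hcov u
      obtain ⟨μ, hμ⟩ := (scalarSub r).inv_mem hz
      have e : r ((σ ^ i) (reps j) * z)⁻¹ = μ • r ((σ ^ i) (reps j))⁻¹ := by
        rw [mul_inv_rev, r.map_mul, hμ, smul_mul_assoc, one_mul]
      rw [e, mul_smul_comm, map_smul, hfσi]
      have := congrFun h0 j
      rw [hΨ] at this
      simp only [Pi.zero_apply] at this
      rw [this, smul_zero]
    have hfour := fourier r hirr φ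
    simp only [hf0, zero_smul, Finset.sum_const_zero, smul_zero] at hfour
    have : φ = 0 := by
      rcases smul_eq_zero.mp hfour.symm with h | h
      · exact absurd h hQK
      · exact h
    exact Subtype.ext this
  have h1 := LinearMap.finrank_le_finrank_of_injective hinj
  rw [Module.finrank_fintype_fun_eq_card, Fintype.card_fin] at h1
  exact h1

end Step5b


section Step5c

theorem fix_pow_pred {U : Type*} [Group U] {p n : ℕ} [Fact p.Prime] (σ : MulAut U)
    (hσ : σ ^ (p ^ n) = 1) (i : ℕ) (hi0 : 0 < i) (hiN : i < p ^ n) (ū : U)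
    (h : (σ ^ i) ū = ū) : (σ ^ (p ^ (n - 1))) ū = ū := by
  have hp : p.Prime := Fact.out
  have hpowfix : ∀ (τ : MulAut U), τ ū = ū → ∀ a : ℕ, (τ ^ a) ū = ū := by
    intro τ hτ a
    induction a with
    | zero => simp
    | succ b ih => rw [pow_succ, MulAut.mul_apply, hτ, ih]
  have hg : Nat.gcd i (p ^ n) < p ^ n :=
    lt_of_le_of_lt (Nat.le_of_dvd hi0 (Nat.gcd_dvd_left _ _)) hiN
  obtain ⟨a, _, ha⟩ := Nat.exists_mul_mod_eq_gcd hg
  obtain ⟨j, hj, hjd⟩ := (Nat.dvd_prime_pow hp).mp (Nat.gcd_dvd_right i (p ^ n))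
  have hjn : j < n := by
    by_contra hcon
    push Not at hcon
    have : j = n := le_antisymm hj hcon
    rw [hjd, this] at hg
    exact lt_irrefl _ hg
  have h1 : (σ ^ (p ^ j)) ū = ū := by
    rw [← hjd, ← ha, ← pow_eq_pow_mod _ hσ, pow_mul]
    exact hpowfix _ h a
  have h2 : p ^ (n - 1) = p ^ j * p ^ (n - 1 - j) := by
    rw [← pow_add]; congr 1; omega
  rw [h2, pow_mul]
  exact hpowfix _ h1 _

variable {K : Type v} [Field K] [IsAlgClosed K]
variable {Q : Type w} [Group Q] [Fintype Q] {V : Type u} [AddCommGroup V] [Module K V]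
  [FiniteDimensional K V] [Nontrivial V]
variable {r : Q →* Module.End K V}

/-- **Step 5**: the counting inequality. -/
theorem ineq {p n : ℕ} [Fact p.Prime] (hirr : Irr r) (hQK : (Fintype.card Q : K) ≠ 0)
    (hab : ∀ u v : Q, ⁅u, v⁆ ∈ scalarSub r)
    {σ : MulAut Q} {X Y : Module.End K V} (hXY : X * Y = 1) (hYX : Y * X = 1)
    (htw : ∀ u, X * r u = r (σ u) * X) (hn : 1 ≤ n) (hXE : (X - 1) ^ (p ^ n - 1) = 0)
    (σ' : MulAut (Q ⧸ scalarSub r)) (hσ' : ∀ u, σ' (QuotientGroup.mk u) = QuotientGroup.mk (σ u))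
    (hσN : σ' ^ (p ^ n) = 1) :
    Nat.card (Q ⧸ scalarSub r) ≤
        Nat.card {ū : Q ⧸ scalarSub r // (σ' ^ (p ^ (n - 1))) ū = ū} * (p ^ n - 1) ^ 2 ∧
      (Nat.card (Q ⧸ scalarSub r) =
        Nat.card {ū : Q ⧸ scalarSub r // (σ' ^ (p ^ (n - 1))) ū = ū} * (p ^ n - 1) ^ 2 →
        ∀ ū : Q ⧸ scalarSub r, (σ' ^ (p ^ (n - 1))) ū = ū → σ' ū = ū) := by
  classical
  have hp : p.Prime := Fact.out
  haveI : Fintype (Q ⧸ scalarSub r) := Fintype.ofFinite _
  have hNpos : 0 < p ^ n := pow_pos hp.pos n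
  have hN2 : 2 ≤ p ^ n := by
    calc 2 ≤ p := hp.two_le
      _ = p ^ 1 := (pow_one p).symm
      _ ≤ p ^ n := Nat.pow_le_pow_right hp.pos hn
  obtain ⟨M, hM⟩ : ∃ M, p ^ n = M + 1 := ⟨p ^ n - 1, by omega⟩
  have hM1 : 1 ≤ M := by omega
  have hMeq : p ^ n - 1 = M := by omega
  rw [hMeq] at hXE ⊢
  obtain ⟨k, reps', hcov', hcount⟩ := orb_count σ' (p ^ n) hNpos hσN
  -- representatives in Q
  have hσ'pow : ∀ (i : ℕ) (w : Q), (σ' ^ i) (QuotientGroup.mk w) = QuotientGroup.mk ((σ ^ i) w) := by
    intro i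
    induction i with
    | zero => intro w; simp
    | succ j ih => intro w; rw [pow_succ', MulAut.mul_apply, ih, hσ', pow_succ', MulAut.mul_apply]
  have hcov : ∀ u : Q, ∃ j i, ∃ z ∈ scalarSub r,
      u = (σ ^ i) ((fun j => (Quotient.out (reps' j) : Q)) j) * z := by
    intro u
    obtain ⟨j, i, hji⟩ := hcov' (QuotientGroup.mk u)
    refine ⟨j, i, ((σ ^ i) (Quotient.out (reps' j)))⁻¹ * u, ?_, by group⟩
    rw [← QuotientGroup.eq, ← hσ'pow, QuotientGroup.out_eq', hji]
  have hk := comm_le hirr hQK hXY hYX htw k _ hcov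
  have hsq := card_le_sq hirr hQK hab
  have hcb := comm_bound M V (X - 1) hXE
  have hUk : Nat.card (Q ⧸ scalarSub r) ≤ M * k :=
    le_trans hsq (le_trans hcb (Nat.mul_le_mul_left M hk))
  -- fixed point counts
  set F : ℕ → ℕ := fun i => (Finset.univ.filter (fun ū : Q ⧸ scalarSub r => (σ' ^ i) ū = ū)).card
    with hF
  set γ := F (p ^ (n - 1)) with hγ
  have hγ' : Nat.card {ū : Q ⧸ scalarSub r // (σ' ^ (p ^ (n - 1))) ū = ū} = γ := by
    rw [Nat.card_eq_fintype_card, Fintype.card_subtype]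
  rw [hγ']
  have hF0 : F 0 = Nat.card (Q ⧸ scalarSub r) := by
    rw [Nat.card_eq_fintype_card]
    simp [hF]
  have hFi : ∀ i, 0 < i → i < p ^ n → F i ≤ γ := by
    intro i hi0 hiN
    apply Finset.card_le_card
    intro ū hū
    simp only [Finset.mem_filter, Finset.mem_univ, true_and] at hū ⊢
    exact fix_pow_pred σ' hσN i hi0 hiN ū hū
  have hsum : ∑ i ∈ Finset.range (p ^ n), F i = ∑ i ∈ Finset.range M, F (i + 1) + F 0 := by
    rw [hM, Finset.sum_range_succ']
  have hle : ∑ i ∈ Finset.range M, F (i + 1) ≤ ∑ _i ∈ Finset.range M, γ := by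
    apply Finset.sum_le_sum
    intro i hi
    rw [Finset.mem_range] at hi
    exact hFi (i + 1) (by omega) (by omega)
  have hconst : ∑ _i ∈ Finset.range M, γ = M * γ := by simp
  change k * p ^ n = ∑ i ∈ Finset.range (p ^ n), F i at hcount
  rw [hsum, hF0] at hcount
  set c := Nat.card (Q ⧸ scalarSub r) with hc
  have h2 : k * (M + 1) ≤ c + M * γ := by
    rw [← hM, hcount]; omega
  have h3 : c * (M + 1) ≤ M * (c + M * γ) := by
    calc c * (M + 1) ≤ (M * k) * (M + 1) := Nat.mul_le_mul_right _ hUk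
      _ = M * (k * (M + 1)) := by ring
      _ ≤ M * (c + M * γ) := Nat.mul_le_mul_left _ h2
  have h4 : c * (M + 1) = M * c + c := by ring
  have h5 : M * (c + M * γ) = M * c + γ * M ^ 2 := by ring
  constructor
  · omega
  · intro heq
    have h6 : M * (k * (M + 1)) = M * (c + M * γ) := by
      apply le_antisymm (Nat.mul_le_mul_left _ h2)
      calc M * (c + M * γ) = c * (M + 1) := by rw [h4, h5]; omega
        _ ≤ (M * k) * (M + 1) := Nat.mul_le_mul_right _ hUk
        _ = M * (k * (M + 1)) := by ring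
    have h7 : k * (M + 1) = c + M * γ := Nat.eq_of_mul_eq_mul_left (by omega) h6
    have h8 : ∑ i ∈ Finset.range M, F (i + 1) = ∑ _i ∈ Finset.range M, γ := by
      rw [← hM, hcount] at h7
      omega
    have h9 := (Finset.sum_eq_sum_iff_of_le (fun i hi => by
      rw [Finset.mem_range] at hi
      exact hFi (i + 1) (by omega) (by omega))).mp h8
    have h10 : F 1 = γ := h9 0 (Finset.mem_range.mpr (by omega))
    have hsub : Finset.univ.filter (fun ū : Q ⧸ scalarSub r => (σ' ^ 1) ū = ū)
        ⊆ Finset.univ.filter (fun ū : Q ⧸ scalarSub r => (σ' ^ (p ^ (n - 1))) ū = ū) := by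
      intro ū hū
      simp only [Finset.mem_filter, Finset.mem_univ, true_and] at hū ⊢
      exact fix_pow_pred σ' hσN 1 one_pos (by omega) ū hū
    have heqs := Finset.eq_of_subset_of_card_le hsub (by
      change γ ≤ F 1
      rw [h10])
    intro ū hū
    have : ū ∈ Finset.univ.filter (fun ū : Q ⧸ scalarSub r => (σ' ^ 1) ū = ū) := by
      rw [heqs]
      simp only [Finset.mem_filter, Finset.mem_univ, true_and]
      exact hū
    simpa using this

end Step5c

end Cfsg.Agent.Lib.Helper66.HHPair
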