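import Cfsg.Agent.Lib.Helper66.HHPair4

set_option autoImplicit false
set_option linter.unusedSectionVars false
set_option linter.style.haveILetI false

namespace Cfsg.Agent.Lib.Helper66.HHPair

open Module Cfsg.Agent.Lib.Helper66.HHCrit Cfsg.Agent.Lib.Helper66.HHThmB
open scoped commutatorElement

universe u v w t

section Main

variable {K : Type v} [Field K] [IsAlgClosed K]
variable {p q : ℕ} [Fact p.Prime] [Fact q.Prime] [CharP K p]

/-- the inductive step for a group generated by `x` and `y` -/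
theorem pair_step (hpq : p ≠ q) (hM : LemmaMStmt.{w, t} p) (m : ℕ)
    (IH : PairP.{u, v, w, t} K p q m)
    (Q : Type w) [Group Q] [Finite Q] (V : Type u) [AddCommGroup V] [Module K V]
    [FiniteDimensional K V] [Nontrivial V] (T : Type t) [Group T] [Finite T]
    (r : Q →* Module.End K V) (θ : T →* MulAut Q) (ρ : T →* Module.End K V)
    (hQ : IsPGroup q Q) (hT : IsPGroup p T) (htw : Tw r θ ρ)
    (hm : Nat.card Q + finrank K V ≤ m + 1)
    (x y : T) (hgen : Subgroup.closure {x, y} = ⊤) (n n' : ℕ) (a b : T)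
    (hx : Exc p ρ x n a) (hy : Exc p ρ y n' b) (u : Q) : r (θ ⁅a, b⁆ u) = r u := by
  classical
  have hp : p.Prime := Fact.out
  have hq : q.Prime := Fact.out
  have hqK : (q : K) ≠ 0 := by
    intro h0
    have := (CharP.cast_eq_zero_iff K p q).mp h0
    exact hpq ((Nat.prime_dvd_prime_iff_eq hp hq).mp this)
  by_cases hirrT : IrrT r ρ
  swap
  · unfold IrrT at hirrT
    push Not at hirrT
    obtain ⟨W, hW, hWρ, hbot, htop⟩ := hirrT
    exact step1 hqK IH hQ hT htw hm W hW hWρ hbot htop hx hy u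
  by_cases hcomm : ∀ φ ∈ commR r, φ ∈ Submodule.span K {(1 : Module.End K V)}
  swap
  · push Not at hcomm
    exact step2 IH hQ hT htw hm hirrT hcomm hx hy u
  haveI : Fintype Q := Fintype.ofFinite Q
  have hQK : (Fintype.card Q : K) ≠ 0 := by
    obtain ⟨k, hk⟩ := IsPGroup.iff_card.mp hQ
    rw [← Nat.card_eq_fintype_card, hk, Nat.cast_pow]
    exact pow_ne_zero _ hqK
  have hirr : Irr r := irr_of_commR hQK hcomm
  set c₀ : T := ⁅a, b⁆ with hc₀
  have IHsub : ∀ H : Subgroup Q, H ≠ ⊤ → (∀ g, ∀ u ∈ H, θ g u ∈ H) →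
      ∀ u ∈ H, r (θ c₀ u) = r u := by
    intro H hHtop hH u hu
    have hlt : Nat.card H < Nat.card Q := by
      by_contra hc
      have hge : Nat.card Q ≤ Nat.card H := Nat.le_of_not_lt hc
      exact hHtop (Subgroup.eq_top_of_card_eq H (le_antisymm (Subgroup.card_le_card_group H) hge))
    exact IH H V T (r.comp H.subtype) (resθ θ H hH) ρ (hQ.to_subgroup H) hT (htw.subgroup H hH)
      (by omega) x y n n' a b hx hy ⟨u, hu⟩
  by_cases hZtop : scalarSub r = ⊤
  · have huZ : u ∈ scalarSub r := by rw [hZtop]; trivial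
    obtain ⟨l, hl⟩ := huZ
    rw [htw.conj, hl, mul_smul_comm, mul_one, smul_mul_assoc, r_mul_inv]
  by_cases hmin : ∀ H : Subgroup Q, H.Normal → (∀ g, ∀ u ∈ H, θ g u ∈ H) → H ≠ ⊤ →
      H ≤ scalarSub r
  swap
  · push Not at hmin
    obtain ⟨H, hHn, hH, hHtop, hHZ⟩ := hmin
    haveI := hHn
    exact step4a hpq hQ hT htw hirr c₀ IHsub H hH hHtop hHZ u
  -- the minimal configuration
  obtain ⟨hUcomm, hUexp, hUirr⟩ := min_struct hQ htw hZtop hmin
  set θ' := quotθ θ (scalarSub r) (scalarSub_inv htw) with hθ'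
  have hab : ∀ u v : Q, ⁅u, v⁆ ∈ scalarSub r := by
    intro u v
    rw [← QuotientGroup.eq_one_iff, commutatorElement_def]
    simp only [QuotientGroup.mk_mul, QuotientGroup.mk_inv]
    rw [hUcomm (QuotientGroup.mk u) (QuotientGroup.mk v)]
    group
  have key : ∀ (x : T) (n : ℕ) (a : T), Exc p ρ x n a →
      Nat.card (Q ⧸ scalarSub r) ≤
        Nat.card {ū : Q ⧸ scalarSub r // θ' (x ^ p ^ (n - 1)) ū = ū} * (p ^ n - 1) ^ 2 ∧
      (Nat.card (Q ⧸ scalarSub r) =
        Nat.card {ū : Q ⧸ scalarSub r // θ' (x ^ p ^ (n - 1)) ū = ū} * (p ^ n - 1) ^ 2 →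
        ∀ ū : Q ⧸ scalarSub r, θ' (x ^ p ^ (n - 1)) ū = ū → θ' x ū = ū) := by
    intro x n a hx
    have e : θ' (x ^ p ^ (n - 1)) = (θ' x) ^ (p ^ (n - 1)) := map_pow _ _ _
    rw [e]
    apply ineq hirr hQK hab (σ := θ x) (X := ρ x) (Y := ρ x⁻¹) (r_mul_inv ρ x) (r_inv_mul ρ x)
      (htw x) hx.npos hx.xE (θ' x) (fun u => rfl)
    rw [← map_pow, hx.xN, map_one]
  obtain ⟨hx1, hx2⟩ := key x n a hx
  obtain ⟨hy1, hy2⟩ := key y n' b hy
  have hMres := hM q hq (Ne.symm hpq) (Q ⧸ scalarSub r) hUcomm hUexp T hT θ' hUirr x y hgen n n'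
    hx.npos hy.npos hx.xN hy.xN hx1 hx2 hy1 hy2
  rw [← hx.ha, ← hy.ha] at hMres
  have hc1 : θ' c₀ = 1 := by
    rw [hc₀, map_commutatorElement, commutatorElement_eq_one_iff_commute]
    exact hMres
  -- so `c₀` moves `u` by a scalar
  have huZ : u⁻¹ * θ c₀ u ∈ scalarSub r := by
    rw [← QuotientGroup.eq]
    have := congrArg (fun f : MulAut (Q ⧸ scalarSub r) => f (QuotientGroup.mk u)) hc1
    simp only [MulAut.one_apply] at this
    rw [← this]
    rfl
  obtain ⟨l, hl⟩ := huZ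
  have e1 : r (θ c₀ u) = (l • (1 : Module.End K V)) * r u := by
    have : θ c₀ u = u * (u⁻¹ * θ c₀ u) := by group
    rw [this, map_mul, hl, mul_smul_comm, mul_one, smul_mul_assoc, one_mul]
  obtain ⟨j, hj⟩ := hT c₀
  have hk := conj_pow_eq (ρ c₀) (ρ c₀⁻¹) (l • (1 : Module.End K V)) (r u)
    (by rw [mul_smul_comm, smul_mul_assoc, mul_one, one_mul])
    (by rw [← htw.conj, e1]) (p ^ j)
  rw [← map_pow, ← map_pow, inv_pow, hj, inv_one, map_one, one_mul, mul_one, smul_pow, one_pow,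
    smul_mul_assoc, one_mul] at hk
  have hlj : l ^ p ^ j = 1 := by
    have h2 : (1 : K) • r u = (l ^ p ^ j) • r u := by rw [one_smul]; exact hk
    exact (smul_right_cancel' (r_ne_zero' r u) h2).symm
  have hl1 : l = 1 := by
    have h3 : (l - 1) ^ p ^ j = 0 := by rw [sub_pow_char_pow, hlj, one_pow, sub_self]
    exact sub_eq_zero.mp (pow_eq_zero_iff (pow_pos hp.pos j).ne' |>.mp h3)
  rw [e1, hl1, one_smul, one_mul]


theorem pair_aux (hpq : p ≠ q) (hM : LemmaMStmt.{w, t} p) (m : ℕ) :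
    PairP.{u, v, w, t} K p q m := by
  induction m with
  | zero =>
    intro Q _ _ V _ _ _ T _ _ r θ ρ _ _ _ hm
    have := Nat.card_pos (α := Q)
    omega
  | succ m ih =>
    intro Q _ _ V _ _ _ T _ _ r θ ρ hQ hT htw hm x y n n' a b hx hy u
    by_cases hnt : Nontrivial V
    swap
    · rw [not_nontrivial_iff_subsingleton] at hnt
      have : Subsingleton (Module.End K V) := ⟨fun f g => LinearMap.ext fun v => Subsingleton.elim _ _⟩
      exact Subsingleton.elim _ _
    -- restrict to the subgroup generated by `x` and `y`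
    set T' : Subgroup T := Subgroup.closure {x, y} with hT'
    have hxT : x ∈ T' := Subgroup.subset_closure (by simp)
    have hyT : y ∈ T' := Subgroup.subset_closure (by simp)
    have haT : a ∈ T' := by rw [hx.ha]; exact Subgroup.pow_mem _ hxT _
    have hbT : b ∈ T' := by rw [hy.ha]; exact Subgroup.pow_mem _ hyT _
    have hgen : Subgroup.closure {(⟨x, hxT⟩ : T'), ⟨y, hyT⟩} = ⊤ := by
      rw [eq_top_iff, ← Subgroup.closure_closure_coe_preimage (k := ({x, y} : Set T))]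
      apply Subgroup.closure_mono
      intro z hz
      simp only [Set.mem_preimage, Set.mem_insert_iff, Set.mem_singleton_iff] at hz ⊢
      rcases hz with h | h
      · left; exact Subtype.ext h
      · right; exact Subtype.ext h
    have hx' : Exc p (ρ.comp T'.subtype) (⟨x, hxT⟩ : T') n ⟨a, haT⟩ :=
      Exc.comp T'.subtype (Subtype.ext (by simpa using hx.xN)) (Subtype.ext (by simpa using hx.ha)) hx
    have hy' : Exc p (ρ.comp T'.subtype) (⟨y, hyT⟩ : T') n' ⟨b, hbT⟩ :=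
      Exc.comp T'.subtype (Subtype.ext (by simpa using hy.xN)) (Subtype.ext (by simpa using hy.ha)) hy
    have hres := pair_step hpq hM m ih Q V T' r (θ.comp T'.subtype) (ρ.comp T'.subtype) hQ
      (hT.to_subgroup T') (htw.comp T'.subtype) hm ⟨x, hxT⟩ ⟨y, hyT⟩ hgen n n' ⟨a, haT⟩ ⟨b, hbT⟩
      hx' hy' u
    have e : (θ.comp T'.subtype) ⁅(⟨a, haT⟩ : T'), ⟨b, hbT⟩⁆ = θ ⁅a, b⁆ := by
      rw [MonoidHom.comp_apply, map_commutatorElement]
      rfl
    rw [e] at hres
    exact hres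

end Main

/-- **Claim C** (the pair statement), modulo Lemma M. -/
theorem pair_main {p : ℕ} [Fact p.Prime] (hM : LemmaMStmt.{w, t} p) :
    PairStmt.{u, v, w, t} p := by
  intro K _ _ _ q hq hqp Q _ _ hQ V _ _ _ T _ _ hT r θ ρ htw x y n n' hn hn' hxN hxE hyN hyE u
  haveI : Fact q.Prime := ⟨hq⟩
  have htw' : Tw r θ ρ := htw
  have := pair_aux (K := K) (Ne.symm hqp) hM (Nat.card Q + finrank K V) Q V T r θ ρ hQ hT htw'
    le_rfl x y n n' _ _ ⟨hn, hxN, hxE, rfl⟩ ⟨hn', hyN, hyE, rfl⟩ u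
  exact (Tw.fix_iff htw' _ u).mp this

end Cfsg.Agent.Lib.Helper66.HHPair
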