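import Cfsg.Agent.S3783
import Cfsg.Agent.Lib.Helper66.HHPairDefs

set_option autoImplicit false

namespace Cfsg.Agent.Lib.Helper66.HHPair

open Cfsg
open Cfsg.Agent.Lib.Helper63 Cfsg.Agent.Lib.Helper76 Cfsg.Agent.Lib.Helper30
open Cfsg.Agent.S0635 Cfsg.Agent.S3783

universe u

/-- the statement of the two-level lemma -/
def TwoLevelStmt (p : ℕ) [Fact p.Prime] : Prop :=
  ∀ (G : Type u) [Group G] [Finite G], IsPSolvable p G → pPrimeCore p G = ⊥ → ∀ (m : ℕ),
    (∀ S : Sylow p G, ∀ x ∈ (S : Subgroup G), x ^ p ^ (m + 1) = 1) →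
    ∀ (S : Sylow p (G ⧸ pCore p G)) (x : G ⧸ pCore p G), x ∈ (S : Subgroup (G ⧸ pCore p G)) →
      x ^ p ^ m ∈ pPrimePCore p (G ⧸ pCore p G)

theorem pLengthLE_succ_of_quot {G : Type*} [Group G] [Finite G] {p n : ℕ} [Fact p.Prime]
    [hn : (pPrimePCore p G).Normal] (h : PLengthLE p n (G ⧸ pPrimePCore p G)) :
    PLengthLE p (n + 1) G := by
  obtain ⟨N', hN', htop⟩ := pLengthLE_iff.1 h
  rw [pLengthLE_iff]
  refine ⟨liftSeries (pPrimeCore p G) (pPrimePCore p G) N', isPSeries_liftSeries N' hN', ?_⟩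
  show (N' (2 * n + 1)).comap (QuotientGroup.mk' (pPrimePCore p G)) = ⊤
  rw [htop]; rfl

theorem pLengthLE_zero_of_hexp {G : Type*} [Group G] [Finite G] {p : ℕ} [hp : Fact p.Prime]
    (hexp : Hexp p 0 G) : PLengthLE p 0 G := by
  obtain ⟨S⟩ : Nonempty (Sylow p G) := inferInstance
  have hcop : (Nat.card G).Coprime p := by
    have hSbot : (S : Subgroup G) = ⊥ := by
      rw [Subgroup.eq_bot_iff_forall]
      intro x hx
      have := hexp S x hx
      simpa using this
    have h1 : Nat.card (S : Subgroup G) = 1 := by rw [hSbot]; exact Subgroup.card_bot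
    have h2 := Subgroup.card_mul_index (S : Subgroup G)
    rw [h1, one_mul] at h2
    rw [← h2, Nat.coprime_comm, Nat.Prime.coprime_iff_not_dvd Fact.out]
    exact S.not_dvd_index
  rw [pLengthLE_iff]
  refine ⟨fun i => if i = 0 then ⊥ else ⊤, ⟨by simp, ?_, ?_, ?_⟩, by simp⟩
  · intro i
    by_cases hi : i = 0
    · simp only [hi, if_true]; infer_instance
    · simp only [hi, if_false]; infer_instance
  · intro i _ x _
    by_cases hi : i = 0
    · refine ⟨Nat.card G, hcop, ?_⟩
      simp only [hi, if_true]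
      rw [Subgroup.mem_bot]; exact pow_card_eq_one'
    · refine ⟨1, Nat.coprime_one_left p, ?_⟩
      simp only [hi, if_false]; trivial
  · intro i hi x _
    have hi0 : i ≠ 0 := by
      rintro rfl; exact hi (by decide)
    refine ⟨0, ?_⟩
    simp only [hi0, if_false]; trivial

/-- part (b): `p`-length at most `2 e` from the two-level lemma -/
theorem plen_b {p : ℕ} [hp : Fact p.Prime] (hTL : TwoLevelStmt.{u} p) (e : ℕ) :
    ∀ (G : Type u) [Group G] [Finite G], IsPSolvable p G → Hexp p e G → PLengthLE p (2 * e) G := by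
  induction e with
  | zero =>
    intro G _ _ _ hexp
    exact pLengthLE_zero_of_hexp hexp
  | succ e ih =>
    intro G _ _ hsol hexp
    have hU2n : (pPrimePCore p G).Normal := Cfsg.Agent.Lib.Helper32.pPrimePCore_normal p G
    have hπ₁ : Function.Surjective (QuotientGroup.mk' (pPrimeCore p G)) :=
      QuotientGroup.mk'_surjective _
    have hsol₁ : IsPSolvable p (G ⧸ pPrimeCore p G) := isPSolvable_quotient _ hsol
    have hexp₁ : Hexp p (e + 1) (G ⧸ pPrimeCore p G) := hexp_of_surjective _ hπ₁ hexp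
    have hO₁ : pPrimeCore p (G ⧸ pPrimeCore p G) = ⊥ := pPrimeCore_quotient_eq_bot p
    -- H = G₀ / O_p(G₀)
    have hP₀n : (pCore p (G ⧸ pPrimeCore p G)).Normal := Cfsg.Agent.Lib.Helper55.pCore_normal' p
    have hsolH : IsPSolvable p ((G ⧸ pPrimeCore p G) ⧸ pCore p (G ⧸ pPrimeCore p G)) :=
      isPSolvable_quotient _ hsol₁
    have hHn : (pPrimePCore p ((G ⧸ pPrimeCore p G) ⧸ pCore p (G ⧸ pPrimeCore p G))).Normal :=
      Cfsg.Agent.Lib.Helper32.pPrimePCore_normal p _
    have hπH : Function.Surjective (QuotientGroup.mk'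
        (pPrimePCore p ((G ⧸ pPrimeCore p G) ⧸ pCore p (G ⧸ pPrimeCore p G)))) :=
      QuotientGroup.mk'_surjective _
    have hexpH₁ : Hexp p e (((G ⧸ pPrimeCore p G) ⧸ pCore p (G ⧸ pPrimeCore p G)) ⧸
        pPrimePCore p ((G ⧸ pPrimeCore p G) ⧸ pCore p (G ⧸ pPrimeCore p G))) := by
      intro S x hx
      obtain ⟨S₀, rfl⟩ := Sylow.mapSurjective_surjective hπH p S
      rw [Sylow.coe_mapSurjective] at hx
      obtain ⟨x₀, hx₀, rfl⟩ := hx
      rw [← map_pow, QuotientGroup.mk'_apply, QuotientGroup.eq_one_iff]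
      exact hTL _ hsol₁ hO₁ e hexp₁ S₀ x₀ hx₀
    have h1 := ih _ (isPSolvable_quotient _ hsolH) hexpH₁
    have h2 : PLengthLE p (2 * e + 1) ((G ⧸ pPrimeCore p G) ⧸ pCore p (G ⧸ pPrimeCore p G)) :=
      pLengthLE_succ_of_quot h1
    -- transfer to G / O_{p',p}(G)
    let f : G ⧸ pPrimePCore p G →* (G ⧸ pPrimeCore p G) ⧸ pCore p (G ⧸ pPrimeCore p G) :=
      QuotientGroup.lift (pPrimePCore p G)
        ((QuotientGroup.mk' (pCore p (G ⧸ pPrimeCore p G))).comp
          (QuotientGroup.mk' (pPrimeCore p G)))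
        (by
          intro u hu
          rw [MonoidHom.mem_ker, MonoidHom.comp_apply, QuotientGroup.mk'_apply,
            QuotientGroup.mk'_apply, QuotientGroup.eq_one_iff]
          exact hu)
    have hf : Function.Injective f := by
      rw [injective_iff_map_eq_one]
      intro a ha
      obtain ⟨u, rfl⟩ := QuotientGroup.mk_surjective a
      have h3 : ((QuotientGroup.mk' (pCore p (G ⧸ pPrimeCore p G))).comp
          (QuotientGroup.mk' (pPrimeCore p G))) u = 1 := ha
      rw [MonoidHom.comp_apply, QuotientGroup.mk'_apply, QuotientGroup.mk'_apply,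
        QuotientGroup.eq_one_iff] at h3
      exact (QuotientGroup.eq_one_iff u).mpr h3
    have h3 : PLengthLE p (2 * e + 1) (G ⧸ pPrimePCore p G) := pLengthLE_of_injective h2 f hf
    have h4 := pLengthLE_succ_of_quot h3
    have e2 : 2 * (e + 1) = 2 * e + 1 + 1 := by ring
    rw [e2]
    exact h4

end Cfsg.Agent.Lib.Helper66.HHPair
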