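import Cfsg.Agent.Lib.Helper66.HHPair5
import Cfsg.Agent.Lib.Helper66.HHQuadDefs
import Cfsg.Agent.Lib.Helper53.CenterMeet

set_option autoImplicit false
set_option linter.unusedSectionVars false
set_option linter.style.haveILetI false

namespace Cfsg.Agent.Lib.Helper66.HHPair

open Module Cfsg.Agent.Lib.Helper66.HHCrit Cfsg.Agent.Lib.Helper66.HHThmB
open scoped commutatorElement

universe u v w t

section QInd

variable (K : Type v) [Field K]

/-- the inductive statement for the quadratic lemma (the group `T` is fixed) -/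
def QuadP (_p q : ℕ) (T : Type t) [Group T] (m : ℕ) : Prop :=
  ∀ (Q : Type w) [Group Q] [Finite Q] (V : Type u) [AddCommGroup V] [Module K V]
    [FiniteDimensional K V]
    (r : Q →* Module.End K V) (θ : T →* MulAut Q) (ρ : T →* Module.End K V),
    IsPGroup q Q → Tw r θ ρ → Nat.card Q + finrank K V ≤ m →
    (∀ x ∈ commutator T, (ρ x - 1) * (ρ x - 1) = 0) →
    (∀ x ∈ commutator T, ∀ g h : T, (ρ x - 1) * ((ρ g - 1) * (ρ h - 1)) = 0) →
    ∀ x ∈ commutator T, ∀ u, r (θ x u) = r u

end QInd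

section QStep1

variable {K : Type v} [Field K]
variable {Q : Type w} [Group Q] {V : Type u} [AddCommGroup V] [Module K V]
variable {T : Type t} [Group T]
variable {r : Q →* Module.End K V} {θ : T →* MulAut Q} {ρ : T →* Module.End K V}

theorem sub_quad (W : Submodule K V) (hρ : ∀ g, ∀ w ∈ W, ρ g w ∈ W) (x g h : T)
    (hq : (ρ x - 1) * ((ρ g - 1) * (ρ h - 1)) = 0) :
    (subRep ρ W hρ x - 1) * ((subRep ρ W hρ g - 1) * (subRep ρ W hρ h - 1)) = 0 := by
  ext w
  have := LinearMap.congr_fun hq (w : V)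
  simp only [Module.End.mul_apply, LinearMap.sub_apply, Module.End.one_apply, map_sub,
    LinearMap.zero_apply] at this
  simp only [Module.End.mul_apply, LinearMap.sub_apply, Module.End.one_apply, map_sub,
    LinearMap.zero_apply, Submodule.coe_sub, subRep_apply, ZeroMemClass.coe_zero]
  exact this

theorem quot_quad (W : Submodule K V) (hρ : ∀ g, ∀ w ∈ W, ρ g w ∈ W) (x g h : T)
    (hq : (ρ x - 1) * ((ρ g - 1) * (ρ h - 1)) = 0) :
    (quotRep ρ W hρ x - 1) * ((quotRep ρ W hρ g - 1) * (quotRep ρ W hρ h - 1)) = 0 := by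
  ext v
  have := LinearMap.congr_fun hq v
  simp only [Module.End.mul_apply, LinearMap.sub_apply, Module.End.one_apply, map_sub,
    LinearMap.zero_apply] at this
  simp only [LinearMap.comp_apply, Submodule.mkQ_apply, Module.End.mul_apply, LinearMap.sub_apply,
    Module.End.one_apply, map_sub, LinearMap.zero_apply, quotRep_mk, ← Submodule.Quotient.mk_sub]
  rw [Submodule.Quotient.mk_eq_zero]
  convert W.zero_mem using 1
  rw [← this]
  all_goals abel

theorem sub_quad2 (W : Submodule K V) (hρ : ∀ g, ∀ w ∈ W, ρ g w ∈ W) (x : T)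
    (hq : (ρ x - 1) * (ρ x - 1) = 0) :
    (subRep ρ W hρ x - 1) * (subRep ρ W hρ x - 1) = 0 := by
  ext w
  have := LinearMap.congr_fun hq (w : V)
  simp only [Module.End.mul_apply, LinearMap.sub_apply, Module.End.one_apply, map_sub,
    LinearMap.zero_apply] at this
  simp only [Module.End.mul_apply, LinearMap.sub_apply, Module.End.one_apply, map_sub,
    LinearMap.zero_apply, Submodule.coe_sub, subRep_apply, ZeroMemClass.coe_zero]
  exact this

theorem quot_quad2 (W : Submodule K V) (hρ : ∀ g, ∀ w ∈ W, ρ g w ∈ W) (x : T)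
    (hq : (ρ x - 1) * (ρ x - 1) = 0) :
    (quotRep ρ W hρ x - 1) * (quotRep ρ W hρ x - 1) = 0 := by
  ext v
  have := LinearMap.congr_fun hq v
  simp only [Module.End.mul_apply, LinearMap.sub_apply, Module.End.one_apply, map_sub,
    LinearMap.zero_apply] at this
  simp only [LinearMap.comp_apply, Submodule.mkQ_apply, Module.End.mul_apply, LinearMap.sub_apply,
    Module.End.one_apply, map_sub, LinearMap.zero_apply, quotRep_mk, ← Submodule.Quotient.mk_sub]
  rw [Submodule.Quotient.mk_eq_zero]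
  convert W.zero_mem using 1

/-- **Step 1** for the quadratic lemma. -/
theorem qstep1 [Finite Q] [FiniteDimensional K V] {p q m : ℕ} (hqK : (q : K) ≠ 0)
    (IH : QuadP.{u, v, w, t} K p q T m)
    (hQ : IsPGroup q Q) (htw : Tw r θ ρ)
    (hm : Nat.card Q + finrank K V ≤ m + 1)
    (W : Submodule K V) (hW : ∀ u, ∀ w ∈ W, r u w ∈ W) (hρ : ∀ g, ∀ w ∈ W, ρ g w ∈ W)
    (hbot : W ≠ ⊥) (htop : W ≠ ⊤)
    (h1 : ∀ x ∈ commutator T, (ρ x - 1) * (ρ x - 1) = 0)
    (h2 : ∀ x ∈ commutator T, ∀ g h : T, (ρ x - 1) * ((ρ g - 1) * (ρ h - 1)) = 0)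
    (x : T) (hx : x ∈ commutator T) (u : Q) : r (θ x u) = r u := by
  have hf1 : finrank K W < finrank K V := Submodule.finrank_lt htop
  have hf2 : finrank K (V ⧸ W) < finrank K V := by
    have := Submodule.finrank_quotient_add_finrank W
    have hpos : 0 < finrank K W := by
      rw [Module.finrank_pos_iff]
      exact Submodule.nontrivial_iff_ne_bot.mpr hbot
    omega
  apply fix_of_sub_quot hQ hqK (θ x) W hW
  · exact IH Q W _ θ _ hQ (htw.sub W hW hρ) (by omega)
      (fun y hy => sub_quad2 W hρ y (h1 y hy))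
      (fun y hy g h => sub_quad W hρ y g h (h2 y hy g h)) x hx
  · exact IH Q (V ⧸ W) _ θ _ hQ (htw.quot W hW hρ) (by omega)
      (fun y hy => quot_quad2 W hρ y (h1 y hy))
      (fun y hy g h => quot_quad W hρ y g h (h2 y hy g h)) x hx

end QStep1


section QStep2

variable {K : Type v} [Field K]
variable {Q : Type w} [Group Q] {V : Type u} [AddCommGroup V] [Module K V]
variable {T : Type t} [Group T]
variable {r : Q →* Module.End K V} {θ : T →* MulAut Q} {ρ : T →* Module.End K V}

theorem three_eig_zero (b : Module.End K V) (ν0 ν1 ν2 : K) (h01 : ν0 ≠ ν1) (h02 : ν0 ≠ ν2)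
    (w0 w1 w2 : V) (hw0 : w0 ∈ b.eigenspace ν0) (hw1 : w1 ∈ b.eigenspace ν1)
    (hw2 : w2 ∈ b.eigenspace ν2) (hsum : w0 + w1 + w2 = 0) : w0 = 0 := by
  rw [Module.End.mem_eigenspace_iff] at hw0 hw1 hw2
  have h2 : ν0 • w0 + ν1 • w1 + ν2 • w2 = 0 := by
    have := congrArg b hsum
    rw [map_add, map_add, hw0, hw1, hw2, map_zero] at this
    exact this
  have h3 : (ν0 * ν0) • w0 + (ν1 * ν1) • w1 + (ν2 * ν2) • w2 = 0 := by
    have := congrArg b h2
    rw [map_add, map_add, map_smul, map_smul, map_smul, hw0, hw1, hw2, map_zero, smul_smul,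
      smul_smul, smul_smul] at this
    exact this
  have e : ((ν0 - ν1) * (ν0 - ν2)) • w0 = (ν1 * ν2) • (w0 + w1 + w2)
      - (ν1 + ν2) • (ν0 • w0 + ν1 • w1 + ν2 • w2)
      + ((ν0 * ν0) • w0 + (ν1 * ν1) • w1 + (ν2 * ν2) • w2) := by
    module
  rw [hsum, h2, h3] at e
  simp only [smul_zero, sub_zero, add_zero] at e
  rcases smul_eq_zero.mp e with h | h
  · rcases mul_eq_zero.mp h with h' | h'
    · exact absurd (sub_eq_zero.mp h') h01
    · exact absurd (sub_eq_zero.mp h') h02
  · exact h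

/-- **Step 2** for the quadratic lemma: if the commutant of `r(Q)` is not scalar, then the derived
subgroup of `T` acts trivially on `V`. -/
theorem qstep2 [IsAlgClosed K] [FiniteDimensional K V] [Nontrivial V] [Finite T]
    {p : ℕ} [Fact p.Prime] [CharP K p] (hp2 : p ≠ 2)
    (hT : IsPGroup p T) (htw : Tw r θ ρ) (hirr : IrrT r ρ)
    (hne : ∃ φ ∈ commR r, φ ∉ Submodule.span K {(1 : Module.End K V)})
    (h2 : ∀ x ∈ commutator T, ∀ g h : T, (ρ x - 1) * ((ρ g - 1) * (ρ h - 1)) = 0)
    (x : T) (hx : x ∈ commutator T) : ρ x = 1 := by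
  classical
  have hp : p.Prime := Fact.out
  obtain ⟨b, hb, hbns, hshift⟩ := exists_bT hT htw hne
  choose c hc using hshift
  have hsh : ∀ g, Shift r (ρ g) (ρ g⁻¹) b (c g) :=
    fun g => ⟨r_mul_inv ρ g, r_inv_mul ρ g, hb, hc g⟩
  have hone_ne : (1 : Module.End K V) ≠ 0 := end_one_ne_zero'
  have hadd : ∀ g h, c (g * h) = c g + c h := by
    intro g h
    have key : ρ (g * h) * b * ρ (g * h)⁻¹ - b = (c g + c h) • (1 : Module.End K V) := by
      have e1 : ρ h * b * ρ h⁻¹ = b + c h • (1 : Module.End K V) := by rw [← hc h]; abel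
      have e2 : ρ g * b * ρ g⁻¹ = b + c g • (1 : Module.End K V) := by rw [← hc g]; abel
      rw [mul_inv_rev, map_mul, map_mul]
      have : ρ g * ρ h * b * (ρ h⁻¹ * ρ g⁻¹) = ρ g * (ρ h * b * ρ h⁻¹) * ρ g⁻¹ := by
        simp only [mul_assoc]
      rw [this, e1, mul_add, add_mul, e2, mul_smul_comm, smul_mul_assoc, mul_one, r_mul_inv,
        add_smul]
      abel
    exact smul_right_cancel' hone_ne ((hc (g * h)).symm.trans key)
  have hc1 : c 1 = 0 := by
    have := hadd 1 1
    rw [mul_one] at this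
    exact left_eq_add.mp this
  have hinv : ∀ g, c g⁻¹ = - c g := by
    intro g
    have := hadd g g⁻¹
    rw [mul_inv_cancel, hc1] at this
    exact eq_neg_of_add_eq_zero_right this.symm
  let T₁ : Subgroup T :=
    { carrier := {g | c g = 0}
      one_mem' := hc1
      mul_mem' := by
        intro g h hg hh
        simp only [Set.mem_ofPred_eq] at hg hh ⊢
        rw [hadd, hg, hh, add_zero]
      inv_mem' := by
        intro g hg
        simp only [Set.mem_ofPred_eq] at hg ⊢
        rw [hinv, hg, neg_zero] }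
  have hcx : c x = 0 := by
    have hle : commutator T ≤ T₁ := by
      rw [commutator_def, Subgroup.commutator_le]
      intro g _ h _
      show c ⁅g, h⁆ = 0
      rw [commutatorElement_def, hadd, hadd, hadd, hinv, hinv]; ring
    exact hle hx
  -- some element moves the eigenspaces
  obtain ⟨g₀, hg₀⟩ : ∃ g₀, c g₀ ≠ 0 := by
    by_contra hcon
    push Not at hcon
    apply hbns
    have hbX : ∀ g, b * ρ g = ρ g * b := by
      intro g
      have h1 := hc g
      rw [hcon g, zero_smul, sub_eq_zero] at h1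
      calc b * ρ g = (ρ g * b * ρ g⁻¹) * ρ g := by rw [h1]
        _ = ρ g * b := by rw [mul_assoc, r_inv_mul, mul_one]
    obtain ⟨ν, hν⟩ := schurT hirr b hb hbX
    rw [Submodule.mem_span_singleton]
    exact ⟨ν, hν.symm⟩
  have h2c : c g₀ + c g₀ ≠ 0 := by
    intro h0
    have h2K : (2 : K) ≠ 0 := by
      intro h20
      have h3 : ((2 : ℕ) : K) = 0 := by exact_mod_cast h20
      have := (CharP.cast_eq_zero_iff K p 2).mp h3
      have hle := Nat.le_of_dvd (by norm_num) this
      have := hp.two_le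
      exact hp2 (by omega)
    have : (2 : K) * c g₀ = 0 := by rw [two_mul]; exact h0
    rcases mul_eq_zero.mp this with h | h
    · exact h2K h
    · exact hg₀ h
  have hE : ∀ ν : K, ∀ v ∈ b.eigenspace ν, ρ x v = v := by
    intro ν v hv
    have hXmap : ∀ μ : K, ∀ w ∈ b.eigenspace μ, (ρ x - 1) w ∈ b.eigenspace μ := by
      intro μ w hw
      have := (hsh x).X_maps μ w hw
      rw [hcx, sub_zero] at this
      rw [LinearMap.sub_apply, Module.End.one_apply]
      exact Submodule.sub_mem _ this hw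
    have hGv : ρ g₀ v ∈ b.eigenspace (ν - c g₀) := (hsh g₀).X_maps ν v hv
    have hGGv : ρ g₀ (ρ g₀ v) ∈ b.eigenspace (ν - c g₀ - c g₀) := (hsh g₀).X_maps _ _ hGv
    have hq := LinearMap.congr_fun (h2 x hx g₀ g₀) v
    simp only [Module.End.mul_apply, LinearMap.sub_apply, Module.End.one_apply, map_sub,
      LinearMap.zero_apply] at hq
    have hsum : (ρ x - 1) v + (-(2 : K)) • ((ρ x - 1) (ρ g₀ v)) + (ρ x - 1) (ρ g₀ (ρ g₀ v)) = 0 := by
      simp only [LinearMap.sub_apply, Module.End.one_apply]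
      rw [← hq]
      module
    have h0 := three_eig_zero b ν (ν - c g₀) (ν - c g₀ - c g₀)
      (by intro h; apply hg₀; have := sub_eq_self.mp h.symm; exact this)
      (by
        intro h
        apply h2c
        have h' : ν - (c g₀ + c g₀) = ν := by rw [← sub_sub]; exact h.symm
        exact sub_eq_self.mp h')
      _ _ _ (hXmap ν v hv) (Submodule.smul_mem _ _ (hXmap _ _ hGv)) (hXmap _ _ hGGv) hsum
    rw [LinearMap.sub_apply, Module.End.one_apply] at h0
    exact sub_eq_zero.mp h0
  have hsup : (⨆ ν : K, b.eigenspace ν) = ⊤ := by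
    have inv1 : ∀ u, ∀ w ∈ (⨆ ν : K, b.eigenspace ν), r u w ∈ (⨆ ν : K, b.eigenspace ν) := by
      intro u w hw
      refine Submodule.iSup_induction _ (motive := fun w => r u w ∈ ⨆ ν : K, b.eigenspace ν) hw
        ?_ ?_ ?_
      · intro ν w hw
        exact le_iSup (fun ν => b.eigenspace ν) ν ((hsh 1).r_maps ν u w hw)
      · simp
      · intro a b ha hb
        rw [map_add]; exact Submodule.add_mem _ ha hb
    have inv2 : ∀ g, ∀ w ∈ (⨆ ν : K, b.eigenspace ν), ρ g w ∈ (⨆ ν : K, b.eigenspace ν) := by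
      intro g w hw
      refine Submodule.iSup_induction _ (motive := fun w => ρ g w ∈ ⨆ ν : K, b.eigenspace ν) hw
        ?_ ?_ ?_
      · intro ν w hw
        exact le_iSup (fun ν => b.eigenspace ν) (ν - c g) ((hsh g).X_maps ν w hw)
      · simp
      · intro a b ha hb
        rw [map_add]; exact Submodule.add_mem _ ha hb
    rcases hirr _ inv1 inv2 with h | h
    · exfalso
      obtain ⟨ν, hν⟩ := Module.End.exists_eigenvalue b
      have : b.eigenspace ν ≤ ⊥ := h ▸ le_iSup (fun ν => b.eigenspace ν) ν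
      exact Module.End.hasEigenvalue_iff.mp hν (le_bot_iff.mp this)
    · exact h
  have hle : (⊤ : Submodule K V) ≤ LinearMap.eqLocus (ρ x) 1 := by
    rw [← hsup]
    apply iSup_le
    intro ν w hw
    rw [LinearMap.mem_eqLocus, Module.End.one_apply]
    exact hE ν w hw
  ext v
  exact hle (Submodule.mem_top)

end QStep2


section QStep5

variable {K : Type v} [Field K] [IsAlgClosed K]
variable {Q : Type w} [Group Q] [Fintype Q] {V : Type u} [AddCommGroup V] [Module K V]
  [FiniteDimensional K V] [Nontrivial V]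
variable {r : Q →* Module.End K V}

/-- the counting inequality with an arbitrary nilpotency index `s` -/
theorem ineq_s {p n s : ℕ} [Fact p.Prime] (hirr : Irr r) (hQK : (Fintype.card Q : K) ≠ 0)
    (hab : ∀ u v : Q, ⁅u, v⁆ ∈ scalarSub r)
    {σ : MulAut Q} {X Y : Module.End K V} (hXY : X * Y = 1) (hYX : Y * X = 1)
    (htw : ∀ u, X * r u = r (σ u) * X) (hn : 1 ≤ n) (hXs : (X - 1) ^ s = 0)
    (σ' : MulAut (Q ⧸ scalarSub r)) (hσ' : ∀ u, σ' (QuotientGroup.mk u) = QuotientGroup.mk (σ u))
    (hσN : σ' ^ (p ^ n) = 1) :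
    Nat.card (Q ⧸ scalarSub r) * p ^ n ≤ s * (Nat.card (Q ⧸ scalarSub r) +
      (p ^ n - 1) * Nat.card {ū : Q ⧸ scalarSub r // (σ' ^ (p ^ (n - 1))) ū = ū}) := by
  classical
  have hp : p.Prime := Fact.out
  haveI : Fintype (Q ⧸ scalarSub r) := Fintype.ofFinite _
  have hNpos : 0 < p ^ n := pow_pos hp.pos n
  have hN2 : 2 ≤ p ^ n := by
    calc 2 ≤ p := hp.two_le
      _ = p ^ 1 := (pow_one p).symm
      _ ≤ p ^ n := Nat.pow_le_pow_right hp.pos hn
  obtain ⟨M, hM⟩ : ∃ M, p ^ n = M + 1 := ⟨p ^ n - 1, by omega⟩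
  have hMeq : p ^ n - 1 = M := by omega
  rw [hMeq]
  obtain ⟨k, reps', hcov', hcount⟩ := orb_count σ' (p ^ n) hNpos hσN
  have hσ'pow : ∀ (i : ℕ) (w : Q), (σ' ^ i) (QuotientGroup.mk w) = QuotientGroup.mk ((σ ^ i) w) := by
    intro i
    induction i with
    | zero => intro w; simp
    | succ j ih => intro w; rw [pow_succ', MulAut.mul_apply, ih, hσ', pow_succ', MulAut.mul_apply]
  have hcov : ∀ u : Q, ∃ j i, ∃ z ∈ scalarSub r,
      u = (σ ^ i) ((fun j => (Quotient.out (reps' j) : Q)) j) * z := by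
    intro u
    obtain ⟨j, i, hji⟩ := hcov' (QuotientGroup.mk u)
    refine ⟨j, i, ((σ ^ i) (Quotient.out (reps' j)))⁻¹ * u, ?_, by group⟩
    rw [← QuotientGroup.eq, ← hσ'pow, QuotientGroup.out_eq', hji]
  have hk := comm_le hirr hQK hXY hYX htw k _ hcov
  have hsq := card_le_sq hirr hQK hab
  have hcb := comm_bound s V (X - 1) hXs
  have hUk : Nat.card (Q ⧸ scalarSub r) ≤ s * k :=
    le_trans hsq (le_trans hcb (Nat.mul_le_mul_left s hk))
  set F : ℕ → ℕ := fun i => (Finset.univ.filter (fun ū : Q ⧸ scalarSub r => (σ' ^ i) ū = ū)).card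
    with hF
  set γ := F (p ^ (n - 1)) with hγ
  have hγ' : Nat.card {ū : Q ⧸ scalarSub r // (σ' ^ (p ^ (n - 1))) ū = ū} = γ := by
    rw [Nat.card_eq_fintype_card, Fintype.card_subtype]
  rw [hγ']
  have hF0 : F 0 = Nat.card (Q ⧸ scalarSub r) := by
    rw [Nat.card_eq_fintype_card]
    simp [hF]
  have hFi : ∀ i, 0 < i → i < p ^ n → F i ≤ γ := by
    intro i hi0 hiN
    apply Finset.card_le_card
    intro ū hū
    simp only [Finset.mem_filter, Finset.mem_univ, true_and] at hū ⊢
    exact fix_pow_pred σ' hσN i hi0 hiN ū hū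
  have hsum : ∑ i ∈ Finset.range (p ^ n), F i = ∑ i ∈ Finset.range M, F (i + 1) + F 0 := by
    rw [hM, Finset.sum_range_succ']
  have hle : ∑ i ∈ Finset.range M, F (i + 1) ≤ ∑ _i ∈ Finset.range M, γ := by
    apply Finset.sum_le_sum
    intro i hi
    rw [Finset.mem_range] at hi
    exact hFi (i + 1) (by omega) (by omega)
  have hconst : ∑ _i ∈ Finset.range M, γ = M * γ := by simp
  change k * p ^ n = ∑ i ∈ Finset.range (p ^ n), F i at hcount
  rw [hsum, hF0] at hcount
  set c := Nat.card (Q ⧸ scalarSub r) with hc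
  have h2 : k * p ^ n ≤ c + M * γ := by
    rw [hcount]; omega
  calc c * p ^ n ≤ (s * k) * p ^ n := Nat.mul_le_mul_right _ hUk
    _ = s * (k * p ^ n) := by ring
    _ ≤ s * (c + M * γ) := Nat.mul_le_mul_left _ h2

end QStep5


section QMin

variable {K : Type v} [Field K] [IsAlgClosed K]
variable {Q : Type w} [Group Q] {V : Type u} [AddCommGroup V] [Module K V]
  [FiniteDimensional K V] [Nontrivial V]
variable {T : Type t} [Group T]
variable {r : Q →* Module.End K V} {θ : T →* MulAut Q} {ρ : T →* Module.End K V}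

/-- in a group of order four with a fixed-point-free automorphism `σ` of order three, every
automorphism commuting with `σ` is a power of `σ` -/
theorem aut_four {U : Type*} [Group U] [Finite U] (hU : Nat.card U = 4) (σ : MulAut U)
    (hσ3 : σ ^ 3 = 1) (hfpf : ∀ ū, σ ū = ū → ū = 1) (τ : MulAut U) (hτ : τ * σ = σ * τ) :
    ∃ i : ℕ, τ = σ ^ i := by
  classical
  haveI : Fintype U := Fintype.ofFinite U
  have hnt : ∃ u₀ : U, u₀ ≠ 1 := by
    by_contra hcon
    push Not at hcon
    have : Subsingleton U := ⟨fun a b => by rw [hcon a, hcon b]⟩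
    have := Nat.card_unique (α := U)
    omega
  obtain ⟨u₀, hu₀⟩ := hnt
  have hσσσ : ∀ w, σ (σ (σ w)) = w := by
    intro w
    have := congrArg (fun f : MulAut U => f w) hσ3
    simpa [pow_succ, MulAut.mul_apply] using this
  have h1 : σ u₀ ≠ u₀ := fun h => hu₀ (hfpf _ h)
  have h2 : σ (σ u₀) ≠ u₀ := by
    intro h
    apply h1
    have := congrArg σ h
    rw [hσσσ] at this
    exact this.symm
  have h3 : σ (σ u₀) ≠ σ u₀ := fun h => h1 (σ.injective h)
  have h4 : σ u₀ ≠ 1 := fun h => hu₀ (by have := σ.injective (h.trans (map_one σ).symm); exact this)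
  have h5 : σ (σ u₀) ≠ 1 := fun h => h4 (by have := σ.injective (h.trans (map_one σ).symm); exact this)
  have hS : ({1, u₀, σ u₀, σ (σ u₀)} : Finset U) = Finset.univ := by
    apply Finset.eq_univ_of_card
    rw [← Nat.card_eq_fintype_card, hU]
    rw [Finset.card_insert_of_notMem, Finset.card_insert_of_notMem, Finset.card_insert_of_notMem,
      Finset.card_singleton]
    · simp only [Finset.mem_singleton]; exact fun h => h3 h.symm
    · simp only [Finset.mem_insert, Finset.mem_singleton, not_or]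
      exact ⟨fun h => h1 h.symm, fun h => h2 h.symm⟩
    · simp only [Finset.mem_insert, Finset.mem_singleton, not_or]
      exact ⟨fun h => hu₀ h.symm, fun h => h4 h.symm, fun h => h5 h.symm⟩
  have hall : ∀ w : U, w = 1 ∨ w = u₀ ∨ w = σ u₀ ∨ w = σ (σ u₀) := by
    intro w
    have : w ∈ ({1, u₀, σ u₀, σ (σ u₀)} : Finset U) := by rw [hS]; exact Finset.mem_univ _
    simpa using this
  have hτσ : ∀ w, τ (σ w) = σ (τ w) := by
    intro w
    have := congrArg (fun f : MulAut U => f w) hτ
    simpa [MulAut.mul_apply] using this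
  have hτu : τ u₀ ≠ 1 := fun h => hu₀ (by have := τ.injective (h.trans (map_one τ).symm); exact this)
  have key : ∀ i : ℕ, τ u₀ = (σ ^ i) u₀ → τ = σ ^ i := by
    intro i hi
    have hcomm : ∀ w, (σ ^ i) (σ w) = σ ((σ ^ i) w) := by
      intro w
      rw [← MulAut.mul_apply, ← MulAut.mul_apply, ← pow_succ, ← pow_succ']
    ext w
    rcases hall w with rfl | rfl | rfl | rfl
    · simp
    · exact hi
    · rw [hτσ, hi, hcomm]
    · rw [hτσ, hτσ, hi, hcomm, hcomm]
  rcases hall (τ u₀) with h | h | h | h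
  · exact absurd h hτu
  · exact ⟨0, key 0 (by simpa using h)⟩
  · exact ⟨1, key 1 (by simpa using h)⟩
  · exact ⟨2, key 2 (by simpa [pow_succ, MulAut.mul_apply] using h)⟩

end QMin

end Cfsg.Agent.Lib.Helper66.HHPair
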