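import Cfsg.Agent.Lib.Helper66.HHQuad1

set_option autoImplicit false
set_option linter.unusedSectionVars false
set_option linter.style.haveILetI false

namespace Cfsg.Agent.Lib.Helper66.HHPair

open Module Cfsg.Agent.Lib.Helper66.HHCrit Cfsg.Agent.Lib.Helper66.HHThmB
open scoped commutatorElement

universe u v w t

section QMin2

variable {K : Type v} [Field K] [IsAlgClosed K]
variable {Q : Type w} [Group Q] {V : Type u} [AddCommGroup V] [Module K V]
  [FiniteDimensional K V] [Nontrivial V]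
variable {T : Type t} [Group T]
variable {r : Q →* Module.End K V} {θ : T →* MulAut Q} {ρ : T →* Module.End K V}

/-- **the minimal case** of the quadratic lemma: `T'` acts trivially on `Q / Z`. -/
theorem qmin [Finite Q] [Finite T] {p q : ℕ} [Fact p.Prime] [Fact q.Prime] [CharP K p]
    (hpq : p ≠ q) (hp2 : p ≠ 2) (hQ : IsPGroup q Q) (hT : IsPGroup p T) (htw : Tw r θ ρ)
    (hirr : Irr r) (hZtop : scalarSub r ≠ ⊤)
    (hmin : ∀ H : Subgroup Q, H.Normal → (∀ g, ∀ u ∈ H, θ g u ∈ H) → H ≠ ⊤ → H ≤ scalarSub r)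
    (h1 : ∀ x ∈ commutator T, (ρ x - 1) * (ρ x - 1) = 0) :
    ∀ x ∈ commutator T, quotθ θ (scalarSub r) (scalarSub_inv htw) x = 1 := by
  classical
  have hp : p.Prime := Fact.out
  have hq : q.Prime := Fact.out
  haveI : Fintype Q := Fintype.ofFinite Q
  have hqK : (q : K) ≠ 0 := by
    intro h0
    have := (CharP.cast_eq_zero_iff K p q).mp h0
    exact hpq ((Nat.prime_dvd_prime_iff_eq hp hq).mp this)
  have hQK : (Fintype.card Q : K) ≠ 0 := by
    obtain ⟨k, hk⟩ := IsPGroup.iff_card.mp hQ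
    rw [← Nat.card_eq_fintype_card, hk, Nat.cast_pow]
    exact pow_ne_zero _ hqK
  obtain ⟨hUcomm, hUexp, hUirr⟩ := min_struct hQ htw hZtop hmin
  set θ' := quotθ θ (scalarSub r) (scalarSub_inv htw) with hθ'
  have hab : ∀ u v : Q, ⁅u, v⁆ ∈ scalarSub r := by
    intro u v
    rw [← QuotientGroup.eq_one_iff, commutatorElement_def]
    simp only [QuotientGroup.mk_mul, QuotientGroup.mk_inv]
    rw [hUcomm (QuotientGroup.mk u) (QuotientGroup.mk v)]
    group
  by_contra hcon
  push Not at hcon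
  obtain ⟨x₀, hx₀, hx₀ne⟩ := hcon
  have hP : IsPGroup p (T ⧸ θ'.ker) := hT.to_quotient _
  let N : Subgroup (T ⧸ θ'.ker) := (commutator T).map (QuotientGroup.mk' θ'.ker)
  have hNn : N.Normal :=
    Subgroup.Normal.map inferInstance _ (QuotientGroup.mk'_surjective _)
  have hNne : N ≠ ⊥ := by
    intro h
    have : (QuotientGroup.mk' θ'.ker x₀) ∈ N := Subgroup.mem_map_of_mem _ hx₀
    rw [h, Subgroup.mem_bot, QuotientGroup.mk'_apply, QuotientGroup.eq_one_iff,
      MonoidHom.mem_ker] at this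
    exact hx₀ne this
  obtain ⟨b, hbN, hb1, hbc⟩ := Cfsg.Agent.Lib.Helper53.normal_meets_center hP N hNne
  obtain ⟨z, hz, rfl⟩ := hbN
  have hzne : θ' z ≠ 1 := by
    intro h
    apply hb1
    rw [QuotientGroup.mk'_apply, QuotientGroup.eq_one_iff]
    exact h
  have hzc : ∀ g, θ' g * θ' z = θ' z * θ' g := by
    intro g
    rw [Subgroup.mem_center_iff] at hbc
    have := hbc (QuotientGroup.mk' θ'.ker g)
    rw [← map_mul, ← map_mul, QuotientGroup.mk'_apply, QuotientGroup.mk'_apply, QuotientGroup.eq,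
      MonoidHom.mem_ker, map_mul, map_inv, inv_mul_eq_one] at this
    rw [← map_mul, ← map_mul]
    exact this
  have hfpf : ∀ ū, θ' z ū = ū → ū = 1 := by
    let F : Subgroup (Q ⧸ scalarSub r) :=
      { carrier := {ū | θ' z ū = ū}
        one_mem' := map_one _
        mul_mem' := by
          intro a b ha hb
          simp only [Set.mem_ofPred_eq] at ha hb ⊢
          rw [map_mul, ha, hb]
        inv_mem' := by
          intro a ha
          simp only [Set.mem_ofPred_eq] at ha ⊢
          rw [map_inv, ha] }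
    have hFinv : ∀ g, ∀ w ∈ F, θ' g w ∈ F := by
      intro g w hw
      show θ' z (θ' g w) = θ' g w
      have := congrArg (fun f : MulAut (Q ⧸ scalarSub r) => f w) (hzc g)
      simp only [MulAut.mul_apply] at this
      have hw' : θ' z w = w := hw
      rw [← this, hw']
    rcases hUirr F hFinv with h | h
    · intro ū hū
      have : ū ∈ F := hū
      rw [h, Subgroup.mem_bot] at this
      exact this
    · exfalso
      apply hzne
      ext ū
      have : ū ∈ F := by rw [h]; trivial
      exact this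
  have hXq : (ρ z - 1) * (ρ z - 1) = 0 := h1 z hz
  have hXs : (ρ z - 1) ^ 2 = 0 := by rw [sq]; exact hXq
  have hXp : (ρ z) ^ p = 1 := by
    have h3 := alg_sub_one_pow K (ρ z) 1 (p := p)
    rw [pow_one] at h3
    have : (ρ z - 1) ^ p = 0 := by
      have hp2' : 2 ≤ p := hp.two_le
      rw [← Nat.sub_add_cancel hp2', pow_add, hXs, mul_zero]
    rw [this] at h3
    exact (sub_eq_zero.mp h3.symm)
  have hσp : (θ' z) ^ p ^ 1 = 1 := by
    rw [pow_one, ← map_pow]
    ext ū
    induction ū using QuotientGroup.induction_on with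
    | H u =>
      rw [hθ', quotθ_mk, MulAut.one_apply, QuotientGroup.eq]
      have h4 : r (θ (z ^ p) u) = r u := by
        rw [htw.fix_iff, map_pow, hXp, one_mul, mul_one]
      refine ⟨1, ?_⟩
      rw [map_mul, ← h4, r_inv_mul, one_smul]
  have hres := ineq_s (s := 2) (n := 1) hirr hQK hab (σ := θ z) (X := ρ z) (Y := ρ z⁻¹)
    (r_mul_inv ρ z) (r_inv_mul ρ z) (htw z) le_rfl hXs (θ' z) (fun u => rfl) hσp
  have hγ : Nat.card {ū : Q ⧸ scalarSub r // ((θ' z) ^ (p ^ (1 - 1))) ū = ū} = 1 := by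
    rw [Nat.card_eq_one_iff_unique]
    constructor
    · constructor
      rintro ⟨a, ha⟩ ⟨b, hb⟩
      simp only [Nat.sub_self, pow_zero, pow_one] at ha hb
      apply Subtype.ext
      show a = b
      rw [hfpf a ha, hfpf b hb]
    · exact ⟨⟨1, map_one _⟩⟩
  rw [hγ, pow_one, mul_one] at hres
  -- |U| ≡ 1 mod p
  have hmod : Nat.card (Q ⧸ scalarSub r) ≡ 1 [MOD p] := by
    haveI : NeZero p := ⟨hp.pos.ne'⟩
    have hσp' : (θ' z) ^ p = 1 := by rw [← pow_one p]; exact hσp
    letI := cycAct (θ' z) p hσp'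
    have hG : IsPGroup p (Multiplicative (Fin p)) := by
      apply IsPGroup.of_card (n := 1)
      simp
    have h5 := hG.card_modEq_card_fixedPoints (Q ⧸ scalarSub r)
    have h6 : Nat.card (MulAction.fixedPoints (Multiplicative (Fin p)) (Q ⧸ scalarSub r)) = 1 := by
      rw [Nat.card_eq_one_iff_unique]
      constructor
      · constructor
        rintro ⟨a, ha⟩ ⟨b, hb⟩
        apply Subtype.ext
        show a = b
        have h1p : ((1 : Fin p) : ℕ) = 1 := Fin.val_one' p ▸ Nat.mod_eq_of_lt hp.one_lt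
        have ha' : ((θ' z) ^ ((1 : Fin p) : ℕ)) a = a := ha (Multiplicative.ofAdd (1 : Fin p))
        have hb' : ((θ' z) ^ ((1 : Fin p) : ℕ)) b = b := hb (Multiplicative.ofAdd (1 : Fin p))
        rw [h1p, pow_one] at ha' hb'
        rw [hfpf a ha', hfpf b hb']
      · refine ⟨⟨1, ?_⟩⟩
        intro g
        show ((θ' z) ^ _) 1 = 1
        exact map_one _
    rw [h6] at h5
    exact h5
  have hc2 : 2 ≤ Nat.card (Q ⧸ scalarSub r) := by
    have hUnt : Nontrivial (Q ⧸ scalarSub r) := by
      by_contra hcon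
      rw [not_nontrivial_iff_subsingleton] at hcon
      apply hZtop
      rw [eq_top_iff]
      intro u _
      have : (QuotientGroup.mk u : Q ⧸ scalarSub r) = 1 := Subsingleton.elim _ _
      exact (QuotientGroup.eq_one_iff u).mp this
    exact Finite.one_lt_card
  have hp3 : 3 ≤ p := by
    have := hp.two_le
    omega
  set c := Nat.card (Q ⧸ scalarSub r) with hc
  have hdvd : p ∣ c - 1 := (Nat.modEq_iff_dvd' (by omega)).mp hmod.symm
  obtain ⟨k, hk⟩ := hdvd
  obtain ⟨m, hm⟩ : ∃ m, p = m + 2 := ⟨p - 2, by omega⟩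
  have hck : c = (m + 2) * k + 1 := by rw [← hm]; omega
  have hk1 : 1 ≤ k := by
    rcases Nat.eq_zero_or_pos k with h | h
    · rw [h, mul_zero] at hk; omega
    · exact h
  have hm1 : 1 ≤ m := by omega
  have hkm : k * m ≤ 1 := by
    have h7 : (m + 2) * (k * m) ≤ (m + 2) * 1 := by
      have h8 : ((m + 2) * k + 1) * (m + 2) ≤ 2 * ((m + 2) * k + 1 + (m + 2 - 1)) := by
        rw [← hck, ← hm]; exact hres
      have h9 : m + 2 - 1 = m + 1 := by omega
      rw [h9] at h8
      nlinarith
    exact Nat.le_of_mul_le_mul_left h7 (by omega)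
  have hk_eq : k = 1 := by nlinarith
  have hm_eq : m = 1 := by nlinarith
  have hp_eq : p = 3 := by omega
  have hc_eq : c = 4 := by rw [hck, hk_eq, hm_eq]
  rw [hp_eq, pow_one] at hσp
  -- every `θ' g` is a power of `θ' z`
  have hpow : ∀ g, ∃ i : ℕ, θ' g = (θ' z) ^ i :=
    fun g => aut_four hc_eq (θ' z) hσp hfpf (θ' g) (hzc g)
  apply hx₀ne
  have hle : commutator T ≤ θ'.ker := by
    rw [commutator_def, Subgroup.commutator_le]
    intro g _ h _
    rw [MonoidHom.mem_ker, map_commutatorElement, commutatorElement_eq_one_iff_commute]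
    obtain ⟨i, hi⟩ := hpow g
    obtain ⟨j, hj⟩ := hpow h
    rw [hi, hj]
    exact (Commute.refl _).pow_pow i j
  exact hle hx₀

end QMin2

section QMain

variable {K : Type v} [Field K] [IsAlgClosed K]
variable {p q : ℕ} [Fact p.Prime] [Fact q.Prime] [CharP K p]

theorem quad_aux (hpq : p ≠ q) (hp2 : p ≠ 2) (T : Type t) [Group T] [Finite T]
    (hT : IsPGroup p T) (m : ℕ) : QuadP.{u, v, w, t} K p q T m := by
  induction m with
  | zero =>
    intro Q _ _ V _ _ _ r θ ρ _ _ hm
    have := Nat.card_pos (α := Q)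
    omega
  | succ m ih =>
    intro Q _ _ V _ _ _ r θ ρ hQ htw hm h1 h2 x hx u
    classical
    have hp : p.Prime := Fact.out
    have hq : q.Prime := Fact.out
    have hqK : (q : K) ≠ 0 := by
      intro h0
      have := (CharP.cast_eq_zero_iff K p q).mp h0
      exact hpq ((Nat.prime_dvd_prime_iff_eq hp hq).mp this)
    by_cases hnt : Nontrivial V
    swap
    · rw [not_nontrivial_iff_subsingleton] at hnt
      have : Subsingleton (Module.End K V) :=
        ⟨fun f g => LinearMap.ext fun v => Subsingleton.elim _ _⟩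
      exact Subsingleton.elim _ _
    by_cases hirrT : IrrT r ρ
    swap
    · unfold IrrT at hirrT
      push Not at hirrT
      obtain ⟨W, hW, hWρ, hbot, htop⟩ := hirrT
      exact qstep1 hqK ih hQ htw hm W hW hWρ hbot htop h1 h2 x hx u
    by_cases hcomm : ∀ φ ∈ commR r, φ ∈ Submodule.span K {(1 : Module.End K V)}
    swap
    · push Not at hcomm
      have hρx := qstep2 hp2 hT htw hirrT hcomm h2 x hx
      rw [htw.fix_iff, hρx, one_mul, mul_one]
    haveI : Fintype Q := Fintype.ofFinite Q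
    have hQK : (Fintype.card Q : K) ≠ 0 := by
      obtain ⟨k, hk⟩ := IsPGroup.iff_card.mp hQ
      rw [← Nat.card_eq_fintype_card, hk, Nat.cast_pow]
      exact pow_ne_zero _ hqK
    have hirr : Irr r := irr_of_commR hQK hcomm
    have IHsub : ∀ H : Subgroup Q, H ≠ ⊤ → (∀ g, ∀ u ∈ H, θ g u ∈ H) →
        ∀ u ∈ H, r (θ x u) = r u := by
      intro H hHtop hH u hu
      have hlt : Nat.card H < Nat.card Q := by
        by_contra hc
        have hge : Nat.card Q ≤ Nat.card H := Nat.le_of_not_lt hc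
        exact hHtop (Subgroup.eq_top_of_card_eq H
          (le_antisymm (Subgroup.card_le_card_group H) hge))
      exact ih H V (r.comp H.subtype) (resθ θ H hH) ρ (hQ.to_subgroup H) (htw.subgroup H hH)
        (by omega) h1 h2 x hx ⟨u, hu⟩
    by_cases hZtop : scalarSub r = ⊤
    · have huZ : u ∈ scalarSub r := by rw [hZtop]; trivial
      obtain ⟨l, hl⟩ := huZ
      rw [htw.conj, hl, mul_smul_comm, mul_one, smul_mul_assoc, r_mul_inv]
    by_cases hmin : ∀ H : Subgroup Q, H.Normal → (∀ g, ∀ u ∈ H, θ g u ∈ H) → H ≠ ⊤ →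
        H ≤ scalarSub r
    swap
    · push Not at hmin
      obtain ⟨H, hHn, hH, hHtop, hHZ⟩ := hmin
      haveI := hHn
      exact step4a hpq hQ hT htw hirr x IHsub H hH hHtop hHZ u
    have hc1 := qmin hpq hp2 hQ hT htw hirr hZtop hmin h1 x hx
    have huZ : u⁻¹ * θ x u ∈ scalarSub r := by
      rw [← QuotientGroup.eq]
      have := congrArg (fun f : MulAut (Q ⧸ scalarSub r) => f (QuotientGroup.mk u)) hc1
      simp only [MulAut.one_apply] at this
      rw [← this]
      rfl
    obtain ⟨l, hl⟩ := huZ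
    have e1 : r (θ x u) = (l • (1 : Module.End K V)) * r u := by
      have : θ x u = u * (u⁻¹ * θ x u) := by group
      rw [this, map_mul, hl, mul_smul_comm, mul_one, smul_mul_assoc, one_mul]
    obtain ⟨j, hj⟩ := hT x
    have hk := conj_pow_eq (ρ x) (ρ x⁻¹) (l • (1 : Module.End K V)) (r u)
      (by rw [mul_smul_comm, smul_mul_assoc, mul_one, one_mul])
      (by rw [← htw.conj, e1]) (p ^ j)
    rw [← map_pow, ← map_pow, inv_pow, hj, inv_one, map_one, one_mul, mul_one, smul_pow, one_pow,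
      smul_mul_assoc, one_mul] at hk
    have hlj : l ^ p ^ j = 1 := by
      have h2' : (1 : K) • r u = (l ^ p ^ j) • r u := by rw [one_smul]; exact hk
      exact (smul_right_cancel' (r_ne_zero' r u) h2').symm
    have hl1 : l = 1 := by
      have h3 : (l - 1) ^ p ^ j = 0 := by rw [sub_pow_char_pow, hlj, one_pow, sub_self]
      exact sub_eq_zero.mp (pow_eq_zero_iff (pow_pos hp.pos j).ne' |>.mp h3)
    rw [e1, hl1, one_smul, one_mul]

end QMain

/-- **The quadratic statement** for odd `p`. -/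
theorem quad_main {p : ℕ} [Fact p.Prime] (hp2 : p ≠ 2) : QuadStmt.{u, v, w, t} p := by
  intro K _ _ _ q hq hqp Q _ _ hQ V _ _ _ T _ _ hT r θ ρ htw h1 h2 x hx u
  haveI : Fact q.Prime := ⟨hq⟩
  have htw' : Tw r θ ρ := htw
  have := quad_aux (K := K) (Ne.symm hqp) hp2 T hT (Nat.card Q + finrank K V) Q V r θ ρ hQ htw'
    le_rfl h1 h2 x hx u
  exact (Tw.fix_iff htw' _ u).mp this

end Cfsg.Agent.Lib.Helper66.HHPair
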