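import Cfsg.Agent.Lib.Helper66.HHCrit

set_option autoImplicit false
set_option linter.unusedSectionVars false
set_option linter.style.haveILetI false

/-! Hall–Higman Theorem B: the inductive argument (helper66). -/

namespace Cfsg.Agent.Lib.Helper66.HHThmB

open Module Cfsg.Agent.Lib.Helper66.HHCrit

universe u v w


section Defs

variable {K : Type v} [Field K]

/-- Configuration for Theorem B: a `q`-group `Q` represented on `V`, an automorphism `α` of `Q`
implemented by the operator `X` of order dividing `p^n`, with `α^(p^(n-1))` acting nontrivially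
on the image of `Q`. -/
structure Cfg (p n : ℕ) {Q : Type w} [Group Q] {V : Type u} [AddCommGroup V] [Module K V]
    (r : Q →* Module.End K V) (α : MulAut Q) (X : Module.End K V) : Prop where
  XN : X ^ (p ^ n) = 1
  tw : ∀ u, X * r u = r (α u) * X
  nt : ∃ u, r ((α ^ (p ^ (n - 1))) u) ≠ r u
  npos : 1 ≤ n

/-- The conclusion of Theorem B as a lower bound for all annihilating exponents. -/
def Concl (p q n : ℕ) {Q : Type w} [Group Q] {V : Type u} [AddCommGroup V] [Module K V]
    (r : Q →* Module.End K V) (X : Module.End K V) : Prop :=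
  ∀ t : ℕ, (X - 1) ^ t = 0 → p ^ n ≤ t ∨ ∃ n₀ m : ℕ, 1 ≤ n₀ ∧ n₀ ≤ n ∧ 1 ≤ m ∧
    p ^ n₀ - 1 = q ^ m ∧ (∃ u v : Q, r u * r v ≠ r v * r u) ∧ p ^ (n - n₀) * (p ^ n₀ - 1) ≤ t

variable {p n : ℕ} {Q : Type w} [Group Q] {V : Type u} [AddCommGroup V] [Module K V]
variable {r : Q →* Module.End K V} {α : MulAut Q} {X : Module.End K V}

theorem tw_pow (htw : ∀ u, X * r u = r (α u) * X) (i : ℕ) (u : Q) :
    X ^ i * r u = r ((α ^ i) u) * X ^ i := by
  induction i generalizing u with
  | zero => simp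
  | succ k ih =>
    rw [pow_succ, mul_assoc, htw, ← mul_assoc, ih, pow_succ α, MulAut.mul_apply, mul_assoc]

theorem Cfg.r_pow_N (h : Cfg p n r α X) (u : Q) : r ((α ^ (p ^ n)) u) = r u := by
  have := tw_pow h.tw (p ^ n) u
  rw [h.XN, one_mul, mul_one] at this
  exact this.symm

end Defs

section SubQuot

variable {K : Type v} [Field K]
variable {p n : ℕ} {Q : Type w} [Group Q] {V : Type u} [AddCommGroup V] [Module K V]
variable {r : Q →* Module.End K V} {α : MulAut Q} {X : Module.End K V}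

/-- the sub-representation on an invariant subspace -/
def subRep (r : Q →* Module.End K V) (W : Submodule K V) (hW : ∀ u, ∀ w ∈ W, r u w ∈ W) :
    Q →* Module.End K W where
  toFun u := (r u).restrict (hW u)
  map_one' := by ext w; simp
  map_mul' := by intro s t; ext w; simp

theorem subRep_apply (W : Submodule K V) (hW : ∀ u, ∀ w ∈ W, r u w ∈ W) (u : Q) (w : W) :
    ((subRep r W hW u w : W) : V) = r u w := rfl

/-- the quotient representation -/
def quotRep (r : Q →* Module.End K V) (W : Submodule K V) (hW : ∀ u, ∀ w ∈ W, r u w ∈ W) :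
    Q →* Module.End K (V ⧸ W) where
  toFun u := W.mapQ W (r u) (fun w hw => hW u w hw)
  map_one' := by
    ext v
    simp
  map_mul' := by
    intro s t
    ext v
    simp

theorem quotRep_mk (W : Submodule K V) (hW : ∀ u, ∀ w ∈ W, r u w ∈ W) (u : Q) (v : V) :
    quotRep r W hW u (Submodule.Quotient.mk v) = Submodule.Quotient.mk (r u v) := rfl

theorem restrict_sub_one_pow (W : Submodule K V) (hX : ∀ w ∈ W, X w ∈ W) (t : ℕ) (w : W) :
    ((((X.restrict hX - 1) ^ t) w : W) : V) = ((X - 1) ^ t) (w : V) := by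
  induction t generalizing w with
  | zero => simp
  | succ k ih =>
    rw [pow_succ, pow_succ, Module.End.mul_apply, Module.End.mul_apply, ih]
    simp

theorem mapQ_sub_one_pow (W : Submodule K V) (hX : ∀ w ∈ W, X w ∈ W) (t : ℕ) (v : V) :
    ((W.mapQ W X (fun w hw => hX w hw) - 1) ^ t) (Submodule.Quotient.mk v)
      = Submodule.Quotient.mk (((X - 1) ^ t) v) := by
  induction t generalizing v with
  | zero => simp
  | succ k ih =>
    rw [pow_succ, pow_succ, Module.End.mul_apply, Module.End.mul_apply]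
    have : (W.mapQ W X (fun w hw => hX w hw) - 1) (Submodule.Quotient.mk v)
        = Submodule.Quotient.mk ((X - 1) v) := by simp
    rw [this, ih]

theorem restrict_pow (W : Submodule K V) (hX : ∀ w ∈ W, X w ∈ W) (t : ℕ) (w : W) :
    ((((X.restrict hX) ^ t) w : W) : V) = (X ^ t) (w : V) := by
  induction t generalizing w with
  | zero => simp
  | succ k ih =>
    rw [pow_succ, pow_succ, Module.End.mul_apply, Module.End.mul_apply, ih]
    simp

theorem mapQ_pow (W : Submodule K V) (hX : ∀ w ∈ W, X w ∈ W) (t : ℕ) (v : V) :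
    ((W.mapQ W X (fun w hw => hX w hw)) ^ t) (Submodule.Quotient.mk v)
      = Submodule.Quotient.mk ((X ^ t) v) := by
  induction t generalizing v with
  | zero => simp
  | succ k ih =>
    rw [pow_succ, pow_succ, Module.End.mul_apply, Module.End.mul_apply]
    have : (W.mapQ W X (fun w hw => hX w hw)) (Submodule.Quotient.mk v)
        = Submodule.Quotient.mk (X v) := by simp
    rw [this, ih]

theorem Cfg.sub (h : Cfg p n r α X) (W : Submodule K V) (hW : ∀ u, ∀ w ∈ W, r u w ∈ W)
    (hX : ∀ w ∈ W, X w ∈ W)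
    (hnt : ∃ u, subRep r W hW ((α ^ (p ^ (n - 1))) u) ≠ subRep r W hW u) :
    Cfg p n (subRep r W hW) α (X.restrict hX) := by
  refine ⟨?_, ?_, hnt, h.npos⟩
  · ext w
    rw [restrict_pow, h.XN]; simp
  · intro u
    ext w
    simp only [Module.End.mul_apply, LinearMap.coe_restrict_apply, subRep_apply]
    have := LinearMap.congr_fun (h.tw u) (w : V)
    simpa using this

theorem Cfg.quot (h : Cfg p n r α X) (W : Submodule K V) (hW : ∀ u, ∀ w ∈ W, r u w ∈ W)
    (hX : ∀ w ∈ W, X w ∈ W)
    (hnt : ∃ u, quotRep r W hW ((α ^ (p ^ (n - 1))) u) ≠ quotRep r W hW u) :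
    Cfg p n (quotRep r W hW) α (W.mapQ W X (fun w hw => hX w hw)) := by
  refine ⟨?_, ?_, hnt, h.npos⟩
  · ext v
    simp only [LinearMap.comp_apply, Submodule.mkQ_apply]
    rw [mapQ_pow, h.XN]; simp
  · intro u
    ext v
    simp only [LinearMap.comp_apply, Submodule.mkQ_apply, Module.End.mul_apply, quotRep_mk,
      Submodule.mapQ_apply]
    have := LinearMap.congr_fun (h.tw u) v
    simp only [Module.End.mul_apply] at this
    rw [this]

theorem Concl.of_sub {q : ℕ} (W : Submodule K V) (hW : ∀ u, ∀ w ∈ W, r u w ∈ W)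
    (hX : ∀ w ∈ W, X w ∈ W) (hc : Concl p q n (subRep r W hW) (X.restrict hX)) :
    Concl p q n r X := by
  intro t ht
  have ht' : (X.restrict hX - 1) ^ t = 0 := by
    ext w
    rw [restrict_sub_one_pow, ht]; simp
  rcases hc t ht' with h1 | ⟨n₀, m, h1, h2, h3, h4, ⟨u, v, huv⟩, h6⟩
  · exact Or.inl h1
  · refine Or.inr ⟨n₀, m, h1, h2, h3, h4, ⟨u, v, ?_⟩, h6⟩
    intro hcomm
    apply huv
    ext w
    have := LinearMap.congr_fun hcomm (w : V)
    simp only [Module.End.mul_apply] at this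
    simp only [Module.End.mul_apply, subRep_apply]
    exact this

theorem Concl.of_quot {q : ℕ} (W : Submodule K V) (hW : ∀ u, ∀ w ∈ W, r u w ∈ W)
    (hX : ∀ w ∈ W, X w ∈ W)
    (hc : Concl p q n (quotRep r W hW) (W.mapQ W X (fun w hw => hX w hw))) :
    Concl p q n r X := by
  intro t ht
  have ht' : (W.mapQ W X (fun w hw => hX w hw) - 1) ^ t = 0 := by
    ext v
    simp only [LinearMap.comp_apply, Submodule.mkQ_apply]
    rw [mapQ_sub_one_pow, ht]; simp
  rcases hc t ht' with h1 | ⟨n₀, m, h1, h2, h3, h4, ⟨u, v, huv⟩, h6⟩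
  · exact Or.inl h1
  · refine Or.inr ⟨n₀, m, h1, h2, h3, h4, ⟨u, v, ?_⟩, h6⟩
    intro hcomm
    apply huv
    ext z
    simp only [LinearMap.comp_apply, Submodule.mkQ_apply, Module.End.mul_apply, quotRep_mk]
    have := LinearMap.congr_fun hcomm z
    simp only [Module.End.mul_apply] at this
    rw [this]

/-- a `q`-element acting trivially on a submodule and on the quotient acts trivially -/
theorem eq_one_of_sub_quot {q : ℕ} (hqK : (q : K) ≠ 0) (A : Module.End K V) (l : ℕ)
    (hA : A ^ (q ^ l) = 1) (W : Submodule K V) (h1 : ∀ w ∈ W, A w = w)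
    (h2 : ∀ v, A v - v ∈ W) : A = 1 := by
  set ν : Module.End K V := A - 1 with hν
  have hν2 : ν * ν = 0 := by
    ext v
    simp only [Module.End.mul_apply, hν, LinearMap.sub_apply, Module.End.one_apply,
      LinearMap.zero_apply]
    have := h1 _ (h2 v)
    rw [this, sub_self]
  have hA' : A = 1 + ν := by rw [hν]; abel
  have hpow : ∀ k : ℕ, (1 + ν) ^ k = 1 + (k : K) • ν := by
    intro k
    induction k with
    | zero => simp
    | succ j ih =>
      rw [pow_succ, ih, mul_add, mul_one, add_mul, one_mul, smul_mul_assoc, hν2, smul_zero,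
        add_zero, Nat.cast_succ, add_smul, one_smul]
      abel
  rw [hA', hpow] at hA
  have h0 : ((q ^ l : ℕ) : K) • ν = 0 := by
    have := congrArg (fun z => z - 1) hA
    simpa using this
  have hq : ((q ^ l : ℕ) : K) ≠ 0 := by
    rw [Nat.cast_pow]; exact pow_ne_zero _ hqK
  have : ν = 0 := (smul_eq_zero.mp h0).resolve_left hq
  rw [hA', this, add_zero]

theorem sub_or_quot_nt [Finite Q] {q : ℕ} (hQ : IsPGroup q Q) (hqK : (q : K) ≠ 0)
    (h : Cfg p n r α X) (W : Submodule K V) (hW : ∀ u, ∀ w ∈ W, r u w ∈ W) :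
    (∃ u, subRep r W hW ((α ^ (p ^ (n - 1))) u) ≠ subRep r W hW u) ∨
    (∃ u, quotRep r W hW ((α ^ (p ^ (n - 1))) u) ≠ quotRep r W hW u) := by
  by_contra hcon
  push Not at hcon
  obtain ⟨hs, hq⟩ := hcon
  obtain ⟨u₀, hu₀⟩ := h.nt
  apply hu₀
  set β := α ^ (p ^ (n - 1))
  set g := β u₀ * u₀⁻¹ with hg
  obtain ⟨l, hl⟩ := hQ g
  have hA : r g ^ (q ^ l) = 1 := by rw [← map_pow, hl, map_one]
  have h1 : ∀ w ∈ W, r g w = w := by
    intro w hw
    have := LinearMap.congr_fun (hs u₀) ⟨w, hw⟩
    have e : r (β u₀) w = r u₀ w := congrArg Subtype.val this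
    rw [hg, map_mul, Module.End.mul_apply]
    have e2 : w = r u₀ (r u₀⁻¹ w) := by
      rw [← Module.End.mul_apply, r_mul_inv]; rfl
    have hw' : r u₀⁻¹ w ∈ W := hW _ _ hw
    have e3 := LinearMap.congr_fun (hs u₀) ⟨r u₀⁻¹ w, hw'⟩
    have e4 : r (β u₀) (r u₀⁻¹ w) = r u₀ (r u₀⁻¹ w) := congrArg Subtype.val e3
    rw [e4, ← e2]
  have h2 : ∀ v, r g v - v ∈ W := by
    intro v
    rw [hg, map_mul, Module.End.mul_apply]
    have e3 := LinearMap.congr_fun (hq u₀) (Submodule.Quotient.mk (r u₀⁻¹ v))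
    rw [quotRep_mk, quotRep_mk] at e3
    have e2 : r u₀ (r u₀⁻¹ v) = v := by
      rw [← Module.End.mul_apply, r_mul_inv]; rfl
    rw [e2] at e3
    exact (Submodule.Quotient.eq W).mp e3
  have hone := eq_one_of_sub_quot hqK (r g) l hA W h1 h2
  rw [hg, map_mul] at hone
  calc r (β u₀) = r (β u₀) * (r u₀⁻¹ * r u₀) := by rw [r_inv_mul, mul_one]
    _ = (r (β u₀) * r u₀⁻¹) * r u₀ := by rw [mul_assoc]
    _ = r u₀ := by rw [hone, one_mul]

end SubQuot

section SubGrp

variable {K : Type v} [Field K]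
variable {p n : ℕ} {Q : Type w} [Group Q] [Finite Q] {V : Type u} [AddCommGroup V] [Module K V]
variable {r : Q →* Module.End K V} {α : MulAut Q} {X : Module.End K V}

/-- restriction of an automorphism to an invariant subgroup (of a finite group) -/
noncomputable def restrictAut (α : MulAut Q) (H : Subgroup Q) (h : ∀ u ∈ H, α u ∈ H) : MulAut H :=
  MulEquiv.ofBijective
    ({ toFun := fun u => ⟨α u, h u u.2⟩
       map_one' := by ext; simp
       map_mul' := by intro a b; ext; simp } : H →* H)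
    (by
      apply Finite.injective_iff_bijective.mp
      intro a b hab
      have := congrArg Subtype.val hab
      exact Subtype.ext (α.injective this))

theorem restrictAut_apply (H : Subgroup Q) (h : ∀ u ∈ H, α u ∈ H) (u : H) :
    ((restrictAut α H h u : H) : Q) = α u := rfl

theorem restrictAut_pow_apply (H : Subgroup Q) (h : ∀ u ∈ H, α u ∈ H) (i : ℕ) (u : H) :
    ((((restrictAut α H h) ^ i) u : H) : Q) = (α ^ i) u := by
  induction i generalizing u with
  | zero => simp
  | succ k ih =>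
    rw [pow_succ, MulAut.mul_apply, ih, restrictAut_apply, pow_succ, MulAut.mul_apply]

theorem Cfg.subgroup (h : Cfg p n r α X) (H : Subgroup Q) (hH : ∀ u ∈ H, α u ∈ H)
    (hnt : ∃ u ∈ H, r ((α ^ (p ^ (n - 1))) u) ≠ r u) :
    Cfg p n (r.comp H.subtype) (restrictAut α H hH) X := by
  refine ⟨h.XN, ?_, ?_, h.npos⟩
  · intro u
    simp only [MonoidHom.comp_apply, Subgroup.subtype_apply, restrictAut_apply]
    exact h.tw u
  · obtain ⟨u, hu, hne⟩ := hnt
    refine ⟨⟨u, hu⟩, ?_⟩
    simp only [MonoidHom.comp_apply, Subgroup.subtype_apply, restrictAut_pow_apply]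
    exact hne

theorem Concl.of_subgroup {q : ℕ} (H : Subgroup Q) (hc : Concl p q n (r.comp H.subtype) X) :
    Concl p q n r X := by
  intro t ht
  rcases hc t ht with h1 | ⟨n₀, m, h1, h2, h3, h4, ⟨u, v, huv⟩, h6⟩
  · exact Or.inl h1
  · exact Or.inr ⟨n₀, m, h1, h2, h3, h4, ⟨u, v, huv⟩, h6⟩

end SubGrp



section Step3

variable {K : Type v} [Field K]
variable {p n : ℕ} {Q : Type w} [Group Q] {V : Type u} [AddCommGroup V] [Module K V]
variable {r : Q →* Module.End K V} {α : MulAut Q} {X : Module.End K V}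

/-- irreducibility under `r(Q)` and `X` -/
def IrrX (r : Q →* Module.End K V) (X : Module.End K V) : Prop :=
  ∀ W : Submodule K V, (∀ u, ∀ w ∈ W, r u w ∈ W) → (∀ w ∈ W, X w ∈ W) → W = ⊥ ∨ W = ⊤

/-- the commutant of `r(Q)` -/
def commR (r : Q →* Module.End K V) : Submodule K (Module.End K V) where
  carrier := {φ | ∀ u, φ * r u = r u * φ}
  add_mem' := by
    intro a b ha hb u
    rw [add_mul, mul_add, ha u, hb u]
  zero_mem' := by intro u; simp
  smul_mem' := by
    intro c a ha u
    rw [smul_mul_assoc, mul_smul_comm, ha u]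

theorem mem_commR (φ : Module.End K V) : φ ∈ commR r ↔ ∀ u, φ * r u = r u * φ := Iff.rfl

theorem schurX [IsAlgClosed K] [FiniteDimensional K V] [Nontrivial V] (hirr : IrrX r X)
    (b : Module.End K V) (hb : b ∈ commR r) (hbX : b * X = X * b) :
    ∃ ν : K, b = ν • (1 : Module.End K V) := by
  obtain ⟨ν, hν⟩ := Module.End.exists_eigenvalue b
  refine ⟨ν, ?_⟩
  have h1 : ∀ u : Q, ∀ w ∈ b.eigenspace ν, r u w ∈ b.eigenspace ν := by
    intro u w hw
    rw [Module.End.mem_eigenspace_iff] at hw ⊢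
    have := LinearMap.congr_fun (hb u) w
    simp only [Module.End.mul_apply] at this
    rw [this, hw, map_smul]
  have h2 : ∀ w ∈ b.eigenspace ν, X w ∈ b.eigenspace ν := by
    intro w hw
    rw [Module.End.mem_eigenspace_iff] at hw ⊢
    have := LinearMap.congr_fun hbX w
    simp only [Module.End.mul_apply] at this
    rw [this, hw, map_smul]
  rcases hirr _ h1 h2 with h | h
  · exact absurd h (Module.End.hasEigenvalue_iff.mp hν)
  · ext v
    have : v ∈ b.eigenspace ν := by rw [h]; trivial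
    rw [Module.End.mem_eigenspace_iff] at this
    simpa using this

theorem X_mul_pow_pred (N : ℕ) (hN : 0 < N) (hX : X ^ N = 1) : X * X ^ (N - 1) = 1 := by
  rw [← pow_succ', Nat.sub_add_cancel hN, hX]

theorem pow_pred_mul_X (N : ℕ) (hN : 0 < N) (hX : X ^ N = 1) : X ^ (N - 1) * X = 1 := by
  rw [← pow_succ, Nat.sub_add_cancel hN, hX]

theorem commR_conj (htw : ∀ u, X * r u = r (α u) * X) (Y : Module.End K V) (hXY : X * Y = 1)
    (hYX : Y * X = 1) (φ : Module.End K V) (hφ : φ ∈ commR r) : X * φ * Y ∈ commR r := by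
  intro u
  have h1 : X * r (α⁻¹ u) = r u * X := by
    have := htw (α⁻¹ u)
    rwa [MulAut.apply_inv_self] at this
  have h2 : Y * r u = r (α⁻¹ u) * Y := by
    calc Y * r u = Y * (r u * X) * Y := by rw [mul_assoc, mul_assoc, hXY, mul_one]
      _ = Y * (X * r (α⁻¹ u)) * Y := by rw [h1]
      _ = r (α⁻¹ u) * Y := by rw [← mul_assoc Y X, hYX, one_mul]
  calc X * φ * Y * r u = X * φ * (Y * r u) := by rw [mul_assoc]
    _ = X * φ * (r (α⁻¹ u) * Y) := by rw [h2]
    _ = X * (φ * r (α⁻¹ u)) * Y := by simp only [mul_assoc]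
    _ = X * (r (α⁻¹ u) * φ) * Y := by rw [hφ]
    _ = (X * r (α⁻¹ u)) * φ * Y := by simp only [mul_assoc]
    _ = r u * (X * φ * Y) := by rw [h1]; simp only [mul_assoc]

/-- existence of an element of the commutant, not a scalar, which `X` moves by a scalar -/
theorem exists_b [IsAlgClosed K] [FiniteDimensional K V] [Nontrivial V]
    {p' : ℕ} [Fact p'.Prime] [CharP K p'] (m : ℕ) (hXN : X ^ (p' ^ m) = 1)
    (htw : ∀ u, X * r u = r (α u) * X)
    (hne : ∃ φ ∈ commR r, φ ∉ Submodule.span K {(1 : Module.End K V)}) :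
    ∃ b ∈ commR r, b ∉ Submodule.span K {(1 : Module.End K V)} ∧
      ∃ c : K, X * b * X ^ (p' ^ m - 1) - b = c • (1 : Module.End K V) := by
  classical
  have hNpos : 0 < p' ^ m := pow_pos (Fact.out : p'.Prime).pos m
  set N := p' ^ m with hN
  set Y := X ^ (N - 1) with hY
  have hXY : X * Y = 1 := X_mul_pow_pred N hNpos hXN
  have hYX : Y * X = 1 := pow_pred_mul_X N hNpos hXN
  have hYN : Y ^ N = 1 := by rw [hY, ← pow_mul, mul_comm, pow_mul, hXN, one_pow]
  set T : Module.End K (Module.End K V) := Cj Y X - 1 with hT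
  have hTapp : ∀ φ, T φ = X * φ * Y - φ := by
    intro φ
    rw [hT, LinearMap.sub_apply, Cj_apply, Module.End.one_apply]
  have hCN : Cj Y X ^ N = 1 := Cj_pow_eq_one hYX hXY N hYN
  have hTN : T ^ N = 0 := by
    rw [hT, hN, alg_sub_one_pow K (Cj Y X) m, ← hN, hCN, sub_self]
  have hTinv : ∀ φ ∈ commR r, T φ ∈ commR r := by
    intro φ hφ
    rw [hTapp]
    exact Submodule.sub_mem _ (commR_conj htw Y hXY hYX φ hφ) hφ
  have hTkinv : ∀ k : ℕ, ∀ φ ∈ commR r, (T ^ k) φ ∈ commR r := by
    intro k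
    induction k with
    | zero => intro φ hφ; simpa using hφ
    | succ j ih =>
      intro φ hφ
      rw [pow_succ', Module.End.mul_apply]
      exact hTinv _ (ih φ hφ)
  let P : ℕ → Prop := fun k => ∀ φ ∈ commR r, (T ^ k) φ ∈ Submodule.span K {(1 : Module.End K V)}
  have hPN : P N := by
    intro φ _
    rw [hTN]; simp
  have hP0 : ¬ P 0 := by
    intro h0
    obtain ⟨φ, hφ, hφ'⟩ := hne
    exact hφ' (by simpa using h0 φ hφ)
  have hex : ∃ k, P k := ⟨N, hPN⟩
  set k := Nat.find hex with hk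
  have hkP : P k := Nat.find_spec hex
  have hk0 : k ≠ 0 := by
    intro h0
    rw [h0] at hkP
    exact hP0 hkP
  have hkm : ¬ P (k - 1) := Nat.find_min hex (by omega)
  simp only [P] at hkm
  push Not at hkm
  obtain ⟨φ, hφ, hφ'⟩ := hkm
  refine ⟨(T ^ (k - 1)) φ, hTkinv _ φ hφ, hφ', ?_⟩
  have : T ((T ^ (k - 1)) φ) ∈ Submodule.span K {(1 : Module.End K V)} := by
    rw [← Module.End.mul_apply, ← pow_succ', Nat.sub_add_cancel (by omega)]
    exact hkP φ hφ
  rw [hTapp] at this
  obtain ⟨c, hc⟩ := Submodule.mem_span_singleton.mp this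
  exact ⟨c, hc.symm⟩

/-- data for the wreath step: `b` commutes with `r(Q)` and `X b X⁻¹ = b + c`. -/
structure Shift (r : Q →* Module.End K V) (X Y b : Module.End K V) (c : K) : Prop where
  XY : X * Y = 1
  YX : Y * X = 1
  hb : b ∈ commR r
  hbc : X * b * Y - b = c • (1 : Module.End K V)

variable {Y b : Module.End K V} {c : K}

theorem Shift.bX (h : Shift r X Y b c) : b * X = X * b - c • X := by
  have h1 : X * b * Y = b + c • (1 : Module.End K V) := by
    rw [← h.hbc]; abel
  have h2 : X * b = (b + c • (1 : Module.End K V)) * X := by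
    rw [← h1, mul_assoc, mul_assoc, h.YX, mul_one]
  rw [h2, add_mul, smul_mul_assoc, one_mul]; abel

theorem Shift.bY (h : Shift r X Y b c) : b * Y = Y * b + c • Y := by
  have h1 : X * b * Y = b + c • (1 : Module.End K V) := by
    rw [← h.hbc]; abel
  have h2 : b * Y = Y * (b + c • (1 : Module.End K V)) := by
    rw [← h1]
    simp only [← mul_assoc]
    rw [h.YX, one_mul]
  rw [h2, mul_add, mul_smul_comm, mul_one]

theorem Shift.X_maps (h : Shift r X Y b c) (ν : K) (w : V) (hw : w ∈ b.eigenspace ν) :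
    X w ∈ b.eigenspace (ν - c) := by
  rw [Module.End.mem_eigenspace_iff] at hw ⊢
  have := LinearMap.congr_fun h.bX w
  simp only [Module.End.mul_apply, LinearMap.sub_apply, LinearMap.smul_apply] at this
  rw [this, hw, map_smul, sub_smul]

theorem Shift.Y_maps (h : Shift r X Y b c) (ν : K) (w : V) (hw : w ∈ b.eigenspace ν) :
    Y w ∈ b.eigenspace (ν + c) := by
  rw [Module.End.mem_eigenspace_iff] at hw ⊢
  have := LinearMap.congr_fun h.bY w
  simp only [Module.End.mul_apply, LinearMap.add_apply, LinearMap.smul_apply] at this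
  rw [this, hw, map_smul, add_smul]

theorem Shift.X_pow_maps (h : Shift r X Y b c) (ν : K) (i : ℕ) (w : V)
    (hw : w ∈ b.eigenspace ν) : (X ^ i) w ∈ b.eigenspace (ν - i * c) := by
  induction i with
  | zero => simpa using hw
  | succ k ih =>
    rw [pow_succ', Module.End.mul_apply]
    have := h.X_maps _ _ ih
    have e : ν - (k : K) * c - c = ν - ((k + 1 : ℕ) : K) * c := by push_cast; ring
    rwa [e] at this

theorem Shift.Y_pow_maps (h : Shift r X Y b c) (ν : K) (i : ℕ) (w : V)
    (hw : w ∈ b.eigenspace ν) : (Y ^ i) w ∈ b.eigenspace (ν + i * c) := by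
  induction i with
  | zero => simpa using hw
  | succ k ih =>
    rw [pow_succ', Module.End.mul_apply]
    have := h.Y_maps _ _ ih
    have e : ν + (k : K) * c + c = ν + ((k + 1 : ℕ) : K) * c := by push_cast; ring
    rwa [e] at this

theorem Shift.r_maps (h : Shift r X Y b c) (ν : K) (u : Q) (w : V) (hw : w ∈ b.eigenspace ν) :
    r u w ∈ b.eigenspace ν := by
  rw [Module.End.mem_eigenspace_iff] at hw ⊢
  have := LinearMap.congr_fun (h.hb u) w
  simp only [Module.End.mul_apply] at this
  rw [this, hw, map_smul]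

theorem XY_pow (hXY : X * Y = 1) (hYX : Y * X = 1) (i : ℕ) : X ^ i * Y ^ i = 1 := by
  have hc : Commute X Y := by rw [Commute, SemiconjBy, hXY, hYX]
  rw [← hc.mul_pow, hXY, one_pow]

section CharPSec

variable [Fact p.Prime] [CharP K p]

theorem Shift.eig_p (ν : K) : ν - ((p : ℕ) : K) * c = ν := by
  rw [CharP.cast_eq_zero K p, zero_mul, sub_zero]

theorem Shift.iSup_eq_top (h : Shift r X Y b c) (hirr : IrrX r X) (ν₀ : K)
    (hν₀ : b.eigenspace ν₀ ≠ ⊥) :
    (⨆ i ∈ Finset.range p, b.eigenspace (ν₀ - (i : K) * c)) = ⊤ := by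
  have hppos : 0 < p := (Fact.out : p.Prime).pos
  set S := ⨆ i ∈ Finset.range p, b.eigenspace (ν₀ - (i : K) * c) with hS
  have hle : ∀ i, i < p → b.eigenspace (ν₀ - (i : K) * c) ≤ S := fun i hi =>
    le_iSup₂_of_le i (Finset.mem_range.mpr hi) le_rfl
  have h1 : ∀ u, ∀ w ∈ S, r u w ∈ S := by
    intro u
    have : S ≤ S.comap (r u) := by
      refine iSup₂_le ?_
      intro i hi w hw
      rw [Submodule.mem_comap]
      exact hle i (Finset.mem_range.mp hi) (h.r_maps _ u w hw)
    exact fun w hw => this hw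
  have h2 : ∀ w ∈ S, X w ∈ S := by
    have : S ≤ S.comap X := by
      refine iSup₂_le ?_
      intro i hi w hw
      rw [Submodule.mem_comap]
      have hi' := Finset.mem_range.mp hi
      have hX := h.X_maps _ w hw
      have e : ν₀ - (i : K) * c - c = ν₀ - ((i + 1 : ℕ) : K) * c := by push_cast; ring
      rw [e] at hX
      rcases Nat.lt_or_ge (i + 1) p with hlt | hge
      · exact hle (i + 1) hlt hX
      · have : i + 1 = p := by omega
        rw [this, Shift.eig_p] at hX
        have e0 : ν₀ = ν₀ - ((0 : ℕ) : K) * c := by simp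
        rw [e0] at hX
        exact hle 0 hppos hX
    exact fun w hw => this hw
  rcases hirr S h1 h2 with h0 | h0
  · exfalso
    apply hν₀
    rw [eq_bot_iff, ← h0]
    have e0 : ν₀ = ν₀ - ((0 : ℕ) : K) * c := by simp
    rw [e0]
    exact hle 0 hppos
  · exact h0

theorem Shift.sum_ne_zero (h : Shift r X Y b c) (hc : c ≠ 0) (ν₀ : K) (w₁ : V)
    (hw₁ : w₁ ∈ b.eigenspace ν₀) (hne : w₁ ≠ 0) :
    ∑ i ∈ Finset.range p, (X ^ i) w₁ ≠ 0 := by
  have hppos : 0 < p := (Fact.out : p.Prime).pos
  intro hsum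
  let μ : Fin p → K := fun i => ν₀ - ((i : ℕ) : K) * c
  have hμ : Function.Injective μ := by
    intro i j hij
    simp only [μ] at hij
    have h1 : ((i : ℕ) : K) * c = ((j : ℕ) : K) * c := by
      have := sub_right_injective hij
      exact this
    have h2 : ((i : ℕ) : K) = ((j : ℕ) : K) := mul_right_cancel₀ hc h1
    have h3 := (CharP.natCast_eq_natCast K p).mp h2
    exact Fin.ext (Nat.ModEq.eq_of_lt_of_lt h3 i.2 j.2)
  let v : Fin p → V := fun i => (X ^ (i : ℕ)) w₁
  have hv : ∀ i, b.HasEigenvector (μ i) (v i) := by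
    intro i
    refine ⟨h.X_pow_maps ν₀ i w₁ hw₁, ?_⟩
    intro h0
    apply hne
    have := congrArg (Y ^ (i : ℕ)) h0
    simp only [v, map_zero] at this
    rw [← Module.End.mul_apply] at this
    have e : Y ^ (i : ℕ) * X ^ (i : ℕ) = 1 := XY_pow h.YX h.XY i
    rw [e] at this
    simpa using this
  have hli := Module.End.eigenvectors_linearIndependent' b μ hμ v hv
  rw [Finset.sum_range] at hsum
  have := Fintype.linearIndependent_iff.mp hli (fun _ => 1) (by simpa [v] using hsum) ⟨0, hppos⟩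
  exact one_ne_zero this

end CharPSec

end Step3


end Cfsg.Agent.Lib.Helper66.HHThmB
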