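import Cfsg.Agent.Lib.Helper66.HHThmB

set_option autoImplicit false
set_option linter.unusedSectionVars false

/-! Hall–Higman Theorem B: the wreath step and the group-theoretic lemma (helper66). -/

namespace Cfsg.Agent.Lib.Helper66.HHThmB

open Module Cfsg.Agent.Lib.Helper66.HHCrit
open scoped commutatorElement

universe u v w

section Step3Main

variable {K : Type v} [Field K] [IsAlgClosed K]
variable {p n : ℕ} [Fact p.Prime] [CharP K p]
variable {Q : Type w} [Group Q] {V : Type u} [AddCommGroup V] [Module K V]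
  [FiniteDimensional K V] [Nontrivial V]
variable {r : Q →* Module.End K V} {α : MulAut Q} {X : Module.End K V}
variable {Y b : Module.End K V} {c : K}

/-- lower bound transfer in the wreath step -/
theorem Shift.lower (h : Shift r X Y b c) (hc : c ≠ 0) (ν₀ : K)
    (hWX : ∀ w ∈ b.eigenspace ν₀, (X ^ p) w ∈ b.eigenspace ν₀) (t : ℕ) (ht : (X - 1) ^ t = 0) :
    ((X ^ p).restrict hWX - 1) ^ (t / p) = 0 := by
  have hppos : 0 < p := (Fact.out : p.Prime).pos
  by_contra hne
  have : ∃ w : b.eigenspace ν₀, (((X ^ p).restrict hWX - 1) ^ (t / p)) w ≠ 0 := by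
    by_contra hall
    push Not at hall
    apply hne
    ext w
    rw [hall w]; simp
  obtain ⟨w, hw⟩ := this
  set k := t / p with hk
  set w₁ : V := ((X ^ p - 1) ^ k) (w : V) with hw₁
  have hw₁eq : ((((X ^ p).restrict hWX - 1) ^ k) w : V) = w₁ := restrict_sub_one_pow _ hWX k w
  have hw₁mem : w₁ ∈ b.eigenspace ν₀ := by rw [← hw₁eq]; exact Subtype.mem _
  have hw₁ne : w₁ ≠ 0 := by
    intro h0
    apply hw
    apply Subtype.ext
    rw [hw₁eq, h0]; rfl
  have hsum := h.sum_ne_zero (p := p) hc ν₀ w₁ hw₁mem hw₁ne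
  apply hsum
  have e1 : (X - 1) ^ p = X ^ p - 1 := by
    have := alg_sub_one_pow (p := p) K X 1
    simpa using this
  have e2 : (X - 1) ^ (p - 1) = ∑ i ∈ Finset.range p, X ^ i := by
    have := alg_sub_one_pow_pred (p := p) K X 1
    simpa using this
  have e3 : (X - 1) ^ (p - 1 + p * k) = 0 := by
    have hle : t ≤ p - 1 + p * k := by
      have h1 := Nat.div_add_mod t p
      have h2 := Nat.mod_lt t hppos
      rw [← hk] at h1
      omega
    obtain ⟨d, hd⟩ := Nat.exists_eq_add_of_le hle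
    rw [hd, pow_add, ht, zero_mul]
  have e4 : ((X - 1) ^ (p - 1 + p * k)) (w : V) = ∑ i ∈ Finset.range p, (X ^ i) w₁ := by
    rw [pow_add, pow_mul, e1, e2, Module.End.mul_apply, LinearMap.sum_apply]
  rw [← e4, e3]; simp

/-- if `β` acts trivially on the eigenspace `W`, it acts trivially everywhere -/
theorem Shift.nt_transfer (p' : ℕ) [Fact p'.Prime] [CharP K p'] (h : Shift r X Y b c) (hirr : IrrX r X)
    (htw : ∀ u, X * r u = r (α u) * X) (ν₀ : K) (hν₀ : b.eigenspace ν₀ ≠ ⊥) (j : ℕ)
    (hW : ∀ u : Q, ∀ w ∈ b.eigenspace ν₀, r ((α ^ j) u) w = r u w) :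
    ∀ u : Q, r ((α ^ j) u) = r u := by
  intro u
  have htop := h.iSup_eq_top (p := p') hirr ν₀ hν₀
  have hle : (⨆ i ∈ Finset.range p', b.eigenspace (ν₀ - (i : K) * c))
      ≤ LinearMap.eqLocus (r ((α ^ j) u)) (r u) := by
    refine iSup₂_le ?_
    intro i _ w hw
    rw [LinearMap.mem_eqLocus]
    -- w = X^i w₀ with w₀ ∈ W
    set w₀ := (Y ^ i) w with hw₀
    have hw₀mem : w₀ ∈ b.eigenspace ν₀ := by
      have := h.Y_pow_maps _ i w hw
      have e : ν₀ - (i : K) * c + (i : K) * c = ν₀ := by ring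
      rwa [e] at this
    have hwX : w = (X ^ i) w₀ := by
      rw [hw₀, ← Module.End.mul_apply, XY_pow h.XY h.YX]; rfl
    obtain ⟨u', rfl⟩ : ∃ u', u = (α ^ i) u' := ⟨(α ^ i)⁻¹ u, by simp⟩
    have hcomm : (α ^ j) ((α ^ i) u') = (α ^ i) ((α ^ j) u') := by
      rw [← MulAut.mul_apply, ← MulAut.mul_apply, pow_mul_comm]
    rw [hwX, hcomm]
    have e1 := LinearMap.congr_fun (tw_pow htw i ((α ^ j) u')) w₀
    have e2 := LinearMap.congr_fun (tw_pow htw i u') w₀
    simp only [Module.End.mul_apply] at e1 e2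
    rw [← e1, ← e2, hW u' w₀ hw₀mem]
  rw [htop] at hle
  ext v
  exact hle (Submodule.mem_top : v ∈ ⊤)

theorem step3 {q : ℕ} (h : Cfg p n r α X) (hirr : IrrX r X)
    (hne : ∃ φ ∈ commR r, φ ∉ Submodule.span K {(1 : Module.End K V)})
    (IH : ∀ (W : Submodule K V) (hWr : ∀ u, ∀ w ∈ W, r u w ∈ W) (hWX : ∀ w ∈ W, (X ^ p) w ∈ W),
      W ≠ ⊤ → 2 ≤ n → Cfg p (n - 1) (subRep r W hWr) (α ^ p) ((X ^ p).restrict hWX) →
      Concl p q (n - 1) (subRep r W hWr) ((X ^ p).restrict hWX)) :
    Concl p q n r X := by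
  have hppos : 0 < p := (Fact.out : p.Prime).pos
  have hNpos : 0 < p ^ n := pow_pos hppos n
  obtain ⟨b, hb, hbns, c, hbc⟩ := exists_b n h.XN h.tw hne
  set Y := X ^ (p ^ n - 1) with hY
  have hsh : Shift r X Y b c :=
    ⟨X_mul_pow_pred _ hNpos h.XN, pow_pred_mul_X _ hNpos h.XN, hb, hbc⟩
  have hc : c ≠ 0 := by
    rintro rfl
    have hbX := hsh.bX
    rw [zero_smul, sub_zero] at hbX
    obtain ⟨ν, hν⟩ := schurX hirr b hb hbX
    apply hbns
    rw [hν]
    exact Submodule.smul_mem _ ν (Submodule.mem_span_singleton_self _)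
  obtain ⟨ν₀, hν₀⟩ := Module.End.exists_eigenvalue b
  have hWne : b.eigenspace ν₀ ≠ ⊥ := Module.End.hasEigenvalue_iff.mp hν₀
  have hWtop : b.eigenspace ν₀ ≠ ⊤ := by
    intro htop
    apply hbns
    have : b = ν₀ • (1 : Module.End K V) := by
      ext v
      have : v ∈ b.eigenspace ν₀ := by rw [htop]; trivial
      rw [Module.End.mem_eigenspace_iff] at this
      simpa using this
    rw [this]
    exact Submodule.smul_mem _ ν₀ (Submodule.mem_span_singleton_self _)
  have hWr : ∀ u, ∀ w ∈ b.eigenspace ν₀, r u w ∈ b.eigenspace ν₀ := fun u w hw =>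
    hsh.r_maps ν₀ u w hw
  have hWX : ∀ w ∈ b.eigenspace ν₀, (X ^ p) w ∈ b.eigenspace ν₀ := by
    intro w hw
    have := hsh.X_pow_maps ν₀ p w hw
    rwa [Shift.eig_p] at this
  have hlow := fun t ht => hsh.lower (p := p) hc ν₀ hWX t ht
  intro t ht
  have hlt := hlow t ht
  rcases Nat.lt_or_ge n 2 with hn | hn
  · -- n = 1
    have hn1 : n = 1 := by have := h.npos; omega
    left
    rw [hn1, pow_one]
    by_contra hlt'
    push Not at hlt'
    have : t / p = 0 := Nat.div_eq_of_lt hlt'
    rw [this, pow_zero] at hlt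
    apply hWne
    rw [eq_bot_iff]
    intro w hw
    have := LinearMap.congr_fun hlt ⟨w, hw⟩
    simp only [Module.End.one_apply, LinearMap.zero_apply] at this
    rw [Submodule.mem_bot]
    exact congrArg Subtype.val this
  · -- n ≥ 2
    have hpow : p * p ^ (n - 1 - 1) = p ^ (n - 1) := by
      rw [← pow_succ']; congr 1; omega
    have hcfg : Cfg p (n - 1) (subRep r (b.eigenspace ν₀) hWr) (α ^ p) ((X ^ p).restrict hWX) := by
      refine ⟨?_, ?_, ?_, by omega⟩
      · ext w
        rw [restrict_pow, ← pow_mul, ← pow_succ', Nat.sub_add_cancel h.npos, h.XN]; simp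
      · intro u
        ext w
        simp only [Module.End.mul_apply, LinearMap.coe_restrict_apply, subRep_apply]
        have := LinearMap.congr_fun (tw_pow h.tw p u) (w : V)
        simpa using this
      · by_contra hall
        push Not at hall
        obtain ⟨u₀, hu₀⟩ := h.nt
        apply hu₀
        have hW : ∀ u : Q, ∀ w ∈ b.eigenspace ν₀, r ((α ^ (p ^ (n - 1))) u) w = r u w := by
          intro u w hw
          have := LinearMap.congr_fun (hall u) ⟨w, hw⟩
          have e := congrArg Subtype.val this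
          simp only [subRep_apply] at e
          rw [← pow_mul, hpow] at e
          exact e
        exact hsh.nt_transfer p hirr h.tw ν₀ hWne _ hW u₀
    have hC := IH (b.eigenspace ν₀) hWr hWX hWtop hn hcfg
    have hdiv : p * (t / p) ≤ t := Nat.mul_div_le t p
    rcases hC (t / p) hlt with h1 | ⟨n₀, m, h1, h2, h3, h4, ⟨u, v, huv⟩, h6⟩
    · left
      calc p ^ n = p * p ^ (n - 1) := by rw [← pow_succ', Nat.sub_add_cancel h.npos]
        _ ≤ p * (t / p) := Nat.mul_le_mul_left _ h1
        _ ≤ t := hdiv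
    · right
      refine ⟨n₀, m, h1, by omega, h3, h4, ⟨u, v, ?_⟩, ?_⟩
      · intro hcomm
        apply huv
        ext w
        have := LinearMap.congr_fun hcomm (w : V)
        simp only [Module.End.mul_apply] at this
        simp only [Module.End.mul_apply, subRep_apply]
        exact this
      · have e : p ^ (n - n₀) = p * p ^ (n - 1 - n₀) := by
          rw [← pow_succ']; congr 1; omega
        calc p ^ (n - n₀) * (p ^ n₀ - 1) = p * (p ^ (n - 1 - n₀) * (p ^ n₀ - 1)) := by
              rw [e, mul_assoc]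
          _ ≤ p * (t / p) := Nat.mul_le_mul_left _ h6
          _ ≤ t := hdiv

end Step3Main

section Step4

variable {K : Type v} [Field K] [IsAlgClosed K]
variable {Q : Type w} [Group Q] {V : Type u} [AddCommGroup V] [Module K V]
  [FiniteDimensional K V] [Nontrivial V]
variable {r : Q →* Module.End K V}

/-- Maschke: if the commutant consists of scalars then the representation is irreducible. -/
theorem irr_of_commR [Fintype Q] (hQK : (Fintype.card Q : K) ≠ 0)
    (hcomm : ∀ φ ∈ commR r, φ ∈ Submodule.span K {(1 : Module.End K V)}) : Irr r := by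
  intro W hW
  by_contra hcon
  push Not at hcon
  obtain ⟨hbot, htop⟩ := hcon
  obtain ⟨W', hW'⟩ := Submodule.exists_isCompl W
  let P₀ : Module.End K V := W.subtype.comp (Submodule.projectionOnto W W' hW')
  have hP₀W : ∀ w ∈ W, P₀ w = w := by
    intro w hw
    simp only [P₀, LinearMap.comp_apply, Submodule.subtype_apply]
    rw [Submodule.projectionOnto_apply_of_mem_left hW' hw]
  have hP₀mem : ∀ v, P₀ v ∈ W := by
    intro v
    simp only [P₀, LinearMap.comp_apply, Submodule.subtype_apply]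
    exact Subtype.mem _
  set S : Module.End K V := ∑ u, r u * P₀ * r u⁻¹ with hS
  have hSc : S ∈ commR r := fun v => avg_comm r P₀ v
  have hSW : ∀ w ∈ W, S w = (Fintype.card Q : K) • w := by
    intro w hw
    rw [hS, LinearMap.sum_apply]
    have : ∀ u : Q, (r u * P₀ * r u⁻¹) w = w := by
      intro u
      simp only [Module.End.mul_apply]
      rw [hP₀W _ (hW u⁻¹ w hw), ← Module.End.mul_apply, r_mul_inv]; rfl
    simp [this, Nat.cast_smul_eq_nsmul]
  have hSmem : ∀ v, S v ∈ W := by
    intro v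
    rw [hS, LinearMap.sum_apply]
    refine Submodule.sum_mem _ ?_
    intro u _
    simp only [Module.End.mul_apply]
    exact hW u _ (hP₀mem _)
  obtain ⟨c, hc⟩ := Submodule.mem_span_singleton.mp (hcomm S hSc)
  obtain ⟨w, hw, hw0⟩ := Submodule.exists_mem_ne_zero_of_ne_bot hbot
  have h1 := hSW w hw
  rw [← hc] at h1
  simp only [LinearMap.smul_apply, Module.End.one_apply] at h1
  have hcq : c = (Fintype.card Q : K) := by
    by_contra hne
    have : (c - (Fintype.card Q : K)) • w = 0 := by rw [sub_smul, h1, sub_self]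
    rcases smul_eq_zero.mp this with h2 | h2
    · exact hne (sub_eq_zero.mp h2)
    · exact hw0 h2
  apply htop
  rw [eq_top_iff]
  intro v _
  have h2 := hSmem v
  rw [← hc, hcq] at h2
  simp only [LinearMap.smul_apply, Module.End.one_apply] at h2
  have := Submodule.smul_mem W (Fintype.card Q : K)⁻¹ h2
  rwa [smul_smul, inv_mul_cancel₀ hQK, one_smul] at this

variable {p n : ℕ} {α : MulAut Q} {X : Module.End K V}

theorem r_alpha_inv (htw : ∀ u, X * r u = r (α u) * X) (Y : Module.End K V)
    (hYX : Y * X = 1) (v : Q) : r (α⁻¹ v) = Y * r v * X := by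
  have := htw (α⁻¹ v)
  rw [MulAut.apply_inv_self] at this
  rw [mul_assoc, ← this, ← mul_assoc, hYX, one_mul]

theorem r_alpha (htw : ∀ u, X * r u = r (α u) * X) (Y : Module.End K V)
    (hXY : X * Y = 1) (v : Q) : r (α v) = X * r v * Y := by
  rw [htw, mul_assoc, hXY, mul_one]

theorem r_cancel_right (a b : Module.End K V) (u : Q) (h : a * r u = b * r u) : a = b := by
  have := congrArg (· * r u⁻¹) h
  simpa [mul_assoc, r_mul_inv] using this

/-- **Group-theoretic lemma** for a minimal configuration: an element of `Q` centralised (modulo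
the kernel) by `β = α^(p^(n-1))` acts centrally. -/
theorem central_of_fixed [Finite Q] {q : ℕ} [Fact p.Prime] [Fact q.Prime] (hQ : IsPGroup q Q)
    (hpq : p ≠ q) (h : Cfg p n r α X)
    (hM : ∀ H : Subgroup Q, H ≠ ⊤ → (∀ u ∈ H, α u ∈ H) →
      ∀ u ∈ H, r ((α ^ (p ^ (n - 1))) u) = r u)
    (d : Q) (hd : r ((α ^ (p ^ (n - 1))) d) = r d) : ∀ u, r d * r u = r u * r d := by
  have hppos : 0 < p := (Fact.out : p.Prime).pos
  have hNpos : 0 < p ^ n := pow_pos hppos n
  set β : MulAut Q := α ^ (p ^ (n - 1)) with hβ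
  set Y := X ^ (p ^ n - 1) with hY
  have hXY : X * Y = 1 := X_mul_pow_pred _ hNpos h.XN
  have hYX : Y * X = 1 := pow_pred_mul_X _ hNpos h.XN
  have hβp : ∀ u, r ((β ^ p) u) = r u := by
    intro u
    have : β ^ p = α ^ (p ^ n) := by
      rw [hβ, ← pow_mul, ← pow_succ, Nat.sub_add_cancel h.npos]
    rw [this]; exact h.r_pow_N u
  have hβα : ∀ u, β (α u) = α (β u) := by
    intro u
    rw [hβ, ← MulAut.mul_apply, ← MulAut.mul_apply, ← pow_succ, ← pow_succ']
  have hβαinv : ∀ u, β (α⁻¹ u) = α⁻¹ (β u) := by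
    intro u
    apply α.injective
    rw [← hβα, MulAut.apply_inv_self, MulAut.apply_inv_self]
  -- nontriviality
  have hnontriv : Nontrivial Q := by
    obtain ⟨u, hu⟩ := h.nt
    by_contra hs
    rw [not_nontrivial_iff_subsingleton] at hs
    exact hu (by rw [Subsingleton.elim ((α ^ (p ^ (n - 1))) u) u])
  have hnil : Group.IsNilpotent Q := hQ.isNilpotent
  have hcomm_lt : commutator Q < ⊤ := Group.IsSolvable.commutator_lt_top_of_nontrivial Q
  have hcomm_inv : ∀ u ∈ commutator Q, α u ∈ commutator Q := by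
    intro u hu
    have hchar : (commutator Q).Characteristic := by
      rw [commutator_def]; infer_instance
    exact (Subgroup.characteristic_iff_map_le.mp hchar α) ⟨u, hu, rfl⟩
  have hC : ∀ c ∈ commutator Q, r (β c) = r c := hM _ hcomm_lt.ne hcomm_inv
  -- the subgroup D
  let D : Subgroup Q :=
    { carrier := {d | r (β d) = r d}
      one_mem' := by simp
      mul_mem' := by
        intro a b ha hb
        simp only [Set.mem_ofPred_eq] at ha hb ⊢
        rw [map_mul, map_mul, map_mul, ha, hb]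
      inv_mem' := by
        intro a ha
        simp only [Set.mem_ofPred_eq] at ha ⊢
        have h1 : r (β a⁻¹) * r (β a) = 1 := by rw [← map_mul, ← map_mul, inv_mul_cancel, map_one, map_one]
        rw [ha] at h1
        apply r_cancel_right _ _ a
        rw [h1, r_inv_mul] }
  have hDmem : ∀ d, d ∈ D ↔ r (β d) = r d := fun d => Iff.rfl
  have hDinv : ∀ d ∈ D, α⁻¹ d ∈ D := by
    intro d hd
    rw [hDmem] at hd ⊢
    rw [hβαinv, r_alpha_inv h.tw Y hYX, hd, ← r_alpha_inv h.tw Y hYX]
  -- the subgroup W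
  let W : Subgroup Q :=
    { carrier := {u | ∀ d ∈ D, r d * r u = r u * r d}
      one_mem' := by intro d _; simp
      mul_mem' := by
        intro a b ha hb d hd
        rw [map_mul, ← mul_assoc, ha d hd, mul_assoc, hb d hd, mul_assoc]
      inv_mem' := by
        intro a ha d hd
        have h1 := ha d hd
        calc r d * r a⁻¹ = r a⁻¹ * (r a * r d) * r a⁻¹ := by
              rw [← mul_assoc, r_inv_mul, one_mul]
          _ = r a⁻¹ * (r d * r a) * r a⁻¹ := by rw [h1]
          _ = r a⁻¹ * r d := by rw [mul_assoc, mul_assoc, r_mul_inv, mul_one] }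
  have hWmem : ∀ u, u ∈ W ↔ ∀ d ∈ D, r d * r u = r u * r d := fun u => Iff.rfl
  have hWinv : ∀ u ∈ W, α u ∈ W := by
    intro u hu d hd
    have hd' := hDinv d hd
    have h1 := hu _ hd'
    have e : r d = X * r (α⁻¹ d) * Y := by
      rw [← r_alpha h.tw Y hXY, MulAut.apply_inv_self]
    rw [e, r_alpha h.tw Y hXY u]
    calc X * r (α⁻¹ d) * Y * (X * r u * Y) = X * r (α⁻¹ d) * (Y * X) * r u * Y := by
          simp only [mul_assoc]
      _ = X * (r (α⁻¹ d) * r u) * Y := by rw [hYX, mul_one]; simp only [mul_assoc]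
      _ = X * (r u * r (α⁻¹ d)) * Y := by rw [h1]
      _ = X * r u * (Y * X) * r (α⁻¹ d) * Y := by rw [hYX, mul_one]; simp only [mul_assoc]
      _ = X * r u * Y * (X * r (α⁻¹ d) * Y) := by simp only [mul_assoc]
  -- (b1) elements β u * u⁻¹ lie in W
  have hb1 : ∀ u, β u * u⁻¹ ∈ W := by
    intro u d hd
    have hdinv : d⁻¹ ∈ D := D.inv_mem hd
    rw [hDmem] at hd hdinv
    obtain ⟨c', hc'⟩ : ∃ c' : Q, c' = u⁻¹ * d * u * d⁻¹ := ⟨_, rfl⟩
    have hc'mem : c' ∈ commutator Q := by
      have : c' = ⁅u⁻¹, d⁆ := by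
        rw [commutatorElement_def, inv_inv, hc']
      rw [this, commutator_def]
      exact Subgroup.commutator_mem_commutator (Subgroup.mem_top _) (Subgroup.mem_top _)
    have hconj : d * u * d⁻¹ = u * c' := by rw [hc']; group
    have e1 : r (d * β u * d⁻¹) = r (β u) * r c' := by
      rw [map_mul, map_mul, ← hd, ← hdinv, ← map_mul, ← map_mul, ← map_mul, ← map_mul, hconj,
        map_mul, map_mul, hC c' hc'mem]
    have e2 : r ((d * u * d⁻¹)⁻¹) = r c'⁻¹ * r u⁻¹ := by rw [hconj, mul_inv_rev, map_mul]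
    have e3 : r (d * (β u * u⁻¹) * d⁻¹) = r (β u * u⁻¹) := by
      have : d * (β u * u⁻¹) * d⁻¹ = (d * β u * d⁻¹) * (d * u * d⁻¹)⁻¹ := by group
      rw [this, map_mul, e1, e2, mul_assoc, ← mul_assoc (r c'), ← map_mul, mul_inv_cancel,
        map_one, one_mul, map_mul]
    calc r d * r (β u * u⁻¹) = r (d * (β u * u⁻¹) * d⁻¹) * r d := by
          rw [← map_mul, ← map_mul]; congr 1; group
      _ = r (β u * u⁻¹) * r d := by rw [e3]
  -- W is everything
  have hWtop : W = ⊤ := by
    by_contra hne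
    have hMW := hM W hne hWinv
    obtain ⟨u₀, hu₀⟩ := h.nt
    apply hu₀
    -- t = r (β u₀ * u₀⁻¹)
    set t := r (β u₀ * u₀⁻¹) with ht
    have key : ∀ k : ℕ, r ((β ^ k) u₀) = t ^ k * r u₀ ∧
        r (β ((β ^ k) u₀) * ((β ^ k) u₀)⁻¹) = t := by
      intro k
      induction k with
      | zero => simp [ht]
      | succ j ih =>
        obtain ⟨ih1, ih2⟩ := ih
        set v := (β ^ j) u₀ with hv
        have hv1 : (β ^ (j + 1)) u₀ = β v := by rw [pow_succ', MulAut.mul_apply]
        constructor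
        · rw [hv1]
          have : β v = (β v * v⁻¹) * v := by group
          rw [this, map_mul, ih2, ih1, pow_succ', mul_assoc]
        · rw [hv1]
          have : β (β v) * (β v)⁻¹ = β (β v * v⁻¹) := by rw [map_mul, map_inv]
          rw [this, hMW _ (hb1 v), ih2]
    have htp : t ^ p = 1 := by
      have h1 := (key p).1
      rw [hβp] at h1
      apply r_cancel_right _ _ u₀
      rw [one_mul]; exact h1.symm
    obtain ⟨l, hl⟩ := hQ (β u₀ * u₀⁻¹)
    have htq : t ^ (q ^ l) = 1 := by rw [ht, ← map_pow, hl, map_one]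
    have hcop : Nat.Coprime p (q ^ l) := by
      apply Nat.Coprime.pow_right
      exact (Nat.coprime_primes (Fact.out : p.Prime) (Fact.out : q.Prime)).mpr hpq
    have ht1 : t = 1 := (pow_eq_one_iff_of_coprime hcop).mp ⟨htp, htq⟩
    have := (key 1).1
    rw [ht1, one_pow, one_mul, pow_one] at this
    exact this
  intro u
  have : u ∈ W := hWtop ▸ Subgroup.mem_top u
  exact this d hd

end Step4

end Cfsg.Agent.Lib.Helper66.HHThmB
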