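import Cfsg.Agent.Lib.Helper66.HHThmB2

set_option autoImplicit false
set_option linter.unusedSectionVars false

/-! Hall–Higman Theorem B: the critical step and the main induction (helper66). -/

namespace Cfsg.Agent.Lib.Helper66.HHThmB

open Module Cfsg.Agent.Lib.Helper66.HHCrit

universe u v w

section Step4b

variable {K : Type v} [Field K]
variable {p n : ℕ}
variable {Q : Type w} [Group Q] {V : Type u} [AddCommGroup V] [Module K V]
variable {r : Q →* Module.End K V} {α : MulAut Q} {X : Module.End K V}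

/-- if a proper power `X^i` commutes with `g` then so does `X^(p^(n-1))` -/
theorem commute_pow_pred [Fact p.Prime] (hXN : X ^ (p ^ n) = 1) (g : Module.End K V) (i : ℕ)
    (hi0 : 0 < i) (hiN : i < p ^ n) (hc : Commute (X ^ i) g) : Commute (X ^ (p ^ (n - 1))) g := by
  have hp : p.Prime := Fact.out
  have hg : Nat.gcd i (p ^ n) < p ^ n :=
    lt_of_le_of_lt (Nat.le_of_dvd hi0 (Nat.gcd_dvd_left _ _)) hiN
  obtain ⟨a, _, ha⟩ := Nat.exists_mul_mod_eq_gcd hg
  obtain ⟨j, hj, hjd⟩ := (Nat.dvd_prime_pow hp).mp (Nat.gcd_dvd_right i (p ^ n))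
  have hjn : j < n := by
    by_contra hcon
    push Not at hcon
    have : j = n := le_antisymm hj hcon
    rw [hjd, this] at hg
    exact lt_irrefl _ hg
  have h1 : Commute (X ^ (p ^ j)) g := by
    rw [← hjd, ← ha, ← pow_eq_pow_mod _ hXN, pow_mul]
    exact hc.pow_left a
  have h2 : p ^ (n - 1) = p ^ j * p ^ (n - 1 - j) := by
    rw [← pow_add]; congr 1; omega
  rw [h2, pow_mul]
  exact h1.pow_left _

theorem fixed_iff_commute (htw : ∀ u, X * r u = r (α u) * X) (Y : Module.End K V)
    (hXY : X * Y = 1) (hYX : Y * X = 1) (i : ℕ) (u : Q) :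
    r ((α ^ i) u) = r u ↔ Commute (X ^ i) (r u) := by
  have h1 := tw_pow htw i u
  constructor
  · intro h
    rw [h] at h1
    exact h1
  · intro h
    have h2 : r ((α ^ i) u) * X ^ i = r u * X ^ i := by rw [← h1]; exact h
    have := congrArg (· * Y ^ i) h2
    simpa [mul_assoc, XY_pow hXY hYX i] using this

end Step4b


section Step4c

variable {K : Type v} [Field K] [IsAlgClosed K]
variable {p n : ℕ} [Fact p.Prime] [CharP K p]
variable {Q : Type w} [Group Q] [Finite Q] {V : Type u} [AddCommGroup V] [Module K V]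
  [FiniteDimensional K V] [Nontrivial V]
variable {r : Q →* Module.End K V} {α : MulAut Q} {X : Module.End K V}

theorem scalar_of_fixed {q : ℕ} [Fact q.Prime] (hQ : IsPGroup q Q) (hpq : p ≠ q)
    (h : Cfg p n r α X)
    (hM : ∀ H : Subgroup Q, H ≠ ⊤ → (∀ u ∈ H, α u ∈ H) →
      ∀ u ∈ H, r ((α ^ (p ^ (n - 1))) u) = r u)
    (hcomm : ∀ φ ∈ commR r, φ ∈ Submodule.span K {(1 : Module.End K V)})
    (i : ℕ) (hi0 : 0 < i) (hiN : i < p ^ n) (u : Q) (hu : r ((α ^ i) u) = r u) :
    ∃ c : K, r u = c • (1 : Module.End K V) := by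
  have hppos : 0 < p := (Fact.out : p.Prime).pos
  have hNpos : 0 < p ^ n := pow_pos hppos n
  have hXY : X * X ^ (p ^ n - 1) = 1 := X_mul_pow_pred _ hNpos h.XN
  have hYX : X ^ (p ^ n - 1) * X = 1 := pow_pred_mul_X _ hNpos h.XN
  have h1 := (fixed_iff_commute h.tw _ hXY hYX i u).mp hu
  have h2 := commute_pow_pred h.XN (r u) i hi0 hiN h1
  have h3 := (fixed_iff_commute h.tw _ hXY hYX (p ^ (n - 1)) u).mpr h2
  have h4 := central_of_fixed hQ hpq h hM u h3
  have h5 : r u ∈ commR r := h4
  obtain ⟨c, hc⟩ := Submodule.mem_span_singleton.mp (hcomm _ h5)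
  exact ⟨c, hc.symm⟩

theorem alpha_fixed_of_scalar (h : Cfg p n r α X) (u : Q) (c : K)
    (hc : r u = c • (1 : Module.End K V)) : r (α u) = r u := by
  have hppos : 0 < p := (Fact.out : p.Prime).pos
  have hNpos : 0 < p ^ n := pow_pos hppos n
  have hXY : X * X ^ (p ^ n - 1) = 1 := X_mul_pow_pred _ hNpos h.XN
  rw [r_alpha h.tw _ hXY, hc, mul_smul_comm, mul_one, smul_mul_assoc, hXY]

theorem ker_map_eq (h : Cfg p n r α X) :
    Subgroup.map (((α : Q ≃* Q)) : Q →* Q) r.ker = r.ker := by
  have hppos : 0 < p := (Fact.out : p.Prime).pos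
  have hNpos : 0 < p ^ n := pow_pos hppos n
  have hXY : X * X ^ (p ^ n - 1) = 1 := X_mul_pow_pred _ hNpos h.XN
  have hYX : X ^ (p ^ n - 1) * X = 1 := pow_pred_mul_X _ hNpos h.XN
  ext v
  rw [Subgroup.mem_map, MonoidHom.mem_ker]
  constructor
  · rintro ⟨u, hu, rfl⟩
    rw [MonoidHom.mem_ker] at hu
    change r (α u) = 1
    rw [r_alpha h.tw _ hXY, hu, mul_one, hXY]
  · intro hv
    refine ⟨α⁻¹ v, ?_, ?_⟩
    · rw [MonoidHom.mem_ker, r_alpha_inv h.tw _ hYX, hv, mul_one, hYX]
    · change α (α⁻¹ v) = v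
      simp


/-- the induced automorphism of `Q ⧸ ker r` -/
noncomputable def quotAut (h : Cfg p n r α X) : MulAut (Q ⧸ r.ker) :=
  QuotientGroup.congr r.ker r.ker α (ker_map_eq h)

theorem quotAut_mk (h : Cfg p n r α X) (u : Q) :
    quotAut h (QuotientGroup.mk u) = QuotientGroup.mk (α u) := rfl

theorem quotAut_pow_mk (h : Cfg p n r α X) (i : ℕ) (u : Q) :
    ((quotAut h) ^ i) (QuotientGroup.mk u) = QuotientGroup.mk ((α ^ i) u) := by
  induction i generalizing u with
  | zero => simp
  | succ k ih =>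
    rw [pow_succ, MulAut.mul_apply, quotAut_mk, ih, pow_succ, MulAut.mul_apply]

theorem kerLift_eq_iff (u v : Q) :
    (QuotientGroup.mk u : Q ⧸ r.ker) = QuotientGroup.mk v ↔ r u = r v := by
  rw [QuotientGroup.eq, MonoidHom.mem_ker, map_mul]
  constructor
  · intro h
    calc r u = r u * (r u⁻¹ * r v) := by rw [h, mul_one]
      _ = r v := by rw [← mul_assoc, r_mul_inv, one_mul]
  · intro h
    rw [← h, r_inv_mul]

theorem step4 {q : ℕ} [Fact q.Prime] (hQ : IsPGroup q Q) (hpq : p ≠ q)
    (h : Cfg p n r α X)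
    (hM : ∀ H : Subgroup Q, H ≠ ⊤ → (∀ u ∈ H, α u ∈ H) →
      ∀ u ∈ H, r ((α ^ (p ^ (n - 1))) u) = r u)
    (hcomm : ∀ φ ∈ commR r, φ ∈ Submodule.span K {(1 : Module.End K V)}) :
    Concl p q n r X := by
  classical
  have hp : p.Prime := Fact.out
  have hq : q.Prime := Fact.out
  have hppos : 0 < p := hp.pos
  have hNpos : 0 < p ^ n := pow_pos hppos n
  have hN1 : 1 < p ^ n := Nat.one_lt_pow (by have := h.npos; omega) hp.one_lt
  have hXY : X * X ^ (p ^ n - 1) = 1 := X_mul_pow_pred _ hNpos h.XN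
  have hYX : X ^ (p ^ n - 1) * X = 1 := pow_pred_mul_X _ hNpos h.XN
  have hqK : (q : K) ≠ 0 := by
    intro h0
    have := (CharP.cast_eq_zero_iff K p q).mp h0
    exact hpq ((Nat.prime_dvd_prime_iff_eq hp hq).mp this)
  set r' : Q ⧸ r.ker →* Module.End K V := QuotientGroup.lift r.ker r le_rfl with hr'
  have hr'mk : ∀ u : Q, r' (QuotientGroup.mk u) = r u := fun u => QuotientGroup.lift_mk' _ _ u
  have : Fintype (Q ⧸ r.ker) := Fintype.ofFinite _
  have hQ' : IsPGroup q (Q ⧸ r.ker) := hQ.to_quotient r.ker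
  have hcardK : (Fintype.card (Q ⧸ r.ker) : K) ≠ 0 := by
    obtain ⟨k, hk⟩ := IsPGroup.iff_card.mp hQ'
    rw [← Nat.card_eq_fintype_card, hk, Nat.cast_pow]
    exact pow_ne_zero _ hqK
  have hcomm' : ∀ φ ∈ commR r', φ ∈ Submodule.span K {(1 : Module.End K V)} := by
    intro φ hφ
    apply hcomm
    intro u
    have := hφ (QuotientGroup.mk u)
    rwa [hr'mk] at this
  have hirr' : Irr r' := irr_of_commR hcardK hcomm'
  have htw' : Twist r' (quotAut h) X (X ^ (p ^ n - 1)) (p ^ n) := by
    refine ⟨hXY, hYX, ?_, hNpos, ?_, ?_, ?_⟩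
    · intro u'
      induction u' using QuotientGroup.induction_on with
      | H u => rw [quotAut_mk, hr'mk, hr'mk]; exact h.tw u
    · ext u'
      induction u' using QuotientGroup.induction_on with
      | H u =>
        rw [quotAut_pow_mk, MulAut.one_apply, kerLift_eq_iff]
        exact h.r_pow_N u
    · intro i hi0 hiN u'
      induction u' using QuotientGroup.induction_on with
      | H u =>
        rw [quotAut_pow_mk, quotAut_mk, kerLift_eq_iff, kerLift_eq_iff]
        intro hu
        obtain ⟨c, hc⟩ := scalar_of_fixed hQ hpq h hM hcomm i hi0 hiN u hu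
        exact alpha_fixed_of_scalar h u c hc
    · intro u'
      induction u' using QuotientGroup.induction_on with
      | H u =>
        rw [quotAut_mk, kerLift_eq_iff, hr'mk]
        intro hu
        have hu' : r ((α ^ 1) u) = r u := by rw [pow_one]; exact hu
        exact scalar_of_fixed hQ hpq h hM hcomm 1 one_pos hN1 u hu'
  -- X ≠ 1
  have hfix_all : (∀ u, r (α u) = r u) → False := by
    intro hall
    obtain ⟨u₀, hu₀⟩ := h.nt
    apply hu₀
    have : ∀ k : ℕ, ∀ u, r ((α ^ k) u) = r u := by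
      intro k
      induction k with
      | zero => intro u; simp
      | succ j ih =>
        intro u
        rw [pow_succ', MulAut.mul_apply, hall, ih]
    exact this _ u₀
  have hX1 : X ≠ 1 := by
    intro hX
    apply hfix_all
    intro u
    have := h.tw u
    rw [hX, one_mul, mul_one] at this
    exact this.symm
  have hnc : ∃ u v : Q, r u * r v ≠ r v * r u := by
    by_contra hcon
    push Not at hcon
    apply hfix_all
    intro u
    have h5 : r u ∈ commR r := fun v => hcon u v
    obtain ⟨c, hc⟩ := Submodule.mem_span_singleton.mp (hcomm _ h5)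
    exact alpha_fixed_of_scalar h u c hc.symm
  have hex : ∃ s : ℕ, (X - 1) ^ s = 0 := ⟨p ^ n, by rw [alg_sub_one_pow K X n, h.XN, sub_self]⟩
  have hs := Nat.find_spec hex
  have hmin : ∀ k < Nat.find hex, (X - 1) ^ k ≠ 0 := fun k hk => Nat.find_min hex hk
  obtain ⟨c1, c2, c3⟩ := crit_abstract htw' rfl hirr' hcardK h.XN (Nat.find hex) hs hmin
  intro t ht
  have hst : Nat.find hex ≤ t := Nat.find_min' hex ht
  have c2' : p ^ n ≤ Nat.find hex + 1 := c2.resolve_left hX1
  rcases Nat.lt_or_ge (Nat.find hex) (p ^ n) with hlt | hge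
  · right
    have hs1 : Nat.find hex + 1 = p ^ n := by omega
    have hfr := c3 hs1 hX1
    obtain ⟨j, hj⟩ := qpow_finrank r' hQ' hirr'
    have hj1 : 1 ≤ j := by
      by_contra hj0
      push Not at hj0
      have : j = 0 := by omega
      rw [this, pow_zero] at hj
      rw [hj] at hfr
      rw [← hfr, pow_one] at hs
      exact hX1 (sub_eq_zero.mp hs)
    refine ⟨n, j, h.npos, le_rfl, hj1, ?_, hnc, ?_⟩
    · rw [← hj, hfr]; omega
    · rw [Nat.sub_self, pow_zero, one_mul]; omega
  · left
    omega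

end Step4c


section MainInd

variable {K : Type v} [Field K] [IsAlgClosed K]
variable {p q : ℕ} [Fact p.Prime] [Fact q.Prime] [CharP K p]

theorem thmB_aux (hpq : p ≠ q) (m : ℕ) :
    ∀ (n : ℕ) (Q : Type w) [Group Q] [Finite Q] (V : Type u) [AddCommGroup V] [Module K V]
      [FiniteDimensional K V] [Nontrivial V] (r : Q →* Module.End K V) (α : MulAut Q)
      (X : Module.End K V), IsPGroup q Q → Nat.card Q + finrank K V ≤ m → Cfg p n r α X →
      Concl p q n r X := by
  have hp : p.Prime := Fact.out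
  have hq : q.Prime := Fact.out
  have hqK : (q : K) ≠ 0 := by
    intro h0
    have := (CharP.cast_eq_zero_iff K p q).mp h0
    exact hpq ((Nat.prime_dvd_prime_iff_eq hp hq).mp this)
  induction m with
  | zero =>
    intro n Q _ _ V _ _ _ _ r α X _ hm _
    have := Nat.card_pos (α := Q)
    omega
  | succ m ih =>
    intro n Q _ _ V _ _ _ _ r α X hQ hm h
    by_cases hirr : IrrX r X
    · by_cases hmin : ∀ H : Subgroup Q, H ≠ ⊤ → (∀ u ∈ H, α u ∈ H) →
          ∀ u ∈ H, r ((α ^ (p ^ (n - 1))) u) = r u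
      · by_cases hcomm : ∀ φ ∈ commR r, φ ∈ Submodule.span K {(1 : Module.End K V)}
        · exact step4 hQ hpq h hmin hcomm
        · push Not at hcomm
          apply step3 h hirr hcomm
          intro W hWr hWX hWtop hn2 hcfg
          have hntW : Nontrivial W := by
            by_contra hsub
            rw [not_nontrivial_iff_subsingleton] at hsub
            obtain ⟨u, hu⟩ := hcfg.nt
            apply hu
            ext w
            exact congrArg Subtype.val (Subsingleton.elim _ _)
          refine ih (n - 1) Q W (subRep r W hWr) (α ^ p) ((X ^ p).restrict hWX) hQ ?_ hcfg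
          have := Submodule.finrank_lt hWtop
          omega
      · push Not at hmin
        obtain ⟨H, hHtop, hHinv, u, huH, hne⟩ := hmin
        apply Concl.of_subgroup H
        refine ih n H V (r.comp H.subtype) (restrictAut α H hHinv) X (hQ.to_subgroup H) ?_
          (h.subgroup H hHinv ⟨u, huH, hne⟩)
        have h1 : Nat.card H ≤ Nat.card Q := Subgroup.card_le_card_group H
        have h2 : Nat.card H ≠ Nat.card Q := fun he => hHtop (Subgroup.eq_top_of_card_eq H he)
        omega
    · unfold IrrX at hirr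
      push Not at hirr
      obtain ⟨W, hWr, hWX, hbot, htop⟩ := hirr
      have hf1 := Submodule.finrank_lt htop
      have hf2 := W.finrank_quotient_add_finrank
      have hntW : Nontrivial W := Submodule.nontrivial_iff_ne_bot.mpr hbot
      have hf3 : 0 < finrank K W := Module.finrank_pos
      rcases sub_or_quot_nt hQ hqK h W hWr with hnt | hnt
      · apply Concl.of_sub W hWr hWX
        refine ih n Q W _ α _ hQ ?_ (h.sub W hWr hWX hnt)
        omega
      · apply Concl.of_quot W hWr hWX
        have hntQ : Nontrivial (V ⧸ W) := Submodule.Quotient.nontrivial_iff.mpr htop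
        refine ih n Q (V ⧸ W) _ α _ hQ ?_ (h.quot W hWr hWX hnt)
        omega

/-- **Hall–Higman Theorem B**, abstract form. -/
theorem thmB (hpq : p ≠ q) {n : ℕ} {Q : Type w} [Group Q] [Finite Q] {V : Type u}
    [AddCommGroup V] [Module K V] [FiniteDimensional K V] [Nontrivial V]
    {r : Q →* Module.End K V} {α : MulAut Q} {X : Module.End K V} (hQ : IsPGroup q Q)
    (h : Cfg p n r α X) : Concl p q n r X :=
  thmB_aux hpq _ n Q V r α X hQ le_rfl h

end MainInd

end Cfsg.Agent.Lib.Helper66.HHThmB
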