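import Mathlib

set_option autoImplicit false

namespace Cfsg.Agent.Lib.Helper66

/-- If `y x = x y c` with `c` commuting with `x` and `y`, then `y^k x = x y^k c^k`. -/
theorem pow_mul_eq_of_central {G : Type*} [Group G] (x y c : G) (hcy : Commute c y)
    (h : y * x = x * y * c) : ∀ k : ℕ, y ^ k * x = x * y ^ k * c ^ k := by
  intro k
  induction k with
  | zero => simp
  | succ k ih =>
    have hcy' : Commute (c ^ k) y := hcy.pow_left k
    calc y ^ (k + 1) * x = y ^ k * (y * x) := by rw [pow_succ, mul_assoc]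
      _ = y ^ k * x * y * c := by rw [h]; simp only [mul_assoc]
      _ = x * y ^ k * c ^ k * y * c := by rw [ih]
      _ = x * y ^ k * (c ^ k * y) * c := by simp only [mul_assoc]
      _ = x * y ^ k * (y * c ^ k) * c := by rw [hcy'.eq]
      _ = x * y ^ (k + 1) * c ^ (k + 1) := by rw [pow_succ, pow_succ]; simp only [mul_assoc]

/-- Power formula in class two: `(x y)^n = x^n y^n c^(0+1+...+(n-1))`. -/
theorem mul_pow_of_central {G : Type*} [Group G] (x y c : G) (hcx : Commute c x) (hcy : Commute c y)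
    (h : y * x = x * y * c) :
    ∀ n : ℕ, (x * y) ^ n = x ^ n * y ^ n * c ^ (∑ i ∈ Finset.range n, i) := by
  intro n
  induction n with
  | zero => simp
  | succ n ih =>
    have h1 := pow_mul_eq_of_central x y c hcy h n
    have hcy' : Commute (c ^ n) y := hcy.pow_left n
    have hcT : ∀ j : ℕ, Commute (c ^ j) x := fun j => hcx.pow_left j
    have hcTy : ∀ j : ℕ, Commute (c ^ j) y := fun j => hcy.pow_left j
    set T := ∑ i ∈ Finset.range n, i with hT
    calc (x * y) ^ (n + 1) = (x * y) ^ n * (x * y) := pow_succ _ _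
      _ = x ^ n * y ^ n * c ^ T * (x * y) := by rw [ih]
      _ = x ^ n * y ^ n * (c ^ T * x) * y := by simp only [mul_assoc]
      _ = x ^ n * y ^ n * (x * c ^ T) * y := by rw [(hcT T).eq]
      _ = x ^ n * (y ^ n * x) * (c ^ T * y) := by simp only [mul_assoc]
      _ = x ^ n * (x * y ^ n * c ^ n) * (y * c ^ T) := by rw [h1, (hcTy T).eq]
      _ = x ^ n * x * y ^ n * (c ^ n * y) * c ^ T := by simp only [mul_assoc]
      _ = x ^ n * x * y ^ n * (y * c ^ n) * c ^ T := by rw [(hcTy n).eq]
      _ = x ^ (n + 1) * y ^ (n + 1) * (c ^ n * c ^ T) := by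
          rw [pow_succ, pow_succ]; simp only [mul_assoc]
      _ = x ^ (n + 1) * y ^ (n + 1) * c ^ (∑ i ∈ Finset.range (n + 1), i) := by
          rw [Finset.sum_range_succ, ← pow_add, add_comm n T]

theorem prime_dvd_triangle (p s : ℕ) (hp : p.Prime) (hs : 1 ≤ s) (h2 : p ≠ 2 ∨ 2 ≤ s) :
    p ∣ ∑ i ∈ Finset.range (p ^ s), i := by
  have h := Finset.sum_range_id_mul_two (p ^ s)
  rcases h2 with h2 | h2
  · have hcop : Nat.Coprime p 2 := (Nat.coprime_primes hp Nat.prime_two).mpr h2
    apply hcop.dvd_of_dvd_mul_right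
    rw [h]
    exact (dvd_pow_self p (by omega)).mul_right _
  · by_cases hp2 : p = 2
    · subst hp2
      have h4 : 2 * 2 ∣ (∑ i ∈ Finset.range (2 ^ s), i) * 2 := by
        rw [h]
        have : (2 : ℕ) * 2 = 2 ^ 2 := by norm_num
        rw [this]
        exact (pow_dvd_pow 2 h2).mul_right _
      exact Nat.dvd_of_mul_dvd_mul_right (by norm_num) h4
    · have hcop : Nat.Coprime p 2 := (Nat.coprime_primes hp Nat.prime_two).mpr hp2
      apply hcop.dvd_of_dvd_mul_right
      rw [h]
      exact (dvd_pow_self p (by omega)).mul_right _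



theorem core_contradiction {G : Type*} [Group G] [Finite G] (p s : ℕ) (hp : p.Prime) (hs : 1 ≤ s)
    (h2 : p ≠ 2 ∨ 2 ≤ s) (hG : IsPGroup p G)
    (A A' H' : Subgroup G) [hAn : A.Normal] [hA'n : A'.Normal]
    (hAi : A.index = p) (hA'i : A'.index = p) (hAc : IsCyclic A) (hA'c : IsCyclic A')
    (hne : ¬ A' ≤ A) (hH'A : H' ≤ A) (hH' : ∀ x : G, x ^ (p ^ s) = 1 → x ∈ H') : False := by
  have hp' : Fact p.Prime := ⟨hp⟩
  have hne' : ¬ A ≤ A' := by
    intro h
    have h0 := Subgroup.relIndex_mul_index h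
    rw [hAi, hA'i] at h0
    have h1 : A.relIndex A' = 1 := by
      have : A.relIndex A' * p = 1 * p := by rw [h0, one_mul]
      exact Nat.eq_of_mul_eq_mul_right hp.pos this
    exact hne (Subgroup.relIndex_eq_one.mp h1)
  have hsup : A ⊔ A' = ⊤ := by
    have hle : A ≤ A ⊔ A' := le_sup_left
    have h0 := Subgroup.relIndex_mul_index hle
    rw [hAi] at h0
    have hdvd : (A ⊔ A').index ∣ p := Dvd.intro_left _ h0
    rcases (Nat.dvd_prime hp).mp hdvd with h1 | h1
    · exact Subgroup.index_eq_one.mp h1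
    · exfalso
      rw [h1] at h0
      have h3 : A.relIndex (A ⊔ A') = 1 := by
        have : A.relIndex (A ⊔ A') * p = 1 * p := by rw [h0, one_mul]
        exact Nat.eq_of_mul_eq_mul_right hp.pos this
      exact hne (le_sup_right.trans (Subgroup.relIndex_eq_one.mp h3))
  have hDc : ∀ d, d ∈ A → d ∈ A' → ∀ g : G, g * d = d * g := by
    intro d hdA hdA' g
    have hle : A ⊔ A' ≤ Subgroup.centralizer {d} := by
      apply sup_le
      · intro a ha
        rw [Subgroup.mem_centralizer_singleton_iff]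
        have := (IsMulCommutative.is_comm (M := A)).comm ⟨a, ha⟩ ⟨d, hdA⟩
        exact congrArg Subtype.val this
      · intro a ha
        rw [Subgroup.mem_centralizer_singleton_iff]
        have := (IsMulCommutative.is_comm (M := A')).comm ⟨a, ha⟩ ⟨d, hdA'⟩
        exact congrArg Subtype.val this
    have : g ∈ Subgroup.centralizer {d} := hle (hsup ▸ Subgroup.mem_top g)
    exact Subgroup.mem_centralizer_singleton_iff.mp this
  have hpowA : ∀ x : G, x ^ p ∈ A := fun x => hAi ▸ A.pow_index_mem x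
  have hpowA' : ∀ x : G, x ^ p ∈ A' := fun x => hA'i ▸ A'.pow_index_mem x
  have hQc : ∀ (B : Subgroup G) [B.Normal], B.index = p → ∀ x y : G, y⁻¹ * x⁻¹ * y * x ∈ B := by
    intro B _ hBi x y
    have hcard : Nat.card (G ⧸ B) = p := by rw [← Subgroup.index_eq_card]; exact hBi
    have : IsCyclic (G ⧸ B) := isCyclic_of_prime_card hcard
    rw [← QuotientGroup.eq_one_iff]
    simp only [QuotientGroup.mk_mul, QuotientGroup.mk_inv]
    have hcomm := (IsMulCommutative.is_comm (M := G ⧸ B)).comm (x : G ⧸ B) (y : G ⧸ B)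
    rw [mul_assoc, ← hcomm]
    group
  have hmulpow : ∀ x y : G, (x * y) ^ (p ^ s) = x ^ (p ^ s) * y ^ (p ^ s) := by
    intro x y
    set c := y⁻¹ * x⁻¹ * y * x with hc
    have hcA := hQc A hAi x y
    have hcA' := hQc A' hA'i x y
    have hcc : ∀ g, g * c = c * g := hDc c hcA hcA'
    have h : y * x = x * y * c := by rw [hc]; group
    have hcx : Commute c x := (hcc x).symm
    have hcy : Commute c y := (hcc y).symm
    have hcp : c ^ p = 1 := by
      have h1 := pow_mul_eq_of_central x y c hcy h p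
      have h3 : x * y ^ p = y ^ p * x := hDc (y ^ p) (hpowA y) (hpowA' y) x
      rw [← h3] at h1
      exact (mul_eq_left.mp h1.symm)
    rw [mul_pow_of_central x y c hcx hcy h (p ^ s)]
    obtain ⟨k, hk⟩ := prime_dvd_triangle p s hp hs h2
    rw [hk, pow_mul, hcp, one_pow, mul_one]
  obtain ⟨⟨a, haA⟩, ha⟩ := hAc.exists_generator
  have ha' : ∀ x ∈ A, ∃ j : ℤ, a ^ j = x := by
    intro x hx
    obtain ⟨j, hj⟩ := ha ⟨x, hx⟩
    refine ⟨j, ?_⟩
    have := congrArg Subtype.val hj
    simpa using this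
  have hDpow : ∀ d, d ∈ A → d ∈ A' → ∃ a' ∈ A, d = a' ^ p := by
    intro d hdA hdA'
    obtain ⟨j, hj'⟩ := ha' d hdA
    by_cases hpj : (p : ℤ) ∣ j
    · obtain ⟨l, rfl⟩ := hpj
      refine ⟨a ^ l, A.zpow_mem haA l, ?_⟩
      rw [← hj', mul_comm, zpow_mul, zpow_natCast]
    · exfalso
      obtain ⟨k, hk⟩ := hG a
      have hcop : IsCoprime j ((p : ℤ) ^ k) := by
        apply IsCoprime.pow_right
        exact ((Nat.prime_iff_prime_int.mp hp).irreducible.coprime_iff_not_dvd.mpr hpj).symm
      obtain ⟨u, v, huv⟩ := hcop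
      have hau : a = d ^ u := by
        calc a = a ^ (1 : ℤ) := (zpow_one a).symm
          _ = a ^ (u * j + v * (p : ℤ) ^ k) := by rw [huv]
          _ = (a ^ j) ^ u * (a ^ ((p : ℤ) ^ k)) ^ v := by
              rw [zpow_add, mul_comm u j, zpow_mul, mul_comm v _, zpow_mul]
          _ = d ^ u := by
              rw [hj']
              have : a ^ ((p : ℤ) ^ k) = 1 := by
                have : ((p : ℤ) ^ k) = ((p ^ k : ℕ) : ℤ) := by push_cast; rfl
                rw [this, zpow_natCast, hk]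
              rw [this, one_zpow, mul_one]
      have haA' : a ∈ A' := hau ▸ A'.zpow_mem hdA' u
      apply hne'
      intro x hx
      obtain ⟨i, hi⟩ := ha' x hx
      rw [← hi]; exact A'.zpow_mem haA' i
  have hAtop : ∀ x : G, x ∈ A := by
    intro x
    obtain ⟨a', ha'A, ha'e⟩ := hDpow (x ^ p) (hpowA x) (hpowA' x)
    have hq : x ^ (p ^ s) = a' ^ (p ^ s) := by
      obtain ⟨s', rfl⟩ : ∃ s', s = s' + 1 := ⟨s - 1, by omega⟩
      rw [pow_succ', pow_mul, pow_mul, ha'e]
    have h1 : (x * a'⁻¹) ^ (p ^ s) = 1 := by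
      rw [hmulpow, inv_pow, hq, mul_inv_cancel]
    have h3 : x * a'⁻¹ ∈ A := hH'A (hH' _ h1)
    have : x = x * a'⁻¹ * a' := by group
    rw [this]; exact A.mul_mem h3 ha'A
  have : A = ⊤ := eq_top_iff.mpr (fun x _ => hAtop x)
  rw [this, Subgroup.index_top] at hAi
  exact hp.one_lt.ne hAi



universe u

theorem unique_sub_cyclic (p : ℕ) (hp : p.Prime) : ∀ (m : ℕ) (G : Type u) [Group G] [Finite G] (s : ℕ),
    Nat.card G = p ^ m → 1 ≤ s → s < m → (p ≠ 2 ∨ 2 ≤ s) →
    (∀ H K : Subgroup G, Nat.card H = p ^ s → Nat.card K = p ^ s → H = K) → IsCyclic G := by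
  intro m
  induction m using Nat.strong_induction_on with
  | _ m ih =>
  intro G _ _ s hG hs hsm h2 huniq
  have hp' : Fact p.Prime := ⟨hp⟩
  have hGp : IsPGroup p G := IsPGroup.of_card hG
  by_contra hnc
  have hdvds : p ^ s ∣ Nat.card G := hG ▸ pow_dvd_pow p hsm.le
  have hdvdm : p ^ (m - 1) ∣ Nat.card G := hG ▸ pow_dvd_pow p (Nat.sub_le m 1)
  obtain ⟨H', hH'⟩ := Sylow.exists_subgroup_card_pow_prime p hdvds
  have F1 : ∀ (K : Subgroup G) (j : ℕ), Nat.card K = p ^ j → j ≤ s → K ≤ H' := by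
    intro K j hK hj
    obtain ⟨K', hK', hKK'⟩ := Sylow.exists_subgroup_card_pow_prime_le p hdvds K hK hj
    rw [huniq K' H' hK' hH'] at hKK'
    exact hKK'
  have F1' : ∀ x : G, x ^ (p ^ s) = 1 → x ∈ H' := by
    intro x hx
    have h1 : orderOf x ∣ p ^ s := orderOf_dvd_of_pow_eq_one hx
    obtain ⟨j, hj, hjo⟩ := (Nat.dvd_prime_pow hp).mp h1
    have : Nat.card (Subgroup.zpowers x) = p ^ j := by rw [Nat.card_zpowers, hjo]
    exact F1 _ j this hj (Subgroup.mem_zpowers x)
  have F3 : ∀ x : G, ∃ A : Subgroup G, Nat.card A = p ^ (m - 1) ∧ x ∈ A := by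
    intro x
    have h1 : orderOf x ∣ p ^ m := hG ▸ orderOf_dvd_natCard x
    obtain ⟨j, hj, hjo⟩ := (Nat.dvd_prime_pow hp).mp h1
    have hcard : Nat.card (Subgroup.zpowers x) = p ^ j := by rw [Nat.card_zpowers, hjo]
    have hjm : j ≠ m := by
      rintro rfl
      apply hnc
      have : Subgroup.zpowers x = ⊤ := Subgroup.eq_top_of_card_eq _ (hcard.trans hG.symm)
      exact ⟨x, fun g => by
        have hg : g ∈ Subgroup.zpowers x := by rw [this]; exact Subgroup.mem_top g
        exact hg⟩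
    obtain ⟨A, hA, hxA⟩ := Sylow.exists_subgroup_card_pow_prime_le p hdvdm
      (Subgroup.zpowers x) hcard (by omega)
    exact ⟨A, hA, hxA (Subgroup.mem_zpowers x)⟩
  by_cases hsm1 : s = m - 1
  · have htop : H' = ⊤ := eq_top_iff.mpr (fun x _ => by
      obtain ⟨A, hA, hxA⟩ := F3 x
      rw [← hsm1] at hA
      rw [← huniq A H' hA hH']
      exact hxA)
    have h := hH'
    rw [htop, Subgroup.card_top, hG] at h
    exact absurd (Nat.pow_right_injective hp.two_le h) (by omega)
  · have hsm' : s < m - 1 := by omega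
    have F4 : ∀ A : Subgroup G, Nat.card A = p ^ (m - 1) →
        IsCyclic A ∧ A.index = p ∧ A.Normal ∧ H' ≤ A := by
      intro A hA
      have hAi : A.index = p := by
        have h0 := A.card_mul_index
        rw [hA, hG] at h0
        have hm : p ^ m = p ^ (m - 1) * p := by
          rw [← pow_succ]; congr 1; omega
        rw [hm] at h0
        exact Nat.eq_of_mul_eq_mul_left (pow_pos hp.pos _) h0
      have hAn : A.Normal := by
        apply Subgroup.normal_of_index_eq_minFac_card
        rw [hAi, hG, Nat.Prime.pow_minFac hp (by omega)]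
      have hHA : H' ≤ A := by
        obtain ⟨K, hK⟩ := Sylow.exists_subgroup_card_pow_prime p (G := A) (n := s)
          (hA ▸ pow_dvd_pow p hsm'.le)
        have hK' : Nat.card (K.map A.subtype) = p ^ s := by
          rw [Subgroup.card_map_of_injective A.subtype_injective]; exact hK
        rw [← huniq _ H' hK' hH']
        exact Subgroup.map_subtype_le K
      refine ⟨?_, hAi, hAn, hHA⟩
      apply ih (m - 1) (by omega) A s hA hs hsm' h2
      intro K1 K2 hK1 hK2
      have e1 : Nat.card (K1.map A.subtype) = p ^ s := by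
        rw [Subgroup.card_map_of_injective A.subtype_injective]; exact hK1
      have e2 : Nat.card (K2.map A.subtype) = p ^ s := by
        rw [Subgroup.card_map_of_injective A.subtype_injective]; exact hK2
      exact Subgroup.map_injective A.subtype_injective (huniq _ _ e1 e2)
    obtain ⟨A, hA, -⟩ := F3 1
    obtain ⟨hAc, hAi, hAn, hHA⟩ := F4 A hA
    have hex : ∃ y, y ∉ A := by
      by_contra hall
      have : A = ⊤ := eq_top_iff.mpr (fun x _ => by
        by_contra hx
        exact hall ⟨x, hx⟩)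
      rw [this, Subgroup.index_top] at hAi
      exact hp.one_lt.ne hAi
    obtain ⟨y, hy⟩ := hex
    obtain ⟨A', hA', hyA'⟩ := F3 y
    obtain ⟨hA'c, hA'i, hA'n, -⟩ := F4 A' hA'
    exact core_contradiction p s hp hs h2 hGp A A' H' hAi hA'i hAc hA'c (fun h => hy (h hyA')) hHA F1'


end Cfsg.Agent.Lib.Helper66
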