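import Mathlib
import Cfsg.Agent.Lib.Helper29.CyclicMax
import Cfsg.Agent.Lib.Helper70.Kulakoff3
import Cfsg.Agent.Lib.Helper66.UniqueSub
import Cfsg.Agent.Lib.Helper66.Orbits

set_option autoImplicit false
set_option linter.unusedSectionVars false
set_option linter.style.haveILetI false

/-!
Miller's theorem: in a non-cyclic finite `p`-group, `p` odd, the number of cyclic subgroups of
order `p ^ s`, `s ≥ 2`, is divisible by `p`.
-/

namespace Cfsg.Agent.Lib.Helper66.Miller

open Cfsg.Agent.Lib.Helper70 Cfsg.Agent.Lib.Helper29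

universe u

/-- the number of cyclic subgroups of order `m` -/
noncomputable def cyc (H : Type*) [Group H] (m : ℕ) : ℕ :=
  Nat.card {X : Subgroup H // IsCyclic X ∧ Nat.card X = m}

/-- cyclic subgroups of `G` inside `K` versus cyclic subgroups of `K` -/
theorem cyc_le_eq {G : Type*} [Group G] (K : Subgroup G) (m : ℕ) :
    Nat.card {X : Subgroup G // (IsCyclic X ∧ Nat.card X = m) ∧ X ≤ K} = cyc K m := by
  unfold cyc
  apply Nat.card_congr
  refine ⟨fun X => ⟨X.1.subgroupOf K, ?_⟩, fun X' => ⟨X'.1.map K.subtype, ?_, ?_⟩, ?_, ?_⟩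
  · obtain ⟨X, ⟨hc, hm⟩, hle⟩ := X
    have e : (X.subgroupOf K) ≃* X := Subgroup.subgroupOfEquivOfLe hle
    refine ⟨?_, ?_⟩
    · haveI := hc
      exact isCyclic_of_surjective e.symm e.symm.surjective
    · rw [Nat.card_congr e.toEquiv, hm]
  · obtain ⟨X', hc, hm⟩ := X'
    have e : X' ≃* (X'.map K.subtype) := X'.equivMapOfInjective K.subtype K.subtype_injective
    refine ⟨?_, ?_⟩
    · haveI := hc
      exact isCyclic_of_surjective e e.surjective
    · rw [← Nat.card_congr e.toEquiv, hm]
  · exact Subgroup.map_subtype_le _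
  · intro X
    apply Subtype.ext
    simp only
    rw [Subgroup.subgroupOf, Subgroup.map_comap_eq, Subgroup.range_subtype]
    exact inf_eq_right.mpr X.2.2
  · intro X'
    apply Subtype.ext
    simp only
    rw [Subgroup.subgroupOf, Subgroup.comap_map_eq_self_of_injective K.subtype_injective]

variable {p : ℕ} [hp : Fact p.Prime]

/-- in a cyclic `p`-group there is exactly one (cyclic) subgroup of each possible order -/
theorem cyc_of_cyclic {P : Type*} [Group P] [Finite P] [IsCyclic P] {n a : ℕ}
    (hP : Nat.card P = p ^ n) (ha : a ≤ n) : cyc P (p ^ a) = 1 := by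
  unfold cyc
  have h1 := kk_cyclic_count (P := P) (p := p) hP ha
  rw [← h1]
  apply Nat.card_congr
  refine ⟨fun X => ⟨X.1, X.2.2⟩, fun X => ⟨X.1, ?_, X.2⟩, ?_, ?_⟩
  · infer_instance
  · intro X; rfl
  · intro X; rfl

/-- in a `p`-group of order `p ^ n`, `n ≥ 3`, `p` odd, whose elements of order dividing `p` form a
subgroup `W` of order `p²`, a subgroup of index `p` is cyclic iff it does not contain `W` -/
theorem cyclic_iff_not_le {P : Type u} [Group P] [Finite P] (hodd : p ≠ 2) {n : ℕ}
    (hn : Nat.card P = p ^ n) (hn3 : 3 ≤ n) (W : Subgroup P) (hW : ∀ x, x ∈ W ↔ x ^ p = 1)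
    (hWc : Nat.card W = p ^ 2) (M : Subgroup P) (hM : M.index = p) :
    IsCyclic M ↔ ¬ W ≤ M := by
  classical
  have hpp : p.Prime := hp.out
  constructor
  · intro hc hle
    haveI := hc
    haveI := Fintype.ofFinite ↥M
    have h1 := IsCyclic.card_pow_eq_one_le (α := ↥M) (n := p) hpp.pos
    have h2 : p ^ 2 ≤ (Finset.univ.filter (fun a : ↥M => a ^ p = 1)).card := by
      rw [← hWc, Nat.card_congr (Subgroup.subgroupOfEquivOfLe hle).symm.toEquiv,
        Nat.card_eq_fintype_card, Fintype.card_subtype]
      apply Finset.card_le_card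
      intro a ha
      simp only [Finset.mem_filter, Finset.mem_univ, true_and] at ha ⊢
      have := (hW _).mp (Subgroup.mem_subgroupOf.mp ha)
      apply Subtype.ext
      simpa using this
    have h3 : p ^ 2 ≤ p := le_trans h2 h1
    have : p < p ^ 2 := by
      have := hpp.two_le
      nlinarith
    omega
  · intro hle
    have hcardM : Nat.card M = p ^ (n - 1) := by
      have h := M.card_mul_index
      rw [hM, hn] at h
      have h2 : p ^ n = p ^ (n - 1) * p := by
        rw [← pow_succ]; congr 1; omega
      rw [h2] at h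
      exact Nat.eq_of_mul_eq_mul_right hpp.pos h
    have hWM : Nat.card (W.subgroupOf M) ≤ p := by
      have e1 : W.subgroupOf M = (W ⊓ M).subgroupOf M := (Subgroup.inf_subgroupOf_right W M).symm
      rw [e1, Nat.card_congr (Subgroup.subgroupOfEquivOfLe (inf_le_right : W ⊓ M ≤ M)).toEquiv]
      have hd : Nat.card (W ⊓ M : Subgroup P) ∣ p ^ 2 := by
        rw [← hWc]; exact Subgroup.card_dvd_of_le inf_le_left
      have hne : Nat.card (W ⊓ M : Subgroup P) ≠ p ^ 2 := by
        intro he
        apply hle
        have : W ⊓ M = W := Subgroup.eq_of_le_of_card_ge inf_le_left (by rw [he, hWc])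
        rw [← this]; exact inf_le_right
      obtain ⟨k, hk, hk2⟩ := (Nat.dvd_prime_pow hpp).mp hd
      have hk1 : k ≤ 1 := by
        rcases Nat.lt_or_ge k 2 with h | h
        · omega
        · exfalso; apply hne; rw [hk2]; congr 1; omega
      rw [hk2]
      calc p ^ k ≤ p ^ 1 := Nat.pow_le_pow_right hpp.pos hk1
        _ = p := pow_one p
    have huniq : ∀ H K : Subgroup ↥M, Nat.card H = p ^ 1 → Nat.card K = p ^ 1 → H = K := by
      have key : ∀ H : Subgroup ↥M, Nat.card H = p ^ 1 → H = W.subgroupOf M := by
        intro H hH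
        rw [pow_one] at hH
        apply Subgroup.eq_of_le_of_card_ge
        · intro x hx
          rw [Subgroup.mem_subgroupOf, hW]
          have h1 : (⟨x, hx⟩ : H) ^ p = 1 := by
            rw [← hH]; exact pow_card_eq_one'
          have h2 := congrArg (fun y : H => ((y : ↥M) : P)) h1
          simpa using h2
        · rw [hH]; exact hWM
      intro H K hH hK
      rw [key H hH, key K hK]
    exact Cfsg.Agent.Lib.Helper66.unique_sub_cyclic p hpp (n - 1) ↥M 1 hcardM le_rfl (by omega)
      (Or.inl hodd) huniq

/-- **the number of cyclic maximal subgroups** of a non-cyclic `p`-group of order at least `p³`,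
`p` odd, is divisible by `p` -/
theorem dvd_card_cyclic_index {P : Type u} [Group P] [Finite P] (hodd : p ≠ 2)
    (hP : IsPGroup p P) (hnc : ¬ IsCyclic P) {n : ℕ} (hn : Nat.card P = p ^ n) (hn3 : 3 ≤ n) :
    p ∣ Nat.card {M : Subgroup P // M.index = p ∧ IsCyclic M} := by
  classical
  have hpp : p.Prime := hp.out
  by_cases hex : ∃ C : Subgroup P, IsCyclic C ∧ C.index = p
  · obtain ⟨C, hC, hCi⟩ := hex
    obtain ⟨W, hW, hWc⟩ := exists_omega_card_sq hodd hP hnc C hC hCi
    haveI : Fintype (Subgroup P) := Fintype.ofFinite _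
    have hiff : ∀ M : Subgroup P, M.index = p → (IsCyclic M ↔ ¬ W ≤ M) :=
      fun M hM => cyclic_iff_not_le hodd hn hn3 W hW hWc M hM
    -- the three counts as finset cards
    set A := (Finset.univ : Finset (Subgroup P)).filter (fun M => M.index = p) with hA
    have hν : Nat.card {M : Subgroup P // M.index = p ∧ IsCyclic M} =
        (A.filter (fun M => ¬ W ≤ M)).card := by
      rw [Nat.card_eq_fintype_card, Fintype.card_subtype]
      congr 1
      ext M
      simp only [hA, Finset.mem_filter, Finset.mem_univ, true_and]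
      constructor
      · rintro ⟨h1, h2⟩; exact ⟨h1, (hiff M h1).mp h2⟩
      · rintro ⟨h1, h2⟩; exact ⟨h1, (hiff M h1).mpr h2⟩
    have hμW : Nat.card {M : Subgroup P // M.index = p ∧ W ≤ M} =
        (A.filter (fun M => W ≤ M)).card := by
      rw [Nat.card_eq_fintype_card, Fintype.card_subtype]
      congr 1
      ext M
      simp only [hA, Finset.mem_filter, Finset.mem_univ, true_and]
    have hμ0 : Nat.card {M : Subgroup P // M.index = p ∧ (⊥ : Subgroup P) ≤ M} = A.card := by
      rw [Nat.card_eq_fintype_card, Fintype.card_subtype]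
      congr 1
      ext M
      simp only [hA, Finset.mem_filter, Finset.mem_univ, true_and, bot_le, and_true]
    have hsplit : (A.filter (fun M => W ≤ M)).card + (A.filter (fun M => ¬ W ≤ M)).card = A.card :=
      Finset.card_filter_add_card_filter_not (fun M => W ≤ M)
    obtain ⟨e0, he0⟩ := kk_mu_formula (p := p) hP (⊥ : Subgroup P)
    obtain ⟨eW, heW⟩ := kk_mu_formula (p := p) hP W
    rw [hμ0] at he0
    rw [hμW] at heW
    rw [hν]
    set a := (A.filter (fun M => W ≤ M)).card with ha
    set b := (A.filter (fun M => ¬ W ≤ M)).card with hb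
    -- W is proper, so a ≥ 1
    have hWtop : W ≠ ⊤ := by
      intro h
      have : Nat.card W = Nat.card P := by rw [h]; exact Subgroup.card_top
      rw [hWc, hn] at this
      have := Nat.pow_right_injective hpp.two_le this
      omega
    have ha1 : 1 ≤ a := by
      obtain ⟨M, hM, hWM⟩ := kk_exists_index_p (p := p) hP W hWtop
      rw [ha]
      apply Finset.card_pos.mpr
      exact ⟨M, by simp [hA, hM, hWM]⟩
    have heW1 : eW ≠ 0 := by
      rintro rfl
      have : 1 ≤ p - 1 := by have := hpp.two_le; omega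
      have : 1 ≤ (p - 1) * a := Nat.mul_pos this ha1
      rw [pow_zero] at heW
      omega
    have he01 : e0 ≠ 0 := by
      rintro rfl
      have h1 : 1 ≤ p - 1 := by have := hpp.two_le; omega
      have : 1 ≤ (p - 1) * A.card := Nat.mul_pos h1 (by omega)
      rw [pow_zero] at he0
      omega
    have h1 : (p - 1) * b + p ^ eW = p ^ e0 := by
      rw [← he0, ← heW, ← hsplit]; ring
    have hd1 : p ∣ p ^ eW := dvd_pow_self p heW1
    have hd0 : p ∣ p ^ e0 := dvd_pow_self p he01
    have hd : p ∣ (p - 1) * b := by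
      have := (Nat.dvd_add_left hd1).mp (h1 ▸ hd0)
      exact this
    have hcop : Nat.Coprime p (p - 1) := by
      have := hpp.two_le
      have h := (Nat.coprime_self_sub_right (m := 1) (n := p) (by omega)).mpr (Nat.coprime_one_right p)
      exact h
    exact hcop.dvd_of_dvd_mul_left hd
  · have : IsEmpty {M : Subgroup P // M.index = p ∧ IsCyclic M} := by
      constructor
      rintro ⟨M, hM, hc⟩
      exact hex ⟨M, hc, hM⟩
    rw [Nat.card_of_isEmpty]
    exact dvd_zero p

/-- **Miller's theorem**: in a non-cyclic finite `p`-group, `p` odd, the number of cyclic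
subgroups of order `p ^ s`, `s ≥ 2`, is divisible by `p`. -/
theorem miller (hodd : p ≠ 2) (s : ℕ) (hs : 2 ≤ s) :
    ∀ (n : ℕ) (P : Type u) [Group P] [Finite P], Nat.card P = p ^ n → ¬ IsCyclic P →
      p ∣ cyc P (p ^ s) := by
  classical
  have hpp : p.Prime := hp.out
  intro n
  induction n using Nat.strong_induction_on with
  | _ n ih =>
  intro P _ _ hn hnc
  have hP : IsPGroup p P := IsPGroup.of_card hn
  rcases Nat.lt_or_ge s n with hsn | hsn
  · -- main case
    haveI : Fintype (Subgroup P) := Fintype.ofFinite _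
    set S := (Finset.univ : Finset (Subgroup P)).filter
      (fun X : Subgroup P => IsCyclic X ∧ Nat.card X = p ^ s) with hS
    set A := (Finset.univ : Finset (Subgroup P)).filter (fun M => M.index = p) with hA
    have hcyc : cyc P (p ^ s) = S.card := by
      unfold cyc
      rw [Nat.card_eq_fintype_card, Fintype.card_subtype]
    rw [hcyc]
    have hdc : ∑ X ∈ S, (A.filter (fun M => X ≤ M)).card =
        ∑ M ∈ A, (S.filter (fun X => X ≤ M)).card :=
      Finset.sum_card_bipartiteAbove_eq_sum_card_bipartiteBelow (fun X M => X ≤ M)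
    -- left side
    have hleft : ∀ X ∈ S, 1 ≤ (A.filter (fun M => X ≤ M)).card ∧
        p ∣ (A.filter (fun M => X ≤ M)).card - 1 := by
      intro X hX
      simp only [hS, Finset.mem_filter, Finset.mem_univ, true_and] at hX
      have hXtop : X ≠ ⊤ := by
        rintro rfl
        apply hnc
        haveI := hX.1
        exact isCyclic_of_surjective (Subgroup.topEquiv : (⊤ : Subgroup P) ≃* P)
          Subgroup.topEquiv.surjective
      have hcard : Nat.card {M : Subgroup P // M.index = p ∧ X ≤ M} =
          (A.filter (fun M => X ≤ M)).card := by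
        rw [Nat.card_eq_fintype_card, Fintype.card_subtype]
        congr 1
        ext M
        simp only [hA, Finset.mem_filter, Finset.mem_univ, true_and]
      obtain ⟨e, he⟩ := kk_mu_formula (p := p) hP X
      rw [hcard] at he
      have h1 : 1 ≤ (A.filter (fun M => X ≤ M)).card := by
        obtain ⟨M, hM, hXM⟩ := kk_exists_index_p (p := p) hP X hXtop
        apply Finset.card_pos.mpr
        exact ⟨M, by simp [hA, hM, hXM]⟩
      refine ⟨h1, ?_⟩
      have h2 := kk_nt_dvd_pred hpp.two_le he h1
      have h3 : ((((A.filter (fun M => X ≤ M)).card - 1 : ℕ) : ℤ)) =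
          ((A.filter (fun M => X ≤ M)).card : ℤ) - 1 := by
        push_cast [h1]; ring
      rw [← h3] at h2
      exact_mod_cast h2
    have hL : ∑ X ∈ S, (A.filter (fun M => X ≤ M)).card =
        ∑ X ∈ S, ((A.filter (fun M => X ≤ M)).card - 1) + S.card := by
      rw [Finset.card_eq_sum_ones S, ← Finset.sum_add_distrib]
      apply Finset.sum_congr rfl
      intro X hX
      have := (hleft X hX).1
      omega
    have hLd : p ∣ ∑ X ∈ S, ((A.filter (fun M => X ≤ M)).card - 1) :=
      Finset.dvd_sum (fun X hX => (hleft X hX).2)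
    -- right side
    have hright : ∀ M ∈ A, (S.filter (fun X => X ≤ M)).card = cyc M (p ^ s) := by
      intro M _
      rw [← cyc_le_eq M (p ^ s), Nat.card_eq_fintype_card, Fintype.card_subtype]
      congr 1
      ext X
      simp only [hS, Finset.mem_filter, Finset.mem_univ, true_and]
    have hcardM : ∀ M ∈ A, Nat.card M = p ^ (n - 1) := by
      intro M hM
      simp only [hA, Finset.mem_filter, Finset.mem_univ, true_and] at hM
      have h := M.card_mul_index
      rw [hM, hn] at h
      have h2 : p ^ n = p ^ (n - 1) * p := by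
        rw [← pow_succ]; congr 1; omega
      rw [h2] at h
      exact Nat.eq_of_mul_eq_mul_right hpp.pos h
    have hR : p ∣ ∑ M ∈ A, (S.filter (fun X => X ≤ M)).card := by
      rw [← Finset.sum_filter_add_sum_filter_not A (fun M : Subgroup P => IsCyclic M)]
      apply dvd_add
      · have h1 : ∑ M ∈ A.filter (fun M : Subgroup P => IsCyclic M), (S.filter (fun X => X ≤ M)).card =
            (A.filter (fun M : Subgroup P => IsCyclic M)).card := by
          rw [Finset.card_eq_sum_ones]
          apply Finset.sum_congr rfl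
          intro M hM
          rw [Finset.mem_filter] at hM
          rw [hright M hM.1]
          haveI := hM.2
          exact cyc_of_cyclic (hcardM M hM.1) (by omega)
        rw [h1]
        have h2 := dvd_card_cyclic_index hodd hP hnc hn (by omega)
        have h3 : Nat.card {M : Subgroup P // M.index = p ∧ IsCyclic M} =
            (A.filter (fun M : Subgroup P => IsCyclic M)).card := by
          rw [Nat.card_eq_fintype_card, Fintype.card_subtype]
          congr 1
          ext M
          simp only [hA, Finset.mem_filter, Finset.mem_univ, true_and]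
        rw [← h3]; exact h2
      · apply Finset.dvd_sum
        intro M hM
        rw [Finset.mem_filter] at hM
        rw [hright M hM.1]
        exact ih (n - 1) (by omega) ↥M (hcardM M hM.1) hM.2
    rw [← hdc, hL] at hR
    exact (Nat.dvd_add_right hLd).mp hR
  · -- no cyclic subgroup of order `p ^ s` at all
    have : IsEmpty {X : Subgroup P // IsCyclic X ∧ Nat.card X = p ^ s} := by
      constructor
      rintro ⟨X, hc, hX⟩
      have hd : Nat.card X ∣ Nat.card P := Subgroup.card_subgroup_dvd_card X
      rw [hX, hn] at hd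
      have hle : s ≤ n := (Nat.pow_dvd_pow_iff_le_right hpp.one_lt).mp hd
      have hsn' : s = n := le_antisymm hle hsn
      have hXtop : X = ⊤ := by
        apply Subgroup.eq_top_of_card_eq
        rw [hX, hn, hsn']
      apply hnc
      subst hXtop
      haveI := hc
      exact isCyclic_of_surjective (Subgroup.topEquiv : (⊤ : Subgroup P) ≃* P)
        Subgroup.topEquiv.surjective
    unfold cyc
    rw [Nat.card_of_isEmpty]
    exact dvd_zero p

/-- conjugation action of a subgroup on the lattice of subgroups -/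
@[reducible] noncomputable def conjAct {H : Type*} [Group H] (Q : Subgroup H) : MulAction Q (Subgroup H) where
  smul q X := X.map (MulAut.conj (q : H)).toMonoidHom
  one_smul X := by
    show X.map (MulAut.conj ((1 : Q) : H)).toMonoidHom = X
    ext x
    simp [Subgroup.mem_map]
  mul_smul q r X := by
    show X.map (MulAut.conj ((q * r : Q) : H)).toMonoidHom =
      (X.map (MulAut.conj (r : H)).toMonoidHom).map (MulAut.conj (q : H)).toMonoidHom
    rw [Subgroup.map_map]
    congr 1
    ext x
    simp [mul_assoc]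

theorem conjAct_smul_def {H : Type*} [Group H] (Q : Subgroup H) (q : Q) (X : Subgroup H) :
    letI := conjAct Q
    q • X = X.map (MulAut.conj (q : H)).toMonoidHom := rfl

/-- in a finite group whose Sylow `p`-subgroups are not cyclic, `p` odd, the number of cyclic
subgroups of order `p ^ s`, `s ≥ 2`, is divisible by `p` -/
theorem dvd_cyc_of_sylow {H : Type u} [Group H] [Finite H] (hodd : p ≠ 2) (s : ℕ) (hs : 2 ≤ s)
    (Q : Sylow p H) (hQ : ¬ IsCyclic (Q : Subgroup H)) : p ∣ cyc H (p ^ s) := by
  classical
  have hpp : p.Prime := hp.out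
  haveI : Fintype (Subgroup H) := Fintype.ofFinite _
  letI := conjAct (Q : Subgroup H)
  set Y := (Finset.univ : Finset (Subgroup H)).filter
    (fun X : Subgroup H => IsCyclic X ∧ Nat.card X = p ^ s) with hY
  set YQ := Y.filter (fun X => X ≤ (Q : Subgroup H)) with hYQ
  set F := Y.filter (fun X => ∀ q : (Q : Subgroup H), q • X = X) with hF
  have hcyc : cyc H (p ^ s) = Y.card := by
    unfold cyc
    rw [Nat.card_eq_fintype_card, Fintype.card_subtype]
  -- invariance
  have hinvY : ∀ q : (Q : Subgroup H), ∀ X ∈ Y, q • X ∈ Y := by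
    intro q X hX
    simp only [hY, Finset.mem_filter, Finset.mem_univ, true_and] at hX ⊢
    have e : X ≃* (X.map (MulAut.conj (q : H)).toMonoidHom) :=
      X.equivMapOfInjective _ (MulAut.conj (q : H)).injective
    refine ⟨?_, ?_⟩
    · haveI := hX.1
      exact isCyclic_of_surjective e e.surjective
    · rw [← hX.2]; exact (Nat.card_congr e.toEquiv).symm
  have hinvYQ : ∀ q : (Q : Subgroup H), ∀ X ∈ YQ, q • X ∈ YQ := by
    intro q X hX
    rw [hYQ, Finset.mem_filter] at hX ⊢
    refine ⟨hinvY q X hX.1, ?_⟩
    rintro y ⟨x, hx, rfl⟩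
    have hxQ : x ∈ (Q : Subgroup H) := hX.2 hx
    show (q : H) * x * (q : H)⁻¹ ∈ (Q : Subgroup H)
    exact Subgroup.mul_mem _ (Subgroup.mul_mem _ q.2 hxQ) (Subgroup.inv_mem _ q.2)
  -- fixed subgroups lie in `Q`
  have hfix : ∀ X ∈ Y, (∀ q : (Q : Subgroup H), q • X = X) → X ≤ (Q : Subgroup H) := by
    intro X hX hfx
    simp only [hY, Finset.mem_filter, Finset.mem_univ, true_and] at hX
    have hXp : IsPGroup p X := IsPGroup.of_card hX.2
    have hnorm : (Q : Subgroup H) ≤ Subgroup.normalizer (X : Set H) := by
      intro q hq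
      rw [Subgroup.mem_normalizer_iff]
      intro x
      have h1 := hfx ⟨q, hq⟩
      have h2 : X.map (MulAut.conj q).toMonoidHom = X := h1
      constructor
      · intro hx
        rw [← h2]
        exact ⟨x, hx, rfl⟩
      · intro hx
        rw [← h2] at hx
        obtain ⟨y, hy, hyx⟩ := hx
        have : y = x := by
          have h3 : q * y * q⁻¹ = q * x * q⁻¹ := hyx
          have h4 := congrArg (fun z => q⁻¹ * z * q) h3
          simpa [mul_assoc] using h4
        rw [← this]; exact hy
    have hsup : IsPGroup p (X ⊔ (Q : Subgroup H) : Subgroup H) :=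
      hXp.to_sup_of_normal_left' Q.2 hnorm
    have := Q.is_maximal' hsup le_sup_right
    rw [← this]
    exact le_sup_left
  have hF1 : ∀ X, X ∈ F ↔ X ∈ Y ∧ ∀ q : (Q : Subgroup H), q • X = X := by
    intro X; rw [hF, Finset.mem_filter]
  have hF2 : ∀ X, X ∈ F ↔ X ∈ YQ ∧ ∀ q : (Q : Subgroup H), q • X = X := by
    intro X
    simp only [hF, hYQ, Finset.mem_filter]
    constructor
    · rintro ⟨h1, h2⟩; exact ⟨⟨h1, hfix X h1 h2⟩, h2⟩
    · rintro ⟨⟨h1, _⟩, h2⟩; exact ⟨h1, h2⟩
  have hm1 := Cfsg.Agent.Lib.Helper66.card_modEq_card_fixed_of_invariant p Q.2 Y hinvY F hF1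
  have hm2 := Cfsg.Agent.Lib.Helper66.card_modEq_card_fixed_of_invariant p Q.2 YQ hinvYQ F hF2
  have hYQc : YQ.card = cyc (Q : Subgroup H) (p ^ s) := by
    rw [← cyc_le_eq (Q : Subgroup H) (p ^ s), Nat.card_eq_fintype_card, Fintype.card_subtype]
    congr 1
    ext X
    simp only [hYQ, hY, Finset.mem_filter, Finset.mem_univ, true_and]
  obtain ⟨n, hn⟩ := IsPGroup.iff_card.mp Q.2
  have hmil := miller hodd s hs n (Q : Subgroup H) hn hQ
  rw [← hYQc] at hmil
  rw [hcyc]
  have h3 : Y.card ≡ YQ.card [MOD p] := hm1.trans hm2.symm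
  exact (Nat.modEq_zero_iff_dvd.mp (h3.trans (Nat.modEq_zero_iff_dvd.mpr hmil)))

/-- the number of elements of order `d` is `φ(d)` times the number of cyclic subgroups of order `d` -/
theorem card_orderOf_eq {H : Type*} [Group H] [Finite H] (d : ℕ) :
    Nat.card {g : H // orderOf g = d} = cyc H d * Nat.totient d := by
  classical
  unfold cyc
  let φ : {g : H // orderOf g = d} → {X : Subgroup H // IsCyclic X ∧ Nat.card X = d} :=
    fun g => ⟨Subgroup.zpowers g.1, inferInstance, by rw [Nat.card_zpowers]; exact g.2⟩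
  apply kk_card_eq_mul_of_fibers φ
  rintro ⟨X, hXc, hXd⟩
  haveI := hXc
  haveI : Fintype X := Fintype.ofFinite _
  have h1 : (Finset.univ.filter (fun a : X => orderOf a = d)).card = Nat.totient d := by
    apply IsCyclic.card_orderOf_eq_totient
    rw [← Nat.card_eq_fintype_card, hXd]
  rw [← h1, ← Fintype.card_subtype, ← Nat.card_eq_fintype_card]
  apply Nat.card_congr
  refine ⟨fun g => ⟨⟨g.1.1, ?_⟩, ?_⟩, fun a => ⟨⟨a.1.1, ?_⟩, ?_⟩, ?_, ?_⟩
  · have := congrArg Subtype.val g.2
    simp only [φ] at this
    have hm : (g.1.1 : H) ∈ Subgroup.zpowers (g.1.1 : H) := Subgroup.mem_zpowers _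
    rw [this] at hm
    exact hm
  · rw [Subgroup.orderOf_mk]; exact g.1.2
  · rw [Subgroup.orderOf_coe]; exact a.2
  · apply Subtype.ext
    simp only [φ]
    apply Subgroup.eq_of_le_of_card_ge
    · rw [Subgroup.zpowers_le]; exact a.1.2
    · rw [Nat.card_zpowers, Subgroup.orderOf_coe, a.2, hXd]
  · intro g; rfl
  · intro a; rfl

/-- `p ^ (s - 1)` divides the number of elements of order `p ^ s` -/
theorem pow_pred_dvd_card_orderOf {H : Type*} [Group H] [Finite H] (s : ℕ) (hs : 1 ≤ s) :
    p ^ (s - 1) ∣ Nat.card {g : H // orderOf g = p ^ s} := by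
  rw [card_orderOf_eq, Nat.totient_prime_pow hp.out (by omega)]
  exact Dvd.dvd.mul_left (Dvd.intro _ rfl) _

/-- if the Sylow `p`-subgroups are not cyclic, `p` odd and `s ≥ 2`, then `p ^ s` divides the number
of elements of order `p ^ s` -/
theorem pow_dvd_card_orderOf_of_sylow {H : Type u} [Group H] [Finite H] (hodd : p ≠ 2) (s : ℕ)
    (hs : 2 ≤ s) (Q : Sylow p H) (hQ : ¬ IsCyclic (Q : Subgroup H)) :
    p ^ s ∣ Nat.card {g : H // orderOf g = p ^ s} := by
  rw [card_orderOf_eq, Nat.totient_prime_pow hp.out (by omega)]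
  obtain ⟨c, hc⟩ := dvd_cyc_of_sylow hodd s hs Q hQ
  rw [hc]
  have : p ^ s = p * p ^ (s - 1) := by
    rw [← pow_succ']; congr 1; omega
  rw [this]
  exact ⟨c * (p - 1), by ring⟩

end Cfsg.Agent.Lib.Helper66.Miller
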