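import Mathlib
import Cfsg.Prelude.Def_KGroupFacts
import Cfsg.Agent.Lib.Helper66.Central

set_option autoImplicit false

namespace Cfsg.Agent.Lib.Helper66.MultRank


open scoped commutatorElement

theorem lift_surjective_of_stem {α : Type*} {rels : Set (FreeGroup α)} {Γ : Type*} [Group Γ]
    (σ : Γ →* PresentedGroup rels) (hσ : Cfsg.IsStemExtension σ) :
    ∃ θ : FreeGroup α →* Γ, (∀ f, σ (θ f) = PresentedGroup.mk rels f) ∧ Function.Surjective θ := by
  obtain ⟨hsurj, hcen, hcomm⟩ := hσ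
  choose γ hγ using fun i : α => hsurj (PresentedGroup.of i)
  let θ : FreeGroup α →* Γ := FreeGroup.lift γ
  have hσθ : ∀ f, σ (θ f) = PresentedGroup.mk rels f := by
    intro f
    have : σ.comp θ = PresentedGroup.mk rels := by
      apply FreeGroup.ext_hom
      intro i
      simp only [MonoidHom.comp_apply, θ, FreeGroup.lift_apply_of]
      rw [hγ i]
      rfl
    exact DFunLike.congr_fun this f
  refine ⟨θ, hσθ, ?_⟩
  have hdec : ∀ g : Γ, ∃ f : FreeGroup α, σ g = σ (θ f) := by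
    intro g
    obtain ⟨f, hf⟩ := QuotientGroup.mk_surjective (σ g)
    refine ⟨f, ?_⟩
    rw [hσθ f, ← hf]
    rfl
  have hcomm_le : commutator Γ ≤ θ.range := by
    rw [commutator_eq_closure, Subgroup.closure_le]
    rintro _ ⟨g₁, g₂, rfl⟩
    obtain ⟨f₁, h₁⟩ := hdec g₁
    obtain ⟨f₂, h₂⟩ := hdec g₂
    refine ⟨⁅f₁, f₂⁆, ?_⟩
    rw [map_commutatorElement]
    exact (Cfsg.Agent.Lib.Helper66.commutatorElement_eq_of_map_eq σ hcen g₁ (θ f₁) g₂ (θ f₂) h₁ h₂).symm
  intro g
  obtain ⟨f, hf⟩ := hdec g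
  have hk : g * (θ f)⁻¹ ∈ σ.ker := by
    rw [MonoidHom.mem_ker, map_mul, map_inv, hf, mul_inv_cancel]
  obtain ⟨f', hf'⟩ := hcomm_le (hcomm hk)
  refine ⟨f' * f, ?_⟩
  rw [map_mul, hf']
  group



theorem finrank_ker_of_range_torsion {J : Type*} [Fintype J] (n : ℕ)
    (φ : (J → ℤ) →ₗ[ℤ] (Fin n → ℤ)) (m : ℤ) (hm : m ≠ 0)
    (h : ∀ v : Fin n → ℤ, m • v ∈ LinearMap.range φ) :
    Module.finrank ℤ (LinearMap.ker φ) = Fintype.card J - n := by
  have h1 : Module.finrank ℤ ((Fin n → ℤ) ⧸ LinearMap.range φ) = 0 := by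
    rw [Module.finrank_eq_zero_iff]
    intro x
    obtain ⟨v, rfl⟩ := Submodule.mkQ_surjective _ x
    refine ⟨m, hm, ?_⟩
    rw [← map_smul, Submodule.mkQ_apply, Submodule.Quotient.mk_eq_zero]
    exact h v
  have h2 := Submodule.finrank_quotient_add_finrank (LinearMap.range φ)
  rw [h1, zero_add, Module.finrank_fin_fun] at h2
  have h3 := Submodule.finrank_quotient_add_finrank (LinearMap.ker φ)
  rw [LinearEquiv.finrank_eq φ.quotKerEquivRange, h2, Module.finrank_fintype_fun_eq_card] at h3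
  omega



theorem rank_le_of_image_ker {J : Type*} [Fintype J] {A : Type*} [CommGroup A] [Finite A] (n : ℕ)
    (φ : (J → ℤ) →ₗ[ℤ] (Fin n → ℤ)) (ρ : (J → ℤ) →ₗ[ℤ] Additive A)
    (hsurj : ∀ a : A, ∃ c ∈ LinearMap.ker φ, ρ c = Additive.ofMul a) :
    Group.rank A ≤ Module.finrank ℤ (LinearMap.ker φ) := by
  classical
  set K := LinearMap.ker φ with hK
  let b := Module.finBasis ℤ K
  let S : Finset A := Finset.univ.image (fun i => Additive.toMul (ρ (b i).1))
  have hS : Subgroup.closure (S : Set A) = ⊤ := by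
    rw [eq_top_iff]
    intro a _
    obtain ⟨c, hc, hca⟩ := hsurj a
    have h1 : (⟨c, hc⟩ : K) = ∑ i, (b.repr ⟨c, hc⟩ i) • b i := (b.sum_repr ⟨c, hc⟩).symm
    have h2 : c = ∑ i, (b.repr ⟨c, hc⟩ i) • (b i).1 := by
      calc c = ((∑ i, (b.repr ⟨c, hc⟩ i) • b i : K) : J → ℤ) := congrArg Subtype.val h1
        _ = ∑ i, (b.repr ⟨c, hc⟩ i) • (b i).1 := by
            rw [Submodule.coe_sum]
            rfl
    have h3 : a = ∏ i, (Additive.toMul (ρ (b i).1)) ^ (b.repr ⟨c, hc⟩ i) := by
      have : Additive.ofMul a = ∑ i, (b.repr ⟨c, hc⟩ i) • ρ (b i).1 := by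
        rw [← hca]
        conv_lhs => rw [h2]
        rw [map_sum]
        simp only [map_zsmul]
      have h4 := congrArg Additive.toMul this
      rw [toMul_ofMul, toMul_sum] at h4
      rw [h4]
      apply Finset.prod_congr rfl
      intro i _
      rw [toMul_zsmul]
    rw [h3]
    apply Subgroup.prod_mem
    intro i _
    apply Subgroup.zpow_mem
    apply Subgroup.subset_closure
    exact Finset.mem_coe.mpr (Finset.mem_image.mpr ⟨i, Finset.mem_univ i, rfl⟩)
  calc Group.rank A ≤ S.card := Group.rank_le hS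
    _ ≤ (Finset.univ : Finset (Fin (Module.finrank ℤ K))).card := Finset.card_image_le
    _ = Module.finrank ℤ K := by simp





theorem multiplier_rank_le (n : ℕ) (rels : Finset (FreeGroup (Fin n)))
    [Finite (PresentedGroup (rels : Set (FreeGroup (Fin n))))] {A : Type*} [CommGroup A] [Finite A]
    (hA : Cfsg.HasSchurMultiplier (PresentedGroup (rels : Set (FreeGroup (Fin n)))) A) :
    Group.rank A ≤ rels.card - n := by
  classical
  obtain ⟨⟨Γ, _, _, σ, hσ, ⟨e⟩⟩, -⟩ := hA
  obtain ⟨θ, hσθ, hθsurj⟩ := lift_surjective_of_stem σ hσ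
  obtain ⟨hsurj, hcen, hcomm⟩ := hσ
  let R : Subgroup (FreeGroup (Fin n)) := Subgroup.normalClosure (rels : Set (FreeGroup (Fin n)))
  have hRn : R.Normal := Subgroup.normalClosure_normal
  have hRker : ∀ w ∈ R, θ w ∈ σ.ker := by
    intro w hw
    rw [MonoidHom.mem_ker, hσθ]
    exact (QuotientGroup.eq_one_iff w).mpr hw
  let κ : ∀ w : FreeGroup (Fin n), w ∈ R → A := fun w hw => e ⟨θ w, hRker w hw⟩
  have κ_mul : ∀ w₁ w₂ (h₁ : w₁ ∈ R) (h₂ : w₂ ∈ R),
      κ (w₁ * w₂) (R.mul_mem h₁ h₂) = κ w₁ h₁ * κ w₂ h₂ := by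
    intro w₁ w₂ h₁ h₂
    change e _ = e _ * e _
    rw [← map_mul]
    congr 1
    apply Subtype.ext
    simp
  have κ_one : κ 1 R.one_mem = 1 := by
    change e _ = 1
    rw [← map_one e]
    congr 1
    apply Subtype.ext
    simp
  have κ_inv : ∀ w (h : w ∈ R), κ w⁻¹ (R.inv_mem h) = (κ w h)⁻¹ := by
    intro w h
    change e _ = (e _)⁻¹
    rw [← map_inv]
    congr 1
    apply Subtype.ext
    simp
  have κ_conj : ∀ g w (h : w ∈ R), κ (g * w * g⁻¹) (hRn.conj_mem w h g) = κ w h := by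
    intro g w h
    change e _ = e _
    congr 1
    apply Subtype.ext
    change θ (g * w * g⁻¹) = θ w
    rw [map_mul, map_mul, map_inv]
    have hz := Subgroup.mem_center_iff.mp (hcen (hRker w h)) (θ g)
    rw [hz, mul_inv_cancel_right]
  -- abelianization
  let ab : FreeGroup (Fin n) →* Multiplicative (Fin n → ℤ) :=
    FreeGroup.lift (fun i => Multiplicative.ofAdd (Pi.single i 1))
  let zA : {x // x ∈ rels} → A := fun j => κ j.1 (Subgroup.subset_normalClosure j.2)
  let ρ : ({x // x ∈ rels} → ℤ) →ₗ[ℤ] Additive A :=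
    Fintype.linearCombination ℤ (fun j => Additive.ofMul (zA j))
  let φ : ({x // x ∈ rels} → ℤ) →ₗ[ℤ] (Fin n → ℤ) :=
    Fintype.linearCombination ℤ (fun j => Multiplicative.toAdd (ab j.1))
  have key : ∀ w (hw : w ∈ R), ∃ c : {x // x ∈ rels} → ℤ,
      ρ c = Additive.ofMul (κ w hw) ∧ φ c = Multiplicative.toAdd (ab w) := by
    intro w hw
    induction hw using Subgroup.closure_induction with
    | mem x hx =>
      obtain ⟨a, ha, hax⟩ := Group.mem_conjugatesOfSet_iff.mp hx
      obtain ⟨g, hg⟩ := isConj_iff.mp hax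
      subst hg
      refine ⟨Pi.single ⟨a, ha⟩ 1, ?_, ?_⟩
      · rw [Fintype.linearCombination_apply_single, one_smul]
        exact congrArg Additive.ofMul (κ_conj g a (Subgroup.subset_normalClosure ha)).symm
      · rw [Fintype.linearCombination_apply_single, one_smul]
        congr 1
        rw [map_mul, map_mul, map_inv, mul_comm, inv_mul_cancel_left]
    | one =>
      refine ⟨0, ?_, ?_⟩
      · rw [map_zero, ← ofMul_one]
        exact (congrArg Additive.ofMul κ_one).symm
      · rw [map_zero, map_one]; rfl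
    | mul x y hx hy ihx ihy =>
      obtain ⟨c₁, h₁, h₁'⟩ := ihx
      obtain ⟨c₂, h₂, h₂'⟩ := ihy
      refine ⟨c₁ + c₂, ?_, ?_⟩
      · rw [map_add, h₁, h₂, ← ofMul_mul]
        exact (congrArg Additive.ofMul (κ_mul x y hx hy)).symm
      · rw [map_add, h₁', h₂', map_mul]; rfl
    | inv x hx ihx =>
      obtain ⟨c₁, h₁, h₁'⟩ := ihx
      refine ⟨-c₁, ?_, ?_⟩
      · rw [map_neg, h₁, ← ofMul_inv]
        exact (congrArg Additive.ofMul (κ_inv x hx)).symm
      · rw [map_neg, h₁', map_inv]; rfl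
  -- every element of A comes from ker φ
  have hA_ker : ∀ a : A, ∃ c ∈ LinearMap.ker φ, ρ c = Additive.ofMul a := by
    intro a
    obtain ⟨⟨z, hz⟩, rfl⟩ := e.surjective a
    have hzc : z ∈ commutator Γ := hcomm hz
    have hmap : commutator Γ = (commutator (FreeGroup (Fin n))).map θ :=
      (Cfsg.Agent.Lib.Helper66.map_commutator_eq_of_surjective θ hθsurj).symm
    rw [hmap] at hzc
    obtain ⟨f', hf'c, hf'z⟩ := hzc
    have hf'R : f' ∈ R := by
      rw [← QuotientGroup.eq_one_iff]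
      have := hσθ f'
      rw [hf'z, MonoidHom.mem_ker.mp hz] at this
      exact this.symm
    obtain ⟨c, hc1, hc2⟩ := key f' hf'R
    refine ⟨c, ?_, ?_⟩
    · rw [LinearMap.mem_ker, hc2]
      have : ab f' = 1 := by
        have hle : commutator (FreeGroup (Fin n)) ≤ ab.ker := Abelianization.commutator_subset_ker ab
        exact MonoidHom.mem_ker.mp (hle hf'c)
      rw [this]; rfl
    · rw [hc1]
      congr 1
      show e (⟨θ f', hRker f' hf'R⟩ : σ.ker) = e ⟨z, hz⟩
      congr 1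
      exact Subtype.ext hf'z
  -- torsion of the cokernel
  have htors : ∀ v : Fin n → ℤ, (Nat.card (PresentedGroup (rels : Set (FreeGroup (Fin n)))) : ℤ) • v ∈
      LinearMap.range φ := by
    intro v
    set N := Nat.card (PresentedGroup (rels : Set (FreeGroup (Fin n)))) with hN
    have hgen : ∀ i : Fin n, (N : ℤ) • (Pi.single i 1 : Fin n → ℤ) ∈ LinearMap.range φ := by
      intro i
      have hpow : (FreeGroup.of i) ^ N ∈ R := by
        rw [← QuotientGroup.eq_one_iff, QuotientGroup.mk_pow]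
        exact pow_card_eq_one'
      obtain ⟨c, -, hc⟩ := key _ hpow
      refine ⟨c, ?_⟩
      rw [hc, map_pow]
      simp only [ab, FreeGroup.lift_apply_of]
      rw [toAdd_pow, toAdd_ofAdd]
      simp
    have hv : v = ∑ i, v i • (Pi.single i 1 : Fin n → ℤ) := by
      ext k
      simp [Finset.sum_apply, Pi.single_apply]
    rw [hv, Finset.smul_sum]
    apply Submodule.sum_mem
    intro i _
    rw [smul_comm]
    exact Submodule.smul_mem _ _ (hgen i)
  have hN0 : (Nat.card (PresentedGroup (rels : Set (FreeGroup (Fin n)))) : ℤ) ≠ 0 := by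
    exact_mod_cast Nat.card_pos.ne'
  have hfin := finrank_ker_of_range_torsion n φ _ hN0 htors
  have hrank := rank_le_of_image_ker n φ ρ hA_ker
  rw [hfin, Fintype.card_coe] at hrank
  exact hrank


end Cfsg.Agent.Lib.Helper66.MultRank
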