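import Mathlib

set_option autoImplicit false

namespace Cfsg.Agent.Lib.Helper66.Orders123

/-- an involution and an element of order `3` which commute have a product of order `6` -/
theorem not_commute_of_orders {G : Type*} [Group G]
    (hord : ∀ g : G, orderOf g = 1 ∨ orderOf g = 2 ∨ orderOf g = 3) (x y : G)
    (hx : orderOf x = 2) (hy : orderOf y = 3) (hc : Commute x y) : False := by
  have h := hc.orderOf_mul_eq_mul_orderOf_of_coprime (by rw [hx, hy]; norm_num)
  rw [hx, hy] at h
  rcases hord (x * y) with h' | h' | h' <;> omega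

/-- braid relation from `(a c)^3 = 1` for involutions -/
theorem braid_of_cube {G : Type*} [Group G] {a c : G} (ha : a * a = 1) (hc : c * c = 1)
    (h : (a * c) ^ 3 = 1) : a * c * a = c * a * c := by
  have h1 : a * c * (a * c) * (a * c) = 1 := by
    rw [← h, pow_succ, pow_two]
  have ha' : a⁻¹ = a := inv_eq_of_mul_eq_one_right ha
  have hc' : c⁻¹ = c := inv_eq_of_mul_eq_one_right hc
  have h2 : a * c * a = (c * a * c)⁻¹ := by
    rw [eq_inv_iff_mul_eq_one]
    calc a * c * a * (c * a * c) = a * c * (a * c) * (a * c) := by simp only [mul_assoc]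
      _ = 1 := h1
  rw [h2, mul_inv_rev, mul_inv_rev, ha', hc', mul_assoc]

/-- The key computation: three involutions `a, b` (commuting) and `c` with `ac, bc, abc` of order
dividing `3` force `c` to commute with `ab`. -/
theorem commute_of_three_involutions {G : Type*} [Group G] {a b c : G} (ha : a * a = 1)
    (hb : b * b = 1) (hc : c * c = 1) (hab : a * b = b * a) (h1 : (a * c) ^ 3 = 1)
    (h2 : (b * c) ^ 3 = 1) (h3 : (a * b * c) ^ 3 = 1) : c * (a * b) * c = a * b := by
  have E1 := braid_of_cube ha hc h1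
  have E2 := braid_of_cube hb hc h2
  have hab2 : a * b * (a * b) = 1 := by
    calc a * b * (a * b) = a * (b * a) * b := by simp only [mul_assoc]
      _ = a * (a * b) * b := by rw [hab]
      _ = (a * a) * (b * b) := by simp only [mul_assoc]
      _ = 1 := by rw [ha, hb, one_mul]
  have E3 := braid_of_cube hab2 hc h3
  -- (★) b c a c b = c a b c
  have star : b * c * a * c * b = c * (a * b) * c := by
    rw [← E3]
    calc b * c * a * c * b = b * (c * a * c) * b := by simp only [mul_assoc]
      _ = b * (a * c * a) * b := by rw [E1]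
      _ = (b * a) * c * (a * b) := by simp only [mul_assoc]
      _ = a * b * c * (a * b) := by rw [← hab]
  -- (★★) b c a c b = a b
  have bab : b * a * b = a := by
    calc b * a * b = a * b * b := by rw [← hab]
      _ = a * (b * b) := by rw [mul_assoc]
      _ = a := by rw [hb, mul_one]
  have star2 : b * c * a * c * b = a * b := by
    have e : c * (b * c * a * c * b) * c = a * b := by
      rw [star]
      calc c * (c * (a * b) * c) * c = (c * c) * (a * b) * (c * c) := by simp only [mul_assoc]
        _ = a * b := by rw [hc, one_mul, mul_one]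
    have e2 : c * (b * c * a * c * b) * c = b * c * a * c * b := by
      calc c * (b * c * a * c * b) * c = (c * b * c) * a * (c * b * c) := by simp only [mul_assoc]
        _ = (b * c * b) * a * (b * c * b) := by rw [E2]
        _ = b * c * (b * a * b) * c * b := by simp only [mul_assoc]
        _ = b * c * a * c * b := by rw [bab]
    rw [← e2]; exact e
  rw [← star, star2]

/-- a group of exponent two is commutative -/
theorem comm_of_sq_eq_one {G : Type*} [Group G] (T : Subgroup G) (h : ∀ g ∈ T, g * g = 1)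
    (a b : G) (ha : a ∈ T) (hb : b ∈ T) : a * b = b * a := by
  have h1 := h (a * b) (T.mul_mem ha hb)
  have ha' : a⁻¹ = a := inv_eq_of_mul_eq_one_right (h a ha)
  have hb' : b⁻¹ = b := inv_eq_of_mul_eq_one_right (h b hb)
  have : a * b = (a * b)⁻¹ := (inv_eq_of_mul_eq_one_right h1).symm
  rw [this, mul_inv_rev, ha', hb']



variable {G : Type*} [Group G]

theorem sq_eq_one_of_mem_sylow2 (hord : ∀ g : G, orderOf g = 1 ∨ orderOf g = 2 ∨ orderOf g = 3)
    (T : Sylow 2 G) (g : G) (hg : g ∈ T) : g * g = 1 := by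
  obtain ⟨k, hk⟩ := T.2 ⟨g, hg⟩
  have hk' : g ^ (2 ^ k) = 1 := by
    have := congrArg Subtype.val hk
    simpa using this
  have hdvd : orderOf g ∣ 2 ^ k := orderOf_dvd_of_pow_eq_one hk'
  rcases hord g with h | h | h
  · rw [orderOf_eq_one_iff] at h; rw [h, one_mul]
  · rw [← pow_two, ← h]; exact pow_orderOf_eq_one g
  · exfalso
    rw [h] at hdvd
    have := (Nat.Prime.dvd_of_dvd_pow Nat.prime_three hdvd)
    omega

theorem orderOf_eq_two_of_sq {g : G} (h : g * g = 1) (h1 : g ≠ 1) : orderOf g = 2 := by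
  have : Fact (Nat.Prime 2) := ⟨Nat.prime_two⟩
  exact orderOf_eq_prime (by rw [pow_two]; exact h) h1

theorem mem_sylow2_of_commute (hord : ∀ g : G, orderOf g = 1 ∨ orderOf g = 2 ∨ orderOf g = 3)
    (T : Sylow 2 G) (z : G) (hz : z ∈ T) (hz1 : z ≠ 1) (g : G) (hc : g * z = z * g) : g ∈ T := by
  have hzo : orderOf z = 2 := orderOf_eq_two_of_sq (sq_eq_one_of_mem_sylow2 hord T z hz) hz1
  let C : Subgroup G := Subgroup.centralizer {z}
  have hCsq : ∀ x ∈ C, x * x = 1 := by
    intro x hx
    have hxz : x * z = z * x := Subgroup.mem_centralizer_singleton_iff.mp hx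
    rcases hord x with h | h | h
    · rw [orderOf_eq_one_iff] at h; rw [h, one_mul]
    · rw [← pow_two, ← h]; exact pow_orderOf_eq_one x
    · exact (not_commute_of_orders hord z x hzo h hxz.symm).elim
  have hCp : IsPGroup 2 C := by
    intro x
    refine ⟨1, ?_⟩
    apply Subtype.ext
    have := hCsq x.1 x.2
    simpa [pow_two] using this
  have hTC : (T : Subgroup G) ≤ C := by
    intro t ht
    rw [Subgroup.mem_centralizer_singleton_iff]
    exact comm_of_sq_eq_one (T : Subgroup G) (sq_eq_one_of_mem_sylow2 hord T) t z ht hz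
  have hCT : C = (T : Subgroup G) := T.is_maximal' hCp hTC
  have : g ∈ C := Subgroup.mem_centralizer_singleton_iff.mpr hc
  rw [hCT] at this
  exact this

theorem cube_of_not_mem (hord : ∀ g : G, orderOf g = 1 ∨ orderOf g = 2 ∨ orderOf g = 3)
    (T : Sylow 2 G) (s : G) (hs : s ∈ T) (hs1 : s ≠ 1) (t : G) (ht : t * t = 1) (htT : t ∉ T) :
    (s * t) ^ 3 = 1 := by
  have hss := sq_eq_one_of_mem_sylow2 hord T s hs
  have hs' : s⁻¹ = s := inv_eq_of_mul_eq_one_right hss
  have ht' : t⁻¹ = t := inv_eq_of_mul_eq_one_right ht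
  rcases hord (s * t) with h | h | h
  · exfalso
    rw [orderOf_eq_one_iff] at h
    have : t = s⁻¹ := (inv_eq_of_mul_eq_one_right h).symm
    rw [this, hs'] at htT
    exact htT hs
  · exfalso
    have h2 : (s * t) * (s * t) = 1 := by rw [← pow_two, ← h]; exact pow_orderOf_eq_one _
    have h3 : s * t = (s * t)⁻¹ := (inv_eq_of_mul_eq_one_right h2).symm
    rw [mul_inv_rev, hs', ht'] at h3
    exact htT (mem_sylow2_of_commute hord T s hs hs1 t h3.symm)
  · rw [← h]; exact pow_orderOf_eq_one _

theorem mem_sylow2_of_involution [Finite G]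
    (hord : ∀ g : G, orderOf g = 1 ∨ orderOf g = 2 ∨ orderOf g = 3)
    (T : Sylow 2 G) (hT : 2 < Nat.card T) (t : G) (ht : t * t = 1) : t ∈ T := by
  by_contra htT
  have := Fintype.ofFinite (T : Subgroup G)
  rw [Nat.card_eq_fintype_card, Fintype.two_lt_card_iff] at hT
  obtain ⟨a, b, c, hab, hac, hbc⟩ := hT
  -- two distinct nonidentity elements
  have : ∃ s s' : G, s ∈ T ∧ s' ∈ T ∧ s ≠ 1 ∧ s' ≠ 1 ∧ s ≠ s' := by
    by_cases ha : a = 1
    · refine ⟨b, c, b.2, c.2, ?_, ?_, ?_⟩
      · intro h; apply hab; rw [ha]; exact (Subtype.ext h).symm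
      · intro h; apply hac; rw [ha]; exact (Subtype.ext h).symm
      · intro h; exact hbc (Subtype.ext h)
    · by_cases hb : b = 1
      · refine ⟨a, c, a.2, c.2, ?_, ?_, ?_⟩
        · intro h; exact ha (Subtype.ext h)
        · intro h; apply hbc; rw [hb]; exact (Subtype.ext h).symm
        · intro h; exact hac (Subtype.ext h)
      · refine ⟨a, b, a.2, b.2, ?_, ?_, ?_⟩
        · intro h; exact ha (Subtype.ext h)
        · intro h; exact hb (Subtype.ext h)
        · intro h; exact hab (Subtype.ext h)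
  obtain ⟨s, s', hs, hs', hs1, hs'1, hne⟩ := this
  have hss := sq_eq_one_of_mem_sylow2 hord T s hs
  have hs's' := sq_eq_one_of_mem_sylow2 hord T s' hs'
  have hsinv : s⁻¹ = s := inv_eq_of_mul_eq_one_right hss
  have hcomm : s * s' = s' * s :=
    comm_of_sq_eq_one (T : Subgroup G) (sq_eq_one_of_mem_sylow2 hord T) s s' hs hs'
  have hp : s * s' ∈ T := (T : Subgroup G).mul_mem hs hs'
  have hp1 : s * s' ≠ 1 := by
    intro h
    apply hne
    have : s' = s⁻¹ := (inv_eq_of_mul_eq_one_right h).symm
    rw [this, hsinv]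
  have h1 := cube_of_not_mem hord T s hs hs1 t ht htT
  have h2 := cube_of_not_mem hord T s' hs' hs'1 t ht htT
  have h3 := cube_of_not_mem hord T (s * s') hp hp1 t ht htT
  have key := commute_of_three_involutions hss hs's' ht hcomm h1 h2 h3
  have ht' : t⁻¹ = t := inv_eq_of_mul_eq_one_right ht
  have hc : t * (s * s') = (s * s') * t := by
    calc t * (s * s') = t * (s * s') * (t * t) := by rw [ht, mul_one]
      _ = (t * (s * s') * t) * t := by simp only [mul_assoc]
      _ = (s * s') * t := by rw [key]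
  exact htT (mem_sylow2_of_commute hord T (s * s') hp hp1 t hc)

theorem mem_sylow2_iff [Finite G]
    (hord : ∀ g : G, orderOf g = 1 ∨ orderOf g = 2 ∨ orderOf g = 3)
    (T : Sylow 2 G) (hT : 2 < Nat.card T) (g : G) : g ∈ T ↔ g * g = 1 :=
  ⟨sq_eq_one_of_mem_sylow2 hord T g, mem_sylow2_of_involution hord T hT g⟩

theorem sylow2_normal [Finite G]
    (hord : ∀ g : G, orderOf g = 1 ∨ orderOf g = 2 ∨ orderOf g = 3)
    (T : Sylow 2 G) (hT : 2 < Nat.card T) : (T : Subgroup G).Normal := by
  constructor
  intro n hn g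
  have h1 := (mem_sylow2_iff hord T hT n).mp hn
  have : g * n * g⁻¹ ∈ T := by
    rw [mem_sylow2_iff hord T hT]
    calc g * n * g⁻¹ * (g * n * g⁻¹) = g * (n * n) * g⁻¹ := by group
      _ = 1 := by rw [h1]; group
  exact this





/-- conjugation -/
def cj (w v : G) : G := w * v * w⁻¹

theorem cj_mul (a b v : G) : cj (a * b) v = cj a (cj b v) := by
  unfold cj; group

theorem cj_mem (T : Subgroup G) [T.Normal] (w v : G) (hv : v ∈ T) : cj w v ∈ T :=
  Subgroup.Normal.conj_mem inferInstance v hv w

/-- fixed-point-free relation -/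
theorem fpf_relation [Finite G]
    (hord : ∀ g : G, orderOf g = 1 ∨ orderOf g = 2 ∨ orderOf g = 3)
    (T : Sylow 2 G) [hTn : (T : Subgroup G).Normal] (w : G) (hw : orderOf w = 3) (v : G)
    (hv : v ∈ T) : v * cj w v * cj (w * w) v = 1 := by
  have hsq := sq_eq_one_of_mem_sylow2 hord T
  have hcomm := comm_of_sq_eq_one (T : Subgroup G) hsq
  have hw3 : w * w * w = 1 := by
    have := pow_orderOf_eq_one w
    rw [hw, pow_succ, pow_two] at this
    exact this
  set A := cj w v with hA
  set B := cj (w * w) v with hB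
  have hAT : A ∈ T := cj_mem (T : Subgroup G) w v hv
  have hBT : B ∈ T := cj_mem (T : Subgroup G) (w * w) v hv
  set u := v * A * B with hu
  have huT : u ∈ T := (T : Subgroup G).mul_mem ((T : Subgroup G).mul_mem hv hAT) hBT
  -- w u w⁻¹ = u
  have h1 : cj w A = B := by rw [hA, ← cj_mul]
  have h2 : cj w B = v := by
    rw [hB, ← cj_mul, ← mul_assoc, hw3]; unfold cj; group
  have h3 : cj w u = u := by
    have : cj w u = cj w v * cj w A * cj w B := by rw [hu]; unfold cj; group
    rw [this, h1, h2, ← hA, hu]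
    -- A * B * v = v * A * B
    rw [hcomm (A * B) v ((T : Subgroup G).mul_mem hAT hBT) hv, mul_assoc]
  by_contra hne
  have huo : orderOf u = 2 := orderOf_eq_two_of_sq (hsq u huT) hne
  have hc : Commute u w := by
    unfold cj at h3
    have : w * u = u * w := by
      calc w * u = (w * u * w⁻¹) * w := by group
        _ = u * w := by rw [h3]
    exact this.symm
  exact not_commute_of_orders hord u w huo hw hc





/-- two commuting elements `x, y` of order three with `xy, xyy` of order three cannot act on `T`. -/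
theorem no_rank_two [Finite G]
    (hord : ∀ g : G, orderOf g = 1 ∨ orderOf g = 2 ∨ orderOf g = 3)
    (T : Sylow 2 G) [hTn : (T : Subgroup G).Normal] (x y : G) (hxy : x * y = y * x)
    (hx : orderOf x = 3) (hy : orderOf y = 3) (h1 : orderOf (x * y) = 3)
    (h2 : orderOf (x * y * y) = 3) (v : G) (hv : v ∈ T) : v = 1 := by
  have hsq := sq_eq_one_of_mem_sylow2 hord T
  have hcomm := comm_of_sq_eq_one (T : Subgroup G) hsq
  have hy3 : y * y * y = 1 := by
    have := pow_orderOf_eq_one y
    rw [hy, pow_succ, pow_two] at this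
    exact this
  set A1 := cj y v with hA1
  set A2 := cj (y * y) v with hA2
  set A3 := cj (x * y) v with hA3
  set A4 := cj (x * x * (y * y)) v with hA4
  set A5 := cj (x * (y * y)) v with hA5
  set A6 := cj (x * x * y) v with hA6
  have m1 : A1 ∈ T := cj_mem (T : Subgroup G) _ v hv
  have m2 : A2 ∈ T := cj_mem (T : Subgroup G) _ v hv
  have m3 : A3 ∈ T := cj_mem (T : Subgroup G) _ v hv
  have m4 : A4 ∈ T := cj_mem (T : Subgroup G) _ v hv
  have m5 : A5 ∈ T := cj_mem (T : Subgroup G) _ v hv
  have m6 : A6 ∈ T := cj_mem (T : Subgroup G) _ v hv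
  have r1 : v * A1 * A2 = 1 := fpf_relation hord T y hy v hv
  have r2 : v * A3 * A4 = 1 := by
    have := fpf_relation hord T (x * y) h1 v hv
    have e : x * y * (x * y) = x * x * (y * y) := by
      calc x * y * (x * y) = x * (y * x) * y := by simp only [mul_assoc]
        _ = x * (x * y) * y := by rw [hxy]
        _ = x * x * (y * y) := by simp only [mul_assoc]
    rwa [e] at this
  have r3 : v * A5 * A6 = 1 := by
    have h2' : orderOf (x * (y * y)) = 3 := by rw [← mul_assoc]; exact h2
    have := fpf_relation hord T (x * (y * y)) h2' v hv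
    have hyx : y * y * x = x * (y * y) := by
      calc y * y * x = y * (y * x) := by rw [mul_assoc]
        _ = y * (x * y) := by rw [hxy]
        _ = (y * x) * y := by rw [mul_assoc]
        _ = (x * y) * y := by rw [hxy]
        _ = x * (y * y) := by rw [mul_assoc]
    have e : x * (y * y) * (x * (y * y)) = x * x * y := by
      calc x * (y * y) * (x * (y * y)) = x * (y * y * x) * (y * y) := by simp only [mul_assoc]
        _ = x * (x * (y * y)) * (y * y) := by rw [hyx]
        _ = x * x * y * (y * y * y) := by simp only [mul_assoc]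
        _ = x * x * y := by rw [hy3, mul_one]
    rwa [e] at this
  have r4 : A1 * A3 * A6 = 1 := by
    have := fpf_relation hord T x hx A1 m1
    rwa [hA1, ← cj_mul, ← cj_mul, ← hA1, ← hA3, ← hA6] at this
  have r5 : A2 * A5 * A4 = 1 := by
    have := fpf_relation hord T x hx A2 m2
    rwa [hA2, ← cj_mul, ← cj_mul, ← hA2, ← hA5, ← hA4] at this
  -- move to the commutative subgroup
  have : IsMulCommutative (T : Subgroup G) :=
    ⟨⟨fun a b => Subtype.ext (hcomm a b a.2 b.2)⟩⟩
  let v' : (T : Subgroup G) := ⟨v, hv⟩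
  let B1 : (T : Subgroup G) := ⟨A1, m1⟩
  let B2 : (T : Subgroup G) := ⟨A2, m2⟩
  let B3 : (T : Subgroup G) := ⟨A3, m3⟩
  let B4 : (T : Subgroup G) := ⟨A4, m4⟩
  let B5 : (T : Subgroup G) := ⟨A5, m5⟩
  let B6 : (T : Subgroup G) := ⟨A6, m6⟩
  have s1 : v' * B1 * B2 = 1 := Subtype.ext r1
  have s2 : v' * B3 * B4 = 1 := Subtype.ext r2
  have s3 : v' * B5 * B6 = 1 := Subtype.ext r3
  have s4 : B1 * B3 * B6 = 1 := Subtype.ext r4
  have s5 : B2 * B5 * B4 = 1 := Subtype.ext r5
  have hv3 : v' * v' * v' = 1 := by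
    calc v' * v' * v' = v' * v' * v' * ((B1 * B3 * B6) * (B2 * B5 * B4)) := by
          rw [s4, s5, mul_one, mul_one]
      _ = (v' * B1 * B2) * (v' * B3 * B4) * (v' * B5 * B6) := by ac_rfl
      _ = 1 := by rw [s1, s2, s3, mul_one, mul_one]
  have hv2 : v' * v' = 1 := Subtype.ext (hsq v hv)
  rw [hv2, one_mul] at hv3
  exact congrArg Subtype.val hv3





theorem cube_eq_one_of_orderOf {g : G} (h : orderOf g = 1 ∨ orderOf g = 3) : g ^ 3 = 1 := by
  rcases h with h | h
  · rw [orderOf_eq_one_iff] at h; rw [h, one_pow]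
  · rw [← h]; exact pow_orderOf_eq_one g

theorem orderOf_eq_three_of_cube {g : G} (h : g ^ 3 = 1) (h1 : g ≠ 1) : orderOf g = 3 := by
  have : Fact (Nat.Prime 3) := ⟨Nat.prime_three⟩
  exact orderOf_eq_prime h h1

theorem index_eq_three [Finite G]
    (hord : ∀ g : G, orderOf g = 1 ∨ orderOf g = 2 ∨ orderOf g = 3)
    (hex3 : ∃ g : G, orderOf g = 3)
    (T : Sylow 2 G) (hT : 2 < Nat.card T) : (T : Subgroup G).index = 3 := by
  have h3' : Fact (Nat.Prime 3) := ⟨Nat.prime_three⟩
  have hTn : (T : Subgroup G).Normal := sylow2_normal hord T hT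
  have hsq := sq_eq_one_of_mem_sylow2 hord T
  -- the quotient is a 3-group
  have hQ : IsPGroup 3 (G ⧸ (T : Subgroup G)) := by
    intro q
    obtain ⟨g, rfl⟩ := QuotientGroup.mk_surjective q
    refine ⟨1, ?_⟩
    rw [pow_one, ← QuotientGroup.mk_pow, QuotientGroup.eq_one_iff]
    rcases hord g with h | h | h
    · rw [orderOf_eq_one_iff] at h; rw [h, one_pow]; exact (T : Subgroup G).one_mem
    · have : g ∈ T := by
        rw [mem_sylow2_iff hord T hT, ← pow_two, ← h]; exact pow_orderOf_eq_one g
      exact (T : Subgroup G).pow_mem this 3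
    · rw [← h, pow_orderOf_eq_one]; exact (T : Subgroup G).one_mem
  obtain ⟨b, hb⟩ := hQ.exists_card_eq
  rw [← Subgroup.index_eq_card] at hb
  -- b ≠ 0
  have hb0 : b ≠ 0 := by
    rintro rfl
    rw [pow_zero, Subgroup.index_eq_one] at hb
    obtain ⟨g, hg⟩ := hex3
    have hgT : g ∈ (T : Subgroup G) := by rw [hb]; exact Subgroup.mem_top g
    have := hsq g hgT
    have h2 : orderOf g ∣ 2 := orderOf_dvd_of_pow_eq_one (by rw [pow_two]; exact this)
    rw [hg] at h2
    exact absurd h2 (by norm_num)
  by_contra hne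
  have hb2 : 2 ≤ b := by
    by_contra hlt
    have : b = 1 := by omega
    rw [this, pow_one] at hb
    exact hne hb
  -- subgroup of order 9
  have hdvd : 3 ^ 2 ∣ Nat.card G := by
    have h1 : 3 ^ 2 ∣ 3 ^ b := pow_dvd_pow 3 hb2
    rw [← hb] at h1
    exact h1.trans (Subgroup.index_dvd_card _)
  obtain ⟨E, hE⟩ := Sylow.exists_subgroup_card_pow_prime 3 hdvd
  have hEcomm : ∀ a b : E, a * b = b * a := IsPGroup.commutative_of_card_eq_prime_sq hE
  have hEcube : ∀ g ∈ E, g ^ 3 = 1 := by
    intro g hg
    apply cube_eq_one_of_orderOf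
    rcases hord g with h | h | h
    · exact Or.inl h
    · exfalso
      have h1 : orderOf g ∣ Nat.card E := Subgroup.orderOf_dvd_natCard E hg
      rw [h, hE] at h1
      exact absurd h1 (by norm_num)
    · exact Or.inr h
  -- x ≠ 1 in E
  have hEne : E ≠ ⊥ := by
    intro h
    rw [h, Subgroup.card_bot] at hE
    norm_num at hE
  obtain ⟨⟨x, hxE⟩, hx1'⟩ := Subgroup.ne_bot_iff_exists_ne_one.mp hEne
  have hx1 : x ≠ 1 := fun h' => hx1' (Subtype.ext h')
  have hxo : orderOf x = 3 := orderOf_eq_three_of_cube (hEcube x hxE) hx1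
  -- y ∉ ⟨x⟩
  have hy : ∃ y ∈ E, y ∉ Subgroup.zpowers x := by
    by_contra hcon
    have hle : E ≤ Subgroup.zpowers x := by
      intro y hy
      by_contra hy'
      exact hcon ⟨y, hy, hy'⟩
    have h1 : Nat.card E ≤ Nat.card (Subgroup.zpowers x) := Subgroup.card_le_of_le hle
    rw [Nat.card_zpowers, hxo, hE] at h1
    norm_num at h1
  obtain ⟨y, hyE, hyx⟩ := hy
  have hy1 : y ≠ 1 := by
    rintro rfl
    exact hyx (Subgroup.one_mem _)
  have hyo : orderOf y = 3 := orderOf_eq_three_of_cube (hEcube y hyE) hy1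
  have hxy : x * y = y * x := congrArg Subtype.val (hEcomm ⟨x, hxE⟩ ⟨y, hyE⟩)
  have hy3 : y ^ 3 = 1 := hEcube y hyE
  have h1 : orderOf (x * y) = 3 := by
    apply orderOf_eq_three_of_cube (hEcube _ (E.mul_mem hxE hyE))
    intro h
    apply hyx
    have : y = x⁻¹ := (inv_eq_of_mul_eq_one_right h).symm
    rw [this]
    exact Subgroup.inv_mem _ (Subgroup.mem_zpowers x)
  have h2 : orderOf (x * y * y) = 3 := by
    apply orderOf_eq_three_of_cube (hEcube _ (E.mul_mem (E.mul_mem hxE hyE) hyE))
    intro h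
    apply hyx
    have hyy : y * y = x⁻¹ := by
      rw [mul_assoc] at h
      exact (inv_eq_of_mul_eq_one_right h).symm
    have : y = (y * y) * (y * y) := by
      calc y = y * y ^ 3 := by rw [hy3, mul_one]
        _ = (y * y) * (y * y) := by rw [pow_succ, pow_two]; simp only [mul_assoc]
    rw [this, hyy]
    exact Subgroup.mul_mem _ (Subgroup.inv_mem _ (Subgroup.mem_zpowers x))
      (Subgroup.inv_mem _ (Subgroup.mem_zpowers x))
  -- nontrivial v ∈ T
  have hTne : (T : Subgroup G) ≠ ⊥ := by
    intro h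
    rw [h, Subgroup.card_bot] at hT
    omega
  obtain ⟨v, hv1⟩ := Subgroup.ne_bot_iff_exists_ne_one.mp hTne
  apply hv1
  apply Subtype.ext
  exact no_rank_two hord T x y hxy hxo hyo h1 h2 v.1 v.2





theorem caseA [Finite G]
    (hord : ∀ g : G, orderOf g = 1 ∨ orderOf g = 2 ∨ orderOf g = 3)
    (T : Sylow 2 G) (hT : Nat.card T = 2) :
    ∃ N : Subgroup G, N.Normal ∧ (IsMulCommutative N ∧ ∀ a ∈ N, a ^ 3 = 1) ∧ N.index = 2 := by
  have h2' : Fact (Nat.Prime 2) := ⟨Nat.prime_two⟩
  have hsq := sq_eq_one_of_mem_sylow2 hord T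
  -- the involution of T
  obtain ⟨t', ht'1, ht'u⟩ := (Nat.card_eq_two_iff' (1 : (T : Subgroup G))).mp hT
  set t : G := t'.1 with htdef
  have htT : t ∈ T := t'.2
  have ht1 : t ≠ 1 := fun h => ht'1 (Subtype.ext h)
  have hTel : ∀ s ∈ T, s = 1 ∨ s = t := by
    intro s hs
    by_cases h : s = 1
    · exact Or.inl h
    · right
      have := ht'u ⟨s, hs⟩ (fun h' => h (congrArg Subtype.val h'))
      exact congrArg Subtype.val this
  have htt : t * t = 1 := hsq t htT
  have htinv : t⁻¹ = t := inv_eq_of_mul_eq_one_right htt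
  have hP : Subgroup.normalizer ((T : Subgroup G) : Set G) ≤ Subgroup.centralizer ((T : Subgroup G) : Set G) := by
    intro g hg
    rw [Subgroup.mem_centralizer_iff]
    intro s hs
    rcases hTel s hs with rfl | rfl
    · rw [one_mul, mul_one]
    · have h1 : g * t * g⁻¹ ∈ (T : Subgroup G) := (Subgroup.mem_normalizer_iff.mp hg t).mp htT
      rcases hTel _ h1 with h | h
      · exfalso
        apply ht1
        have : g * t = g := by
          calc g * t = (g * t * g⁻¹) * g := by group
            _ = g := by rw [h, one_mul]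
        exact mul_eq_left.mp this
      · calc t * g = (g * t * g⁻¹) * g := by rw [h]
          _ = g * t := by group
  let N : Subgroup G := (MonoidHom.transferSylow T hP).ker
  have hc : Subgroup.IsComplement' N (T : Subgroup G) := MonoidHom.ker_transferSylow_isComplement' T hP
  have hNn : N.Normal := MonoidHom.normal_ker _
  have hNi : N.index = 2 := by rw [hc.symm.index_eq_card, hT]
  have hTi : (T : Subgroup G).index = Nat.card N := hc.index_eq_card
  have htN : t ∉ N := by
    intro h
    have hdisj : N ⊓ (T : Subgroup G) = ⊥ := disjoint_iff.mp hc.disjoint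
    have : t ∈ N ⊓ (T : Subgroup G) := ⟨h, htT⟩
    rw [hdisj, Subgroup.mem_bot] at this
    exact ht1 this
  -- t inverts N
  have hinv : ∀ n ∈ N, t * n * t = n⁻¹ := by
    intro n hn
    set g := t * n with hg
    have hgN : g ∉ N := by
      rw [hg, Subgroup.mul_mem_iff_of_index_two hNi]
      intro h
      exact htN (h.mpr hn)
    have hggN : g * g ∈ N := Subgroup.mul_self_mem_of_index_two hNi g
    have hg3 : g * g * g ∉ N := by
      rw [Subgroup.mul_mem_iff_of_index_two hNi]
      intro h
      exact hgN (h.mp hggN)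
    have hgg : g * g = 1 := by
      rcases hord g with h | h | h
      · rw [orderOf_eq_one_iff] at h; rw [h, one_mul]
      · rw [← pow_two, ← h]; exact pow_orderOf_eq_one g
      · exfalso
        apply hg3
        have : g * g * g = 1 := by
          have := pow_orderOf_eq_one g
          rw [h, pow_succ, pow_two] at this
          exact this
        rw [this]; exact N.one_mem
    -- t n t n = 1
    have : t * n * t * n = 1 := by
      calc t * n * t * n = (t * n) * (t * n) := by simp only [mul_assoc]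
        _ = 1 := hgg
    exact (inv_eq_of_mul_eq_one_left this).symm
  have hNcomm : ∀ a b : G, a ∈ N → b ∈ N → a * b = b * a := by
    intro a b ha hb
    have h1 := hinv (a * b) (N.mul_mem ha hb)
    have h2 : t * (a * b) * t = (t * a * t) * (t * b * t) := by
      calc t * (a * b) * t = t * a * (t * t) * b * t := by rw [htt, mul_one]; simp only [mul_assoc]
        _ = (t * a * t) * (t * b * t) := by simp only [mul_assoc]
    rw [h2, hinv a ha, hinv b hb, mul_inv_rev] at h1
    -- a⁻¹ b⁻¹ = b⁻¹ a⁻¹
    have h3 : (a⁻¹ * b⁻¹)⁻¹ = (b⁻¹ * a⁻¹)⁻¹ := by rw [h1]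
    simpa using h3.symm
  refine ⟨N, hNn, ⟨⟨⟨fun a b => Subtype.ext (hNcomm a b a.2 b.2)⟩⟩, ?_⟩, hNi⟩
  intro n hn
  rcases hord n with h | h | h
  · rw [orderOf_eq_one_iff] at h; rw [h, one_pow]
  · exfalso
    have h1 : orderOf n ∣ Nat.card N := Subgroup.orderOf_dvd_natCard N hn
    rw [h, ← hTi] at h1
    exact T.not_dvd_index h1
  · rw [← h]; exact pow_orderOf_eq_one n


end Cfsg.Agent.Lib.Helper66.Orders123
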