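import Cfsg.Agent.Lib.Helper66.S3Defs
import Cfsg.Agent.Lib.Helper66.S3.TC
import Cfsg.Agent.Lib.Helper66.S3.CA
import Cfsg.Agent.Lib.Helper66.S3.C1A
import Cfsg.Agent.Lib.Helper66.S3.C1B
import Cfsg.Agent.Lib.Helper66.S3.ZF
import Cfsg.Agent.Lib.Helper66.S3.ZA
import Cfsg.Agent.Lib.Helper66.S3.K0
import Cfsg.Agent.Lib.Helper66.S3.K1
import Cfsg.Agent.Lib.Helper66.S3.K2

/-!
# S4305 hive: the key proposition, assembled from the leaves (helper66)
-/

set_option autoImplicit false

namespace Cfsg.Agent.Lib.Helper66.S3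

universe u

section decomp

variable {H V : Type u} [Group H] [CommGroup V] [MulDistribMulAction A3 H]
  [MulDistribMulAction A3 V] [MulDistribMulAction H V] {p r : ℕ} {F : Subgroup H}

/-- K3: configuration C (`F` self-centralizing) is impossible. -/
theorem configC_false (cfg : Config H V p r F)
    (hself : ∀ h : H, (∀ f ∈ F, h * f = f * h) → h ∈ F) : False := by
  by_cases hfix : ∀ (h : H) (C : Subgroup H), comp (V := V) F C ≠ ⊥ → mapH h C = C
  · by_cases hsig : ∀ C : Subgroup H, comp (V := V) F C ≠ ⊥ → mapA sig C = C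
    · exact configC_allfixed_sig cfg hself hfix hsig
    · push Not at hsig
      obtain ⟨C, hC0, hCs⟩ := hsig
      exact three_comp_false cfg hfix C hC0 hCs
  · push Not at hfix
    obtain ⟨h, C, hC0, hne⟩ := hfix
    by_cases hs : ∀ h : H, h⁻¹ * sig • h ∈ F
    · exact configC_moved_1a_false cfg hself ⟨h, C, hC0, hne⟩ hs
    · exact configC_moved_1b_false cfg hself ⟨h, C, hC0, hne⟩ hs

/-- K4: configuration Z (`F` central, `r ≠ p`) is impossible. -/
theorem configZ_false (cfg : Config H V p r F) (hcent : ∀ h : H, ∀ f ∈ F, h * f = f * h)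
    (hrp : r ≠ p) : False := by
  have hfix := configZ_fix cfg hcent
  by_cases hsig : ∀ C : Subgroup H, comp (V := V) F C ≠ ⊥ → mapA sig C = C
  · exact configZ_allsig_false cfg hcent hrp hsig
  · push Not at hsig
    obtain ⟨C, hC0, hCs⟩ := hsig
    exact three_comp_false cfg hfix C hC0 hCs

theorem KP_faithful (hyp : KPHyp H V) (hf : Faithful H V) (ih : IHyp H) : KPConcl H V := by
  by_contra hcon
  have hnab : ∃ x y : H, x * y ≠ y * x := by
    by_contra hab
    push Not at hab
    apply hcon
    intro h hh v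
    have : commutator H = ⊥ := by
      rw [commutator_def, Subgroup.commutator_eq_bot_iff_le_centralizer]
      intro x _ y _
      exact hab y x
    rw [this, Subgroup.mem_bot] at hh
    rw [hh, one_smul]
  obtain ⟨p, r, F, cfg, h | ⟨h1, h2⟩⟩ := exists_config hyp hf hnab
    (fun N hN hNA hne => proper_normal_abelian hyp hf ih N hN hNA hne)
  · exact configC_false cfg h
  · exact configZ_false cfg h1 h2

end decomp

theorem KP_all : ∀ (n : ℕ) (H V : Type u) [Group H] [CommGroup V] [MulDistribMulAction A3 H]
    [MulDistribMulAction A3 V] [MulDistribMulAction H V], Nat.card H = n → KPHyp H V →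
    KPConcl H V := by
  intro n
  induction n using Nat.strong_induction_on with
  | _ n ih =>
    intro H V _ _ _ _ _ hn hyp
    have ih' : IHyp H := by
      intro H' V' _ _ _ _ _ hlt hyp'
      exact ih (Nat.card H') (hn ▸ hlt) H' V' rfl hyp'
    by_cases hf : Faithful H V
    · exact KP_faithful hyp hf ih'
    · exact KP_nonfaithful hyp hf ih'

end Cfsg.Agent.Lib.Helper66.S3
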