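import Cfsg.Agent.Lib.Helper66.S3KP
import Cfsg.Agent.Lib.Helper66.S3.I1
import Cfsg.Agent.Lib.Helper66.S3.I2
import Cfsg.Agent.Lib.Helper66.S3.I3
import Cfsg.Agent.Lib.Helper66.S3.I4
import Cfsg.Agent.Lib.Helper66.S3.I5of

/-!
# S4305 hive: the main theorem, assembled (helper66)
-/

set_option autoImplicit false

namespace Cfsg.Agent.Lib.Helper66.S3

universe u

theorem main_aux : ∀ (n : ℕ) (G : Type u) [Group G] [Finite G] [Group.IsSolvable G]
    [MulDistribMulAction A3 G], Nat.card G = n → (Nat.card G).Coprime 6 →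
    (∀ g : G, (∀ a : A3, a • g = g) → g = 1) → Group.IsNilpotent ↥(commutator G) := by
  intro n
  induction n using Nat.strong_induction_on with
  | _ n ih =>
    intro G _ _ _ _ hn hcop hfpf
    by_cases hG : Nontrivial G
    · obtain ⟨V, hV, hVA, hne, hmin⟩ := min_exists (G := G) hG
      have hVcomm := min_abelian V hV hVA hmin
      have hcent := KP_conj_of (fun H V _ _ _ _ _ hyp => KP_all (Nat.card H) H V rfl hyp)
        hcop hfpf V hV hVA hne hmin hVcomm
      have := hV
      obtain ⟨inst, hq⟩ := quot_action hcop hfpf V hVA hVcomm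
      have hcard : Nat.card G = Nat.card (G ⧸ V) * Nat.card V :=
        Subgroup.card_eq_card_quotient_mul_card_subgroup V
      have hV1 : 1 < Nat.card V := by
        rcases Nat.lt_or_ge 1 (Nat.card V) with h | h
        · exact h
        · exfalso
          have hpos : 0 < Nat.card V := Nat.card_pos
          have h1 : Nat.card V = 1 := by omega
          exact hne ((Subgroup.card_eq_one).mp h1)
      have hqpos : 0 < Nat.card (G ⧸ V) := Nat.card_pos
      have hlt : Nat.card (G ⧸ V) < n := by
        rw [← hn, hcard]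
        nlinarith
      have hcopq : (Nat.card (G ⧸ V)).Coprime 6 :=
        Nat.Coprime.coprime_dvd_left ⟨Nat.card V, hcard⟩ hcop
      have := ih (Nat.card (G ⧸ V)) hlt (G ⧸ V) rfl hcopq hq
      exact step V hcent this
    · rw [not_nontrivial_iff_subsingleton] at hG
      infer_instance

theorem main {G : Type u} [Group G] [Finite G] [Group.IsSolvable G]
    [MulDistribMulAction (Equiv.Perm (Fin 3)) G] (hcop : (Nat.card G).Coprime 6)
    (hfpf : ∀ g : G, (∀ a : Equiv.Perm (Fin 3), a • g = g) → g = 1) :
    Group.IsNilpotent ↥(commutator G) :=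
  main_aux (Nat.card G) G rfl hcop hfpf

end Cfsg.Agent.Lib.Helper66.S3
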