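import Cfsg.Prelude.Def_KGroupFacts
import Mathlib.GroupTheory.SpecificGroups.Cyclic

set_option autoImplicit false

namespace Cfsg.Agent.Lib.Helper66

universe u v

theorem trivialMultiplier_of_forall_ker_eq_bot {G : Type u} [Group G]
    (h : ∀ (Γ : Type u) [Group Γ] [Finite Γ] (σ : Γ →* G), Cfsg.IsStemExtension σ → σ.ker = ⊥)
    [Finite G] : Cfsg.HasCyclicSchurMultiplier G 1 := by
  refine ⟨⟨G, inferInstance, inferInstance, MonoidHom.id G, ⟨Function.surjective_id, ?_, ?_⟩, ?_⟩, ?_⟩
  · intro x hx
    rw [MonoidHom.mem_ker] at hx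
    simp only [MonoidHom.id_apply] at hx
    subst hx
    exact Subgroup.one_mem _
  · intro x hx
    rw [MonoidHom.mem_ker] at hx
    simp only [MonoidHom.id_apply] at hx
    subst hx
    exact Subgroup.one_mem _
  · have hU : Subsingleton (MonoidHom.id G).ker := by
      constructor
      intro a b
      apply Subtype.ext
      have ha := a.2
      have hb := b.2
      rw [MonoidHom.mem_ker] at ha hb
      simp only [MonoidHom.id_apply] at ha hb
      rw [ha, hb]
    have : Subsingleton (Multiplicative (ZMod 1)) := by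
      change Subsingleton (ZMod 1)
      infer_instance
    exact ⟨{ toFun := fun _ => 1, invFun := fun _ => 1, left_inv := fun _ => Subsingleton.elim _ _,
             right_inv := fun _ => Subsingleton.elim _ _, map_mul' := fun _ _ => Subsingleton.elim _ _ }⟩
  · intro Γ _ _ σ hσ
    refine ⟨1, ?_⟩
    intro y
    refine ⟨1, ?_⟩
    have hk := h Γ σ hσ
    apply Subtype.ext
    have hy : (y : Γ) ∈ (⊥ : Subgroup Γ) := hk ▸ y.2
    rw [Subgroup.mem_bot] at hy
    simp [hy]

theorem ker_eq_bot_of_trivialMultiplier {G : Type u} [Group G]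
    (hG : Cfsg.HasCyclicSchurMultiplier G 1)
    (Γ : Type u) [Group Γ] [Finite Γ] (σ : Γ →* G) (hσ : Cfsg.IsStemExtension σ) : σ.ker = ⊥ := by
  obtain ⟨π, hπ⟩ := hG.2 Γ σ hσ
  rw [Subgroup.eq_bot_iff_forall]
  intro x hx
  obtain ⟨a, ha⟩ := hπ ⟨x, hx⟩
  have : Subsingleton (Multiplicative (ZMod 1)) := by
    change Subsingleton (ZMod 1)
    infer_instance
  have h1 : a = 1 := Subsingleton.elim _ _
  rw [h1, map_one] at ha
  have := congrArg Subtype.val ha
  simpa using this.symm

end Cfsg.Agent.Lib.Helper66
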