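import Cfsg.Agent.Lib.Helper66.TpDefs
import Cfsg.Agent.Lib.Helper43.TpD5
import Cfsg.Agent.Lib.Helper84.TpI5
import Cfsg.Agent.Lib.Helper49.TpBSW2
import Cfsg.Agent.Lib.Helper62.TpI3
import Cfsg.Agent.Lib.Helper43.TpI2
import Cfsg.Agent.Lib.Helper80.TpI7b
import Cfsg.Agent.Lib.Helper49.TpI7c
import Cfsg.Agent.Lib.Helper49.TpI7a
import Cfsg.Agent.Lib.Helper84.TpI6
import Cfsg.Agent.Lib.Helper62.TpI4
import Cfsg.Agent.Lib.Helper43.TpI1
import Cfsg.Agent.Lib.Helper69.TpBSW1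
import Cfsg.Agent.Lib.Helper5.TpD3
import Cfsg.Agent.Lib.Helper5.TpD1
import Cfsg.Agent.Lib.Helper33.TpCU
import Cfsg.Agent.Lib.Helper73.TpSYL
import Cfsg.Agent.Lib.Helper94.TpQUOT
import Cfsg.Agent.Lib.Helper44.TpODD
import Cfsg.Agent.Lib.Helper44.TpEVEN
import Cfsg.Agent.Lib.Helper94.TpSTAR
import Cfsg.Agent.Lib.Helper70.TpA
import Cfsg.Agent.Lib.Helper70.TpD4
import Cfsg.Agent.Lib.Helper70.TpD2

/-!
# Tp hive (owner helper66) : assembly for S4017
-/

set_option autoImplicit false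

namespace Cfsg.Agent.Lib.Helper66.Tp

universe u

section ctx

variable {p : ℕ} {G : Type*} [Group G] [Finite G]

theorem tpm_card_Q (s : Setup p G) : Nat.card (s.Q : Subgroup G) = p + 1 := by
  rw [Sylow.card_eq_multiplicity, s.ctx.two_part]

theorem tpm_exists_ne_one (s : Setup p G) : ∃ u ∈ (s.Q : Subgroup G), u ≠ 1 := by
  have h := tpm_card_Q s
  by_contra hne
  push_neg at hne
  have hbot : (s.Q : Subgroup G) = ⊥ := (Subgroup.eq_bot_iff_forall _).2 hne
  rw [hbot, Subgroup.card_bot] at h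
  have := s.ctx.hp.pos
  omega

theorem tpm_orderOf_two (s : Setup p G) {u : G} (hu : u ∈ (s.Q : Subgroup G)) (hu1 : u ≠ 1) :
    orderOf u = 2 := by
  haveI : Fact (Nat.Prime 2) := ⟨Nat.prime_two⟩
  exact orderOf_eq_prime (by rw [sq]; exact s.hexp u hu) hu1

theorem tpm_card_centralizer_conj (g t : G) :
    Nat.card (Subgroup.centralizer ({g * t * g⁻¹} : Set G)) =
      Nat.card (Subgroup.centralizer ({t} : Set G)) := by
  refine Nat.card_congr ⟨fun c => ⟨g⁻¹ * c.1 * g, ?_⟩, fun c => ⟨g * c.1 * g⁻¹, ?_⟩, ?_, ?_⟩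
  · have hc := c.2
    rw [Subgroup.mem_centralizer_singleton_iff] at hc ⊢
    have h1 : g⁻¹ * (c.1 * (g * t * g⁻¹)) * g = g⁻¹ * ((g * t * g⁻¹) * c.1) * g := by rw [hc]
    calc g⁻¹ * c.1 * g * t = g⁻¹ * (c.1 * (g * t * g⁻¹)) * g := by group
      _ = g⁻¹ * ((g * t * g⁻¹) * c.1) * g := h1
      _ = t * (g⁻¹ * c.1 * g) := by group
  · have hc := c.2
    rw [Subgroup.mem_centralizer_singleton_iff] at hc ⊢
    calc g * c.1 * g⁻¹ * (g * t * g⁻¹) = g * (c.1 * t) * g⁻¹ := by group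
      _ = g * (t * c.1) * g⁻¹ := by rw [hc]
      _ = g * t * g⁻¹ * (g * c.1 * g⁻¹) := by group
  · intro c
    apply Subtype.ext
    simp only
    group
  · intro c
    apply Subtype.ext
    simp only
    group

/-- every involution is conjugate to an element of `Q \ {1}` -/
theorem tpm_conj_mem_Q (s : Setup p G) {t : G} (ht : orderOf t = 2) :
    ∃ g : G, g * t * g⁻¹ ∈ (s.Q : Subgroup G) ∧ g * t * g⁻¹ ≠ 1 := by
  haveI : Fact (Nat.Prime 2) := ⟨Nat.prime_two⟩
  have hpg : IsPGroup 2 (Subgroup.zpowers t) := by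
    apply IsPGroup.of_card (n := 1)
    rw [Nat.card_zpowers, ht, pow_one]
  obtain ⟨Q', hQ'⟩ := hpg.exists_le_sylow
  obtain ⟨g, hg⟩ := MulAction.exists_smul_eq G Q' s.Q
  refine ⟨g, ?_, ?_⟩
  · rw [← hg, Sylow.coe_subgroup_smul]
    have : t ∈ (Q' : Subgroup G) := hQ' (Subgroup.mem_zpowers t)
    have h2 := Subgroup.smul_mem_pointwise_smul t (MulAut.conj g) (Q' : Subgroup G) this
    simpa [MulAut.smul_def] using h2
  · intro h
    have : t = 1 := by
      have h3 : g⁻¹ * (g * t * g⁻¹) * g = g⁻¹ * 1 * g := by rw [h]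
      simpa [mul_assoc] using h3
    rw [this, orderOf_one] at ht
    omega

theorem tpm_dichotomy (s : Setup p G) {u : G} (hu : u ∈ (s.Q : Subgroup G)) (hu1 : u ≠ 1) :
    (∀ v ∈ (s.Q : Subgroup G), ∀ y ∈ Yof p u, v * y = y * v) ∨ CaseII s u := by
  by_cases hnc : ∀ v ∈ (s.Q : Subgroup G), ∀ y ∈ Yof p u, v * y = y * v
  · exact Or.inl hnc
  · right
    obtain ⟨hYp, hcu⟩ := card_centralizer_eq s hu hu1
    haveI : Fact p.Prime := ⟨s.ctx.hp⟩
    obtain ⟨R, hYR⟩ := hYp.exists_le_sylow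
    obtain ⟨hQR, hcard⟩ := dich1 s hu hu1 hnc R hYR
    have hCRQ := dich2 s R hQR hcard
    have h3 : ∀ z ∈ (R : Subgroup G), z ≠ 1 →
        2 ∣ Nat.card (Subgroup.centralizer ({z} : Set G)) →
        Subgroup.centralizer ({z} : Set G) ≤ Subgroup.normalizer ((R : Subgroup G) : Set G) :=
      fun z hz hz1 heven => dich3 s hu hu1 R hYR hCRQ hz hz1 heven
    have h4 : ∀ v ∈ (s.Q : Subgroup G), v ≠ 1 → v ≠ u → ∀ z ∈ (R : Subgroup G),
        v * z = z * v → z = 1 :=
      fun v hv hv1 hvu => dich4 s hu hu1 R hYR hQR h3 hv hv1 hvu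
    have hne : Yof p u ≠ ⊥ := by
      intro h
      apply hnc
      intro v _ y hy
      rw [h, Subgroup.mem_bot] at hy
      subst hy
      simp
    exact dich5 s hu hu1 hne hcu R hYR hQR hcard h3 h4

theorem tpm_false_of_caseI (s : Setup p G) (hI : CaseI s) : False := by
  have hcu : ∀ u ∈ (s.Q : Subgroup G), u ≠ 1 →
      Nat.card (Subgroup.centralizer ({u} : Set G)) = Nat.card (Yof p u) * (p + 1) :=
    fun u hu hu1 => (card_centralizer_eq s hu hu1).2
  have hYp : ∀ u ∈ (s.Q : Subgroup G), u ≠ 1 → IsPGroup p (Yof p u) :=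
    fun u hu hu1 => (card_centralizer_eq s hu hu1).1
  obtain ⟨hcomm, hTI⟩ := caseI_basic s hI hcu hYp
  have h2 : ∀ a b : G, orderOf a = 2 → orderOf b = 2 → a * b ≠ b * a →
      (∃ j : ℕ, orderOf (a * b) = p ^ j) ∧
        ¬ 2 ∣ Nat.card (Subgroup.centralizer ({a * b} : Set G)) :=
    fun a b ha hb hab => noncomm_invol s hcomm ha hb hab
  have h3 : ∀ b d y : G, orderOf b = 2 → d ≠ 1 → (∃ k : ℕ, orderOf d = p ^ k) → d * b = b * d →
      y * d = d * y → b * y * b⁻¹ = y⁻¹ → ¬ 2 ∣ orderOf y → y = 1 :=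
    fun b d y hb hd1 hdp hdb hyd hinv hodd => no_inverted_in_cent s hI hTI hb hd1 hdp hdb hyd hinv hodd
  have h4 : ∀ a b : G, orderOf a = 2 → orderOf b = 2 → a * b ≠ b * a →
      ∃ A : Sylow p G, (A : Subgroup G) = Subgroup.centralizer ({a * b} : Set G) ∧
        ∀ z ∈ (A : Subgroup G), b * z * b⁻¹ = z⁻¹ :=
    fun a b ha hb hab => sylow_of_noncomm s h2 h3 ha hb hab
  have hY : ∀ u ∈ (s.Q : Subgroup G), u ≠ 1 → Yof p u = ⊥ :=
    fun u hu hu1 => Yof_eq_bot s hcomm hTI hYp h4 hu hu1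
  have hcent : ∀ t : G, orderOf t = 2 →
      Nat.card (Subgroup.centralizer ({t} : Set G)) = p + 1 := by
    intro t ht
    obtain ⟨g, hgQ, hg1⟩ := tpm_conj_mem_Q s ht
    rw [← tpm_card_centralizer_conj g t, hcu _ hgQ hg1, hY _ hgQ hg1, Subgroup.card_bot, one_mul]
  obtain ⟨b, hb, hb1⟩ := tpm_exists_ne_one s
  have hinvol := card_invol s hcent
  have heq := card_invol_eq s hcent h4 hb hb1
  have hp := s.ctx.hp
  have hpG := s.ctx.pdvd
  by_cases hex : ∃ A : Sylow p G, ∀ z ∈ (A : Subgroup G), b * z * b⁻¹ = z⁻¹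
  · have hN : ∀ (A : Sylow p G) (t : G), orderOf t = 2 →
        (∀ z ∈ (A : Subgroup G), t * z * t⁻¹ = z⁻¹) →
        Nat.card (Subgroup.normalizer ((A : Subgroup G) : Set G)) = 2 * Nat.card (A : Subgroup G) ∧
          Subgroup.centralizer ((A : Subgroup G) : Set G) = (A : Subgroup G) :=
      fun A t ht hinv => card_normalizer_sylow s hcent h4 A ht hinv
    have hlines := card_lines s hinvol hN hb hb1 hex
    set ℓ := Nat.card {A : Sylow p G // ∀ z ∈ (A : Subgroup G), b * z * b⁻¹ = z⁻¹} with hℓ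
    set I := Nat.card {t : G // orderOf t = 2} with hI'
    set P := p ^ (Nat.card G).factorization p with hP
    -- p ∣ I
    have hcop : Nat.Coprime p (p + 1) := by simp
    have hpI : p ∣ I := by
      have : p ∣ I * (p + 1) := hinvol ▸ hpG
      exact (Nat.Coprime.dvd_mul_right hcop).1 this
    have hpl : p ∣ ℓ * (P - 1) := by
      rw [heq] at hpI
      exact (Nat.dvd_add_right (dvd_refl p)).1 hpI
    have hv : 1 ≤ (Nat.card G).factorization p :=
      (hp.dvd_iff_one_le_factorization Nat.card_pos.ne').1 hpG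
    have hpP : p ∣ P := dvd_pow_self p (by omega)
    have hP1 : 1 ≤ P := Nat.one_le_pow _ _ hp.pos
    rcases (Nat.Prime.dvd_mul hp).1 hpl with h | h
    · have : p ∣ p + 1 := hlines ▸ Dvd.dvd.mul_right h 2
      have : p ∣ 1 := (Nat.dvd_add_right (dvd_refl p)).1 this
      exact hp.one_lt.ne' (Nat.dvd_one.1 this)
    · have : p ∣ P - (P - 1) := Nat.dvd_sub hpP h
      have h1 : P - (P - 1) = 1 := by omega
      rw [h1] at this
      exact hp.one_lt.ne' (Nat.dvd_one.1 this)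
  · -- no Sylow p-subgroup is inverted by b: |G| = p (p + 1)
    have hempty : Nat.card {A : Sylow p G // ∀ z ∈ (A : Subgroup G), b * z * b⁻¹ = z⁻¹} = 0 := by
      haveI : IsEmpty {A : Sylow p G // ∀ z ∈ (A : Subgroup G), b * z * b⁻¹ = z⁻¹} :=
        ⟨fun A => hex ⟨A.1, A.2⟩⟩
      exact Nat.card_of_isEmpty
    rw [hempty, zero_mul, add_zero] at heq
    rw [heq] at hinvol
    obtain ⟨r, hr, hrG, hr2, hrp⟩ := s.ctx.bad
    rw [← hinvol] at hrG
    rcases (Nat.Prime.dvd_mul hr).1 hrG with h | h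
    · exact hrp ((Nat.prime_dvd_prime_iff_eq hr hp).1 h)
    · rw [← s.ctx.two_part] at h
      exact hr2 ((Nat.prime_dvd_prime_iff_eq hr Nat.prime_two).1 (hr.dvd_of_dvd_pow h))

theorem tpm_ctx_false (s : Setup p G) : False := by
  by_cases hI : CaseI s
  · exact tpm_false_of_caseI s hI
  · unfold CaseI at hI
    push_neg at hI
    obtain ⟨u, hu, hu1, v, hv, y, hy, hvy⟩ := hI
    have hcu := (card_centralizer_eq s hu hu1).2
    rcases tpm_dichotomy s hu hu1 with h | h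
    · exact hvy (h v hv y hy)
    · exact false_of_bsw_concl s hu hu1 hcu h (bsw_concl_of_caseII s hu hu1 hcu h)

end ctx

theorem tpm_simple {G : Type u} [Group G] [Finite G] {p : ℕ} (hp : p.Prime) (hp2 : p ≠ 2)
    (hG : Hyp p G) (ih : IH p G) (hstar : Star p G) (hbad : Bad p G) : IsSimpleGroup G := by
  haveI : Nontrivial G := by
    rw [← Finite.one_lt_card_iff_nontrivial]
    have := Nat.le_of_dvd Nat.card_pos hG.1
    omega
  refine @IsSimpleGroup.mk G _ inferInstance (fun N hN => ?_)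
  by_cases hNtop : N = ⊤
  · exact Or.inr hNtop
  · left
    by_cases h2 : 2 ∣ Nat.card N
    · exact (no_even_normal hp hp2 hG.2.1 hstar hbad N hNtop h2).elim
    · have hNp := isPGroup_of_odd_normal hp hp2 hG.2.1 hG.1 hstar N h2
      by_contra hN1
      exact false_of_normal_pGroup hp hp2 hG ih hstar hbad N hN1 hNp

theorem tpm_caseB : ∀ (n : ℕ) (G : Type u) [Group G] [Finite G] {p : ℕ}, p.Prime → p ≠ 2 →
    Nat.card G = n → Hyp p G → Concl p G := by
  intro n
  induction n using Nat.strong_induction_on with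
  | _ n IHn =>
    intro G _ _ p hp hp2 hn hG
    have ih : IH p G := fun G' _ _ hlt hG' => IHn (Nat.card G') (hn ▸ hlt) G' hp hp2 rfl hG'
    by_contra hC
    have hbad : Bad p G := by
      unfold Concl at hC
      push_neg at hC
      obtain ⟨r, hr, hrG, hr2, hrp⟩ := hC
      exact ⟨r, hr, hrG, hr2, hrp⟩
    rcases lt_or_eq_of_le hG.2.2.2.1 with hlt | heq
    · apply hC
      intro r hr hrG
      exact (caseA hp Nat.prime_two hp2 hG.2.1 hG.1 hG.2.2.1 hlt r hr hrG).symm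
    · have hstar := star_of_ih hp hG ih
      have hsimple := tpm_simple hp hp2 hG ih hstar hbad
      have htwo : 2 ^ (Nat.card G).factorization 2 = p + 1 := by
        have := Nat.one_le_two_pow (n := (Nat.card G).factorization 2)
        omega
      have c : Ctx p G := ⟨hp, hp2, hsimple, hstar, htwo, hG.2.2.2.2, hG.2.1, hbad⟩
      obtain ⟨s⟩ := exists_setup c
      exact tpm_ctx_false s

end Cfsg.Agent.Lib.Helper66.Tp
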