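import Mathlib

/-!
# Tp hive (owner helper66) : the orbit engine

A `p`-element `g` normalizing a subgroup `Q₁` with at most `p + 1` elements either centralizes `Q₁`, or `|Q₁| = p + 1`
and `⟨g⟩` is transitive on `Q₁ \ {1}`.
-/

set_option autoImplicit false

namespace Cfsg.Agent.Lib.Helper66.Tp

section

variable {G : Type*} [Group G]

theorem tporb_smul_eq {g : G} (hfin : IsOfFinOrder g) (φ : Subgroup.zpowers (MulAut.conj g)) (w : G) :
    ∃ k : ℕ, φ • w = g ^ k * w * (g ^ k)⁻¹ := by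
  obtain ⟨φ, hφ⟩ := φ
  obtain ⟨n, rfl⟩ := Subgroup.mem_zpowers_iff.1 hφ
  have h1 : g ^ n ∈ Submonoid.powers g :=
    hfin.mem_powers_iff_mem_zpowers.2 (Subgroup.zpow_mem_zpowers g n)
  obtain ⟨k, hk⟩ := (Submonoid.mem_powers_iff _ _).1 h1
  refine ⟨k, ?_⟩
  rw [Subgroup.mk_smul, ← map_zpow, MulAut.smul_def, MulAut.conj_apply, hk]

theorem tporb_pow_smul (g : G) (k : ℕ) (w : G) :
    (⟨(MulAut.conj g) ^ k, Subgroup.pow_mem _ (Subgroup.mem_zpowers _) k⟩ :
      Subgroup.zpowers (MulAut.conj g)) • w = g ^ k * w * (g ^ k)⁻¹ := by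
  rw [Subgroup.mk_smul, ← map_pow, MulAut.smul_def, MulAut.conj_apply]

theorem tporb_ncard_orbit {p : ℕ} (hp : p.Prime) {g : G} (hgp : ∃ k : ℕ, orderOf g = p ^ k) (w : G) :
    ∃ i : ℕ, (MulAction.orbit (Subgroup.zpowers (MulAut.conj g)) w).ncard = p ^ i := by
  obtain ⟨k, hk⟩ := hgp
  have h1 : (MulAction.orbit (Subgroup.zpowers (MulAut.conj g)) w).ncard ∣
      Nat.card (Subgroup.zpowers (MulAut.conj g)) := by
    rw [← MulAction.index_stabilizer]
    exact Subgroup.index_dvd_card _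
  rw [Nat.card_zpowers] at h1
  have h2 : orderOf (MulAut.conj g) ∣ p ^ k := hk ▸ orderOf_map_dvd (MulAut.conj : G →* MulAut G) g
  obtain ⟨i, -, hi⟩ := (Nat.dvd_prime_pow hp).1 (h1.trans h2)
  exact ⟨i, hi⟩

theorem tporb_main {p : ℕ} (hp : p.Prime) (Q₁ : Subgroup G) [Finite Q₁]
    (hcard : Nat.card Q₁ ≤ p + 1) {g : G} (hgN : g ∈ Subgroup.normalizer (Q₁ : Set G))
    (hgp : ∃ k : ℕ, orderOf g = p ^ k) :
    g ∈ Subgroup.centralizer (Q₁ : Set G) ∨
    (Nat.card Q₁ = p + 1 ∧ ∀ u ∈ Q₁, ∀ v ∈ Q₁, u ≠ 1 → v ≠ 1 →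
      ∃ k : ℕ, g ^ k * u * (g ^ k)⁻¹ = v) := by
  by_cases hc : g ∈ Subgroup.centralizer (Q₁ : Set G)
  · exact Or.inl hc
  right
  have hw : ∃ w ∈ Q₁, g * w * g⁻¹ ≠ w := by
    by_contra hcon
    push_neg at hcon
    apply hc
    rw [Subgroup.mem_centralizer_iff]
    intro h hh
    have h1 := hcon h hh
    calc h * g = (g * h * g⁻¹) * g := by rw [h1]
      _ = g * h := by group
  obtain ⟨w, hwQ, hwg⟩ := hw
  have hfin : IsOfFinOrder g := by
    obtain ⟨k, hk⟩ := hgp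
    rw [← orderOf_pos_iff, hk]
    exact pow_pos hp.pos k
  have hw1 : w ≠ 1 := by
    rintro rfl
    simp at hwg
  have hpowN : ∀ k : ℕ, g ^ k ∈ Subgroup.normalizer (Q₁ : Set G) :=
    fun k => Subgroup.pow_mem _ hgN k
  have hsub : MulAction.orbit (Subgroup.zpowers (MulAut.conj g)) w ⊆ (Q₁ : Set G) \ {1} := by
    rintro x ⟨φ, rfl⟩
    obtain ⟨k, hk⟩ := tporb_smul_eq hfin φ w
    show φ • w ∈ (Q₁ : Set G) \ {1}
    rw [hk]
    refine ⟨(Subgroup.mem_normalizer_iff.1 (hpowN k) w).1 hwQ, ?_⟩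
    simp only [Set.mem_singleton_iff]
    intro h1
    apply hw1
    have h2 := congrArg (fun t => (g ^ k)⁻¹ * t * g ^ k) h1
    simpa [mul_assoc] using h2
  obtain ⟨i, hi⟩ := tporb_ncard_orbit hp hgp w
  have hfinQ : ((Q₁ : Set G) \ {1}).Finite := (Set.toFinite (Q₁ : Set G)).diff
  have hfinO : (MulAction.orbit (Subgroup.zpowers (MulAut.conj g)) w).Finite := hfinQ.subset hsub
  -- the orbit has at least two elements
  have hi1 : i ≠ 0 := by
    rintro rfl
    rw [pow_zero, Set.ncard_eq_one] at hi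
    obtain ⟨a, ha⟩ := hi
    have hwO : w ∈ MulAction.orbit (Subgroup.zpowers (MulAut.conj g)) w := MulAction.mem_orbit_self w
    have hgwO : g * w * g⁻¹ ∈ MulAction.orbit (Subgroup.zpowers (MulAut.conj g)) w := by
      refine ⟨⟨(MulAut.conj g) ^ 1, Subgroup.pow_mem _ (Subgroup.mem_zpowers _) 1⟩, ?_⟩
      have := tporb_pow_smul g 1 w
      simpa using this
    rw [ha] at hwO hgwO
    rw [Set.mem_singleton_iff] at hwO hgwO
    exact hwg (hgwO.trans hwO.symm)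
  have hple : p ≤ p ^ i := by
    calc p = p ^ 1 := (pow_one p).symm
      _ ≤ p ^ i := Nat.pow_le_pow_right hp.pos (Nat.one_le_iff_ne_zero.2 hi1)
  have hQcard : ((Q₁ : Set G) \ {1}).ncard = Nat.card Q₁ - 1 := by
    have hQn : ((Q₁ : Set G)).ncard = Nat.card Q₁ := (Nat.card_coe_set_eq (Q₁ : Set G)).symm
    rw [Set.ncard_diff_singleton_of_mem (Q₁.one_mem), hQn]
  have hle : (MulAction.orbit (Subgroup.zpowers (MulAut.conj g)) w).ncard ≤
      ((Q₁ : Set G) \ {1}).ncard := Set.ncard_le_ncard hsub hfinQ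
  have hQpos : 0 < Nat.card Q₁ := Nat.card_pos
  have hcard' : Nat.card Q₁ = p + 1 := by
    rw [hi, hQcard] at hle
    omega
  have hOeq : MulAction.orbit (Subgroup.zpowers (MulAut.conj g)) w = (Q₁ : Set G) \ {1} := by
    apply Set.eq_of_subset_of_ncard_le hsub _ hfinQ
    rw [hi, hQcard, hcard']
    simpa using hple
  refine ⟨hcard', ?_⟩
  intro u hu v hv hu1 hv1
  have huO : u ∈ MulAction.orbit (Subgroup.zpowers (MulAut.conj g)) w := by
    rw [hOeq]; exact ⟨hu, by simpa using hu1⟩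
  have hvO : v ∈ MulAction.orbit (Subgroup.zpowers (MulAut.conj g)) w := by
    rw [hOeq]; exact ⟨hv, by simpa using hv1⟩
  rw [← MulAction.orbit_eq_iff.2 huO] at hvO
  obtain ⟨φ, hφ⟩ := hvO
  obtain ⟨k, hk⟩ := tporb_smul_eq hfin φ u
  exact ⟨k, hk ▸ hφ⟩

theorem tporb_fixed {p : ℕ} (hp : p.Prime) (Q₁ : Subgroup G) [Finite Q₁]
    (hcard : Nat.card Q₁ ≤ p + 1) {g : G} (hgN : g ∈ Subgroup.normalizer (Q₁ : Set G))
    (hgp : ∃ k : ℕ, orderOf g = p ^ k) {u : G} (hu : u ∈ Q₁) (hu1 : u ≠ 1) (hgu : g * u = u * g) :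
    g ∈ Subgroup.centralizer (Q₁ : Set G) := by
  rcases tporb_main hp Q₁ hcard hgN hgp with h | ⟨hc, htr⟩
  · exact h
  · -- `u` is fixed by all powers of `g`, so `Q₁ \ {1} = {u}`, `p = 1`
    have hfix : ∀ k : ℕ, g ^ k * u * (g ^ k)⁻¹ = u := by
      intro k
      have : Commute (g ^ k) u := (show Commute g u from hgu).pow_left k
      rw [this.eq, mul_inv_cancel_right]
    have hall : ∀ v ∈ Q₁, v ≠ 1 → v = u := by
      intro v hv hv1
      obtain ⟨k, hk⟩ := htr u hu v hv hu1 hv1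
      rw [← hk, hfix k]
    -- then every element of `Q₁` is `1` or `u` : `|Q₁| ≤ 2`
    have h2 : Nat.card Q₁ ≤ 2 := by
      have hsub : (Q₁ : Set G) ⊆ {1, u} := by
        intro v hv
        by_cases hv1 : v = 1
        · simp [hv1]
        · simp [hall v hv hv1]
      have hQn : ((Q₁ : Set G)).ncard = Nat.card Q₁ := (Nat.card_coe_set_eq (Q₁ : Set G)).symm
      have h3 := Set.ncard_le_ncard hsub (Set.toFinite _)
      rw [hQn] at h3
      exact h3.trans ((Set.ncard_insert_le _ _).trans (by simp))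
    have := hp.two_le
    omega

end

end Cfsg.Agent.Lib.Helper66.Tp
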