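import Mathlib
import Cfsg.Agent.Lib.Helper21.ItoTwo
import Cfsg.Agent.Lib.Helper66.Orbits
import Cfsg.Agent.Lib.Helper67.UnionConj

set_option autoImplicit false
set_option linter.style.haveILetI false

namespace Cfsg.Agent.Lib.Helper66.TwoIdx

open Subgroup
open Cfsg.Agent.Lib.Helper21

universe u
variable {G : Type u} [Group G]

/-- Every element of `N` has class size `1` or `m` in `G`. -/
def Hyp (N : Subgroup G) (m : ℕ) : Prop :=
  ∀ x ∈ N, (centralizer ({x} : Set G)).index = 1 ∨ (centralizer ({x} : Set G)).index = m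

theorem idx_of_not_mem {N : Subgroup G} {m : ℕ} (h : Hyp N m) {x : G} (hx : x ∈ N)
    (hxZ : x ∉ center G) : (centralizer ({x} : Set G)).index = m := by
  rcases h x hx with h1 | h1
  · exfalso
    apply hxZ
    rw [← ito_cent_eq_top_iff]
    exact index_eq_one.1 h1
  · exact h1

theorem cent_eq_of_le [Finite G] {N : Subgroup G} {m : ℕ} (h : Hyp N m) {x y : G}
    (hx : x ∈ N) (hxZ : x ∉ center G) (hy : y ∈ N) (hyZ : y ∉ center G)
    (hle : centralizer ({x} : Set G) ≤ centralizer ({y} : Set G)) :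
    centralizer ({x} : Set G) = centralizer ({y} : Set G) := by
  apply le_antisymm hle
  have h1 := relIndex_mul_index hle
  rw [idx_of_not_mem h hx hxZ, idx_of_not_mem h hy hyZ] at h1
  have hn : 0 < m := by
    rw [← idx_of_not_mem h hx hxZ]
    exact Nat.pos_of_ne_zero Subgroup.index_ne_zero_of_finite
  have h2 : (centralizer ({x} : Set G)).relIndex (centralizer ({y} : Set G)) = 1 := by
    have : (centralizer ({x} : Set G)).relIndex (centralizer ({y} : Set G)) * m = 1 * m := by
      rw [h1, one_mul]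
    exact Nat.eq_of_mul_eq_mul_right hn this
  exact relIndex_eq_one.1 h2

theorem cent_le_of_coprime [Finite G] {N : Subgroup G} {m : ℕ} (h : Hyp N m) {x v : G}
    (hx : x ∈ N) (hxZ : x ∉ center G) (hv : v ∈ N) (hxv : Commute x v)
    (hcop : (orderOf x).Coprime (orderOf v)) :
    centralizer ({x} : Set G) ≤ centralizer ({v} : Set G) := by
  obtain ⟨k, hk⟩ := ito_exists_zpow_eq hxv hcop
  have hxvc : x * v ∉ center G := by
    intro hc
    apply hxZ
    rw [← hk]
    exact (center G).zpow_mem hc k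
  have hle : centralizer ({x * v} : Set G) ≤ centralizer ({x} : Set G) := by
    have := ito_cent_le_cent_zpow (x * v) k
    rwa [hk] at this
  have heq := cent_eq_of_le h (N.mul_mem hx hv) hxvc hx hxZ hle
  intro c hc
  have hc' : c ∈ centralizer ({x * v} : Set G) := heq ▸ hc
  rw [mem_centralizer_singleton_iff] at hc hc' ⊢
  have : c * v = x⁻¹ * (c * (x * v)) := by
    rw [← mul_assoc c x v, hc, mul_assoc, inv_mul_cancel_left]
  rw [this, hc', mul_assoc, inv_mul_cancel_left]


/-- The abelian "TI" configuration. -/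
structure Cfg (N : Subgroup G) (m : ℕ) (C M : Subgroup G) : Prop where
  hyp : Hyp N m
  hM : M = C ⊓ N
  hcentral : ∀ u ∈ M, ∀ c ∈ C, c * u = u * c
  hcent : ∀ u ∈ M, u ∉ center G → centralizer ({u} : Set G) = C

namespace Cfg

variable {N : Subgroup G} {m : ℕ} {C M : Subgroup G}

theorem M_le_N (cf : Cfg N m C M) : M ≤ N := by rw [cf.hM]; exact inf_le_right

theorem M_le_C (cf : Cfg N m C M) : M ≤ C := by rw [cf.hM]; exact inf_le_left

theorem comm (cf : Cfg N m C M) {u v : G} (hu : u ∈ M) (hv : v ∈ M) : u * v = v * u :=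
  cf.hcentral v hv u (cf.M_le_C hu)

theorem mem_C_of_commute (cf : Cfg N m C M) {u g : G} (hu : u ∈ M) (huZ : u ∉ center G)
    (hg : g * u = u * g) : g ∈ C := by
  rw [← cf.hcent u hu huZ, mem_centralizer_singleton_iff]
  exact hg

theorem mem_M_of_commute (cf : Cfg N m C M) {u g : G} (hu : u ∈ M) (huZ : u ∉ center G)
    (hgN : g ∈ N) (hg : g * u = u * g) : g ∈ M := by
  rw [cf.hM]
  exact ⟨cf.mem_C_of_commute hu huZ hg, hgN⟩

theorem center_inf_le (cf : Cfg N m C M) {z : G} (hz : z ∈ center G) (hzN : z ∈ N)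
    (hex : ∃ u ∈ M, u ∉ center G) : z ∈ M := by
  obtain ⟨u, hu, huZ⟩ := hex
  exact cf.mem_M_of_commute hu huZ hzN (mem_center_iff.1 hz u).symm

theorem conj_not_center {g u : G} (hu : u ∉ center G) : g * u * g⁻¹ ∉ center G := by
  intro h
  apply hu
  have : u = g⁻¹ * (g * u * g⁻¹) * g⁻¹⁻¹ := by group
  rw [this]
  exact (inferInstance : (center G).Normal).conj_mem _ h _

theorem C_le_normalizer [N.Normal] (cf : Cfg N m C M) : C ≤ normalizer (M : Set G) := by
  intro c hc
  rw [mem_normalizer_iff]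
  intro n
  rw [cf.hM]
  constructor
  · rintro ⟨h1, h2⟩
    exact ⟨C.mul_mem (C.mul_mem hc h1) (C.inv_mem hc), (inferInstance : N.Normal).conj_mem _ h2 _⟩
  · rintro ⟨h1, h2⟩
    constructor
    · have : n = c⁻¹ * (c * n * c⁻¹) * c := by group
      rw [this]
      exact C.mul_mem (C.mul_mem (C.inv_mem hc) h1) hc
    · have : n = c⁻¹ * (c * n * c⁻¹) * c⁻¹⁻¹ := by group
      rw [this]
      exact (inferInstance : N.Normal).conj_mem _ h2 _

theorem mem_normalizer_of_conj [N.Normal] (cf : Cfg N m C M) {u g : G} (hu : u ∈ M)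
    (huZ : u ∉ center G) (hg : g * u * g⁻¹ ∈ M) : g ∈ normalizer (M : Set G) := by
  have hvZ : g * u * g⁻¹ ∉ center G := conj_not_center huZ
  -- `c ∈ C ↔ g c g⁻¹ ∈ C`
  have key : ∀ c : G, c ∈ C ↔ g * c * g⁻¹ ∈ C := by
    intro c
    constructor
    · intro hc
      apply cf.mem_C_of_commute hg hvZ
      have h1 : c * u = u * c := cf.hcentral u hu c hc
      calc g * c * g⁻¹ * (g * u * g⁻¹) = g * (c * u) * g⁻¹ := by group
        _ = g * (u * c) * g⁻¹ := by rw [h1]
        _ = g * u * g⁻¹ * (g * c * g⁻¹) := by group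
    · intro hc
      apply cf.mem_C_of_commute hu huZ
      have h1 : (g * c * g⁻¹) * (g * u * g⁻¹) = (g * u * g⁻¹) * (g * c * g⁻¹) :=
        cf.hcentral _ hg _ hc
      have h2 : g * (c * u) * g⁻¹ = g * (u * c) * g⁻¹ := by
        calc g * (c * u) * g⁻¹ = (g * c * g⁻¹) * (g * u * g⁻¹) := by group
          _ = (g * u * g⁻¹) * (g * c * g⁻¹) := h1
          _ = g * (u * c) * g⁻¹ := by group
      exact mul_left_cancel (mul_right_cancel h2)
  rw [mem_normalizer_iff]
  intro n
  rw [cf.hM]
  constructor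
  · rintro ⟨h1, h2⟩
    exact ⟨(key n).1 h1, (inferInstance : N.Normal).conj_mem _ h2 _⟩
  · rintro ⟨h1, h2⟩
    refine ⟨(key n).2 h1, ?_⟩
    have : n = g⁻¹ * (g * n * g⁻¹) * g⁻¹⁻¹ := by group
    rw [this]
    exact (inferInstance : N.Normal).conj_mem _ h2 _

end Cfg


/-- Conjugation action of a subgroup `T` on `G` (as an explicit structure, to avoid the
left-multiplication instance). -/
@[reducible] def conjAct (T : Subgroup G) : MulAction ↥T G :=
  MulAction.compHom G ((MulAut.conj : G →* MulAut G).comp T.subtype)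

theorem conjAct_smul (T : Subgroup G) (t : ↥T) (g : G) :
    (@HSMul.hSMul ↥T G G (@instHSMul ↥T G (conjAct T).toSMul) t g) = (t : G) * g * (t : G)⁻¹ := rfl

/-- Orbit counting for conjugation: if `Y` is invariant under conjugation by `T` and the
centralizer in `T` of each element of `Y` is `T ⊓ D`, then `|T : T ⊓ D|` divides `|Y|`. -/
theorem conj_dvd_card [Finite G] [DecidableEq G] (T D : Subgroup G) (Y : Finset G)
    (hinv : ∀ t ∈ T, ∀ y ∈ Y, t * y * t⁻¹ ∈ Y)
    (hstab : ∀ y ∈ Y, ∀ t ∈ T, (t * y = y * t ↔ t ∈ D)) : D.relIndex T ∣ Y.card := by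
  letI inst : MulAction ↥T G := conjAct T
  apply @dvd_card_of_invariant ↥T G _ inst _ (D.relIndex T) Y
  · intro t y hy
    exact hinv t t.2 y hy
  · intro y hy
    rw [← @MulAction.index_stabilizer ↥T G _ inst y]
    have : @MulAction.stabilizer ↥T G _ inst y = D.subgroupOf T := by
      ext t
      rw [@MulAction.mem_stabilizer_iff ↥T G _ inst, mem_subgroupOf, ← hstab y hy t t.2]
      show (t : G) * y * (t : G)⁻¹ = y ↔ _
      constructor
      · intro h1
        calc (t : G) * y = (t : G) * y * (t : G)⁻¹ * t := by group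
          _ = y * t := by rw [h1]
      · intro h1
        rw [h1]; group
    rw [this]
    rfl

/-- Exact orbit count for conjugation. -/
theorem conj_orbit_card [Finite G] [DecidableEq G] (T D : Subgroup G) (y : G) (Y : Finset G)
    (hY : ∀ x, x ∈ Y ↔ ∃ t ∈ T, t * y * t⁻¹ = x)
    (hstab : ∀ t ∈ T, (t * y = y * t ↔ t ∈ D)) : Y.card = D.relIndex T := by
  letI inst : MulAction ↥T G := conjAct T
  have h1 := @MulAction.index_stabilizer ↥T G _ inst y
  have : @MulAction.stabilizer ↥T G _ inst y = D.subgroupOf T := by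
    ext t
    rw [@MulAction.mem_stabilizer_iff ↥T G _ inst, mem_subgroupOf, ← hstab t t.2]
    show (t : G) * y * (t : G)⁻¹ = y ↔ _
    constructor
    · intro h1
      calc (t : G) * y = (t : G) * y * (t : G)⁻¹ * t := by group
        _ = y * t := by rw [h1]
    · intro h1
      rw [h1]; group
  rw [this] at h1
  have h2 : (@MulAction.orbit ↥T G inst.toSMul y) = (Y : Set G) := by
    ext x
    rw [Finset.mem_coe, hY]
    constructor
    · rintro ⟨t, rfl⟩
      exact ⟨t, t.2, rfl⟩
    · rintro ⟨t, ht, rfl⟩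
      exact ⟨⟨t, ht⟩, rfl⟩
  rw [h2, Set.ncard_coe_finset] at h1
  rw [← h1]
  rfl


theorem card_inf_mul_relIndex (D T : Subgroup G) :
    Nat.card ↥(D ⊓ T) * D.relIndex T = Nat.card ↥T := by
  rw [← inf_relIndex_right, ← relIndex_bot_left, ← relIndex_bot_left,
    relIndex_mul_relIndex _ _ _ bot_le inf_le_right]

theorem card_mul_relIndex_of_le {D T : Subgroup G} (h : D ≤ T) :
    Nat.card ↥D * D.relIndex T = Nat.card ↥T := by
  rw [← relIndex_bot_left, ← relIndex_bot_left, relIndex_mul_relIndex _ _ _ bot_le h]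

theorem card_filter_mem [Fintype G] (H : Subgroup G) [DecidablePred (· ∈ H)] :
    (Finset.univ.filter (· ∈ H)).card = Nat.card ↥H := by
  rw [Nat.card_eq_fintype_card, Fintype.card_subtype]

namespace Cfg

variable {N : Subgroup G} {m : ℕ} {C M : Subgroup G}

/-- The subgroup of `p`-elements of `M`. -/
def pPart (cf : Cfg N m C M) (p : ℕ) : Subgroup G where
  carrier := {u | u ∈ M ∧ ∃ k : ℕ, u ^ (p ^ k) = 1}
  one_mem' := ⟨M.one_mem, 0, by simp⟩
  mul_mem' := by
    rintro a b ⟨ha, k, hk⟩ ⟨hb, l, hl⟩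
    refine ⟨M.mul_mem ha hb, k + l, ?_⟩
    have hc : Commute a b := cf.comm ha hb
    rw [hc.mul_pow, pow_add, pow_mul, hk, one_pow, mul_comm (p ^ k), pow_mul, hl, one_pow, one_mul]
  inv_mem' := by
    rintro a ⟨ha, k, hk⟩
    exact ⟨M.inv_mem ha, k, by rw [inv_pow, hk, inv_one]⟩

theorem mem_pPart (cf : Cfg N m C M) {p : ℕ} {u : G} :
    u ∈ cf.pPart p ↔ u ∈ M ∧ ∃ k : ℕ, u ^ (p ^ k) = 1 := Iff.rfl

theorem pPart_le (cf : Cfg N m C M) (p : ℕ) : cf.pPart p ≤ M := fun _ hu => hu.1

theorem isPGroup_pPart (cf : Cfg N m C M) (p : ℕ) : IsPGroup p ↥(cf.pPart p) := by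
  rintro ⟨u, hu, k, hk⟩
  exact ⟨k, Subtype.ext hk⟩

theorem conj_mem_pPart (cf : Cfg N m C M) {p : ℕ} {g u : G} (hg : g ∈ normalizer (M : Set G))
    (hu : u ∈ cf.pPart p) : g * u * g⁻¹ ∈ cf.pPart p := by
  obtain ⟨hu1, k, hk⟩ := hu
  refine ⟨(mem_normalizer_iff.1 hg u).1 hu1, k, ?_⟩
  rw [conj_pow, hk, mul_one, mul_inv_cancel]

/-- Orbits of `M_p` on the part of a class of `N` outside `M`. -/
theorem dvd_card_class_diff [Finite G] [DecidableEq G] [DecidablePred (· ∈ M)] [N.Normal]
    (cf : Cfg N m C M) (p : ℕ)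
    {g : G} (hg : g ∈ N) (Ω : Finset G) (hΩ : ∀ x, x ∈ Ω ↔ IsConj g x) :
    (center G).relIndex (cf.pPart p) ∣ (Ω.filter (· ∉ M)).card := by
  apply conj_dvd_card
  · intro t ht y hy
    rw [Finset.mem_filter, hΩ] at hy ⊢
    refine ⟨hy.1.trans (isConj_iff.2 ⟨t, rfl⟩), ?_⟩
    intro h
    apply hy.2
    have : y = t⁻¹ * (t * y * t⁻¹) * t := by group
    rw [this]
    exact M.mul_mem (M.mul_mem (M.inv_mem (cf.pPart_le p ht)) h) (cf.pPart_le p ht)
  · intro y hy t ht
    rw [Finset.mem_filter, hΩ] at hy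
    have hyN : y ∈ N := by
      obtain ⟨c, hc⟩ := isConj_iff.1 hy.1
      rw [← hc]
      exact (inferInstance : N.Normal).conj_mem _ hg _
    constructor
    · intro h1
      by_contra htZ
      exact hy.2 (cf.mem_M_of_commute (cf.pPart_le p ht) htZ hyN h1.symm)
    · intro htZ
      exact mem_center_iff.1 htZ y |>.symm


/-- The cross inequality. -/
theorem mu_lt [Finite G] [N.Normal] (cf : Cfg N m C M) {p q : ℕ} [hp : Fact p.Prime]
    [hq : Fact q.Prime] (hpq : p ≠ q)
    (hdiv : (center G).relIndex (cf.pPart p) ∣ C.relIndex (normalizer (M : Set G)))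
    (hq1 : ∃ x ∈ cf.pPart q, x ∉ center G) :
    (center G).relIndex (cf.pPart p) < (center G).relIndex (cf.pPart q) := by
  classical
  haveI : Fintype G := Fintype.ofFinite G
  set L := normalizer (M : Set G) with hL
  set μp := (center G).relIndex (cf.pPart p) with hμp
  set μq := (center G).relIndex (cf.pPart q) with hμq
  have hCL : C ≤ L := cf.C_le_normalizer
  -- the `p`-subgroup `T`
  have hdvdL : p ^ (Nat.card ↥L).factorization p ∣ Nat.card ↥L := Nat.ordProj_dvd _ _
  obtain ⟨K, hK⟩ := Sylow.exists_subgroup_card_pow_prime p hdvdL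
  set T := K.map L.subtype with hT
  have hTL : T ≤ L := by rw [hT]; exact map_subtype_le K
  have hTcard : Nat.card ↥T = p ^ (Nat.card ↥L).factorization p := by
    rw [hT, card_map_of_injective L.subtype_injective]
    exact hK
  have hTp : IsPGroup p ↥T := IsPGroup.of_card hTcard
  set d := C.relIndex T with hd
  set Y : Finset G := Finset.univ.filter (fun u => u ∈ cf.pPart q ∧ u ∉ center G) with hY
  have hdY : d ∣ Y.card := by
    apply conj_dvd_card
    · intro t ht y hy
      rw [hY, Finset.mem_filter] at hy ⊢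
      exact ⟨Finset.mem_univ _, cf.conj_mem_pPart (hTL ht) hy.2.1, conj_not_center hy.2.2⟩
    · intro y hy t ht
      rw [hY, Finset.mem_filter] at hy
      constructor
      · intro h1
        exact cf.mem_C_of_commute (cf.pPart_le q hy.2.1) hy.2.2 h1
      · intro htC
        exact cf.hcentral y (cf.pPart_le q hy.2.1) t htC
  -- counting `Y`
  set z := Nat.card ↥(center G ⊓ cf.pPart q) with hz
  have hcount : z + Y.card = Nat.card ↥(cf.pPart q) := by
    rw [hz, ← card_filter_mem (cf.pPart q), ← card_filter_mem (center G ⊓ cf.pPart q),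
      ← Finset.card_filter_add_card_filter_not (s := Finset.univ.filter (· ∈ cf.pPart q))
        (fun u => u ∈ center G), Finset.filter_filter, Finset.filter_filter]
    congr 2
    · ext u
      simp only [Finset.mem_filter, Finset.mem_univ, true_and, mem_inf]
      tauto
  have hzμ : z * μq = Nat.card ↥(cf.pPart q) := card_inf_mul_relIndex _ _
  have hzpos : 0 < z := Nat.card_pos
  -- `μq ≥ 2`
  have hμq2 : 2 ≤ μq := by
    have h0 : μq ≠ 0 := by
      intro h0
      rw [h0, mul_zero] at hzμ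
      exact Nat.card_pos.ne' hzμ.symm
    have h1 : μq ≠ 1 := by
      intro h1
      obtain ⟨x, hx, hxZ⟩ := hq1
      exact hxZ (relIndex_eq_one.1 h1 hx)
    omega
  have hYcard : Y.card = z * (μq - 1) := by
    have : z * μq = z * (μq - 1) + z := by
      rw [← Nat.mul_succ]
      congr 1
      omega
    omega
  -- `z` is a `q`-power
  obtain ⟨n, hn⟩ := ((cf.isPGroup_pPart q).to_le (inf_le_right : center G ⊓ cf.pPart q ≤ _)).exists_card_eq
  -- `d` is a `p`-power
  have hdT : Nat.card ↥(C ⊓ T) * d = Nat.card ↥T := card_inf_mul_relIndex _ _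
  obtain ⟨a, ha⟩ := (hTp.to_le (inf_le_right : C ⊓ T ≤ T)).exists_card_eq
  set ℓ := (Nat.card ↥L).factorization p with hℓ
  have hCpos : Nat.card ↥C ≠ 0 := Nat.card_pos.ne'
  have haC : a ≤ (Nat.card ↥C).factorization p := by
    rw [← Nat.Prime.pow_dvd_iff_le_factorization hp.out hCpos, ← ha]
    exact card_dvd_of_le inf_le_left
  set e := C.relIndex L with he
  have hCe : Nat.card ↥C * e = Nat.card ↥L := card_mul_relIndex_of_le hCL
  have he0 : e ≠ 0 := by
    intro h0
    rw [h0, mul_zero] at hCe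
    exact Nat.card_pos.ne' hCe.symm
  have hℓeq : ℓ = (Nat.card ↥C).factorization p + e.factorization p := by
    rw [hℓ, ← hCe, Nat.factorization_mul hCpos he0]
    rfl
  -- `μp` is a `p`-power dividing `e`
  have hμpdvd : μp ∣ Nat.card ↥(cf.pPart p) := relIndex_dvd_card _ _
  obtain ⟨n', hn'⟩ := (cf.isPGroup_pPart p).exists_card_eq
  rw [hn'] at hμpdvd
  obtain ⟨b, -, hb⟩ := (Nat.dvd_prime_pow hp.out).1 hμpdvd
  have hbe : b ≤ e.factorization p := by
    rw [← Nat.Prime.pow_dvd_iff_le_factorization hp.out he0, ← hb]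
    exact hdiv
  have hal : a + b ≤ ℓ := by omega
  have hdeq : d = p ^ (ℓ - a) := by
    have h1 : p ^ a * d = p ^ a * p ^ (ℓ - a) := by
      rw [← ha, hdT, hTcard, ha, ← pow_add]
      congr 1
      omega
    exact Nat.eq_of_mul_eq_mul_left (pow_pos hp.out.pos a) h1
  have hμpd : μp ∣ d := by
    rw [hb, hdeq]
    exact pow_dvd_pow p (by omega)
  -- `d ∣ μq - 1`
  have hcop : Nat.Coprime d z := by
    rw [hdeq, hz, hn]
    exact Nat.Coprime.pow _ _ ((Nat.coprime_primes hp.out hq.out).2 hpq)
  have hd1 : d ∣ μq - 1 := by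
    rw [hYcard] at hdY
    exact hcop.dvd_of_dvd_mul_left hdY
  have hle1 : d ≤ μq - 1 := Nat.le_of_dvd (by omega) hd1
  have hdpos : 0 < d := by rw [hdeq]; exact pow_pos hp.out.pos _
  have hle2 : μp ≤ d := Nat.le_of_dvd hdpos hμpd
  omega


theorem card_class [Fintype G] [DecidableEq G] (w : G) [DecidablePred (fun x => IsConj w x)] :
    (Finset.univ.filter (fun x => IsConj w x)).card = (centralizer ({w} : Set G)).index := by
  rw [← Cfsg.Agent.Lib.Helper67.ncard_carrier_eq_index, ← Set.ncard_coe_finset]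
  congr 1
  ext x
  simp only [Finset.coe_filter, Finset.mem_univ, true_and,     ConjClasses.mem_carrier_iff_mk_eq, ConjClasses.mk_eq_mk_iff_isConj]
  exact isConj_comm

/-- Every element of `N` has a conjugate in `M`, when `M` has noncentral elements for two
different primes. -/
theorem exists_conj_mem [Finite G] [N.Normal] (cf : Cfg N m C M) {q r : ℕ} [hq : Fact q.Prime]
    [hr : Fact r.Prime] (hqr : q ≠ r) {y x : G} (hy : y ∈ cf.pPart q) (hyZ : y ∉ center G)
    (hx : x ∈ cf.pPart r) (hxZ : x ∉ center G) {g : G} (hg : g ∈ N) :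
    ∃ a : G, a * g * a⁻¹ ∈ M := by
  classical
  haveI : Fintype G := Fintype.ofFinite G
  by_contra hcon
  push Not at hcon
  have hyM : y ∈ M := cf.pPart_le q hy
  have hgZ : g ∉ center G := by
    intro hz
    apply hcon 1
    simpa using cf.center_inf_le hz hg ⟨y, hyM, hyZ⟩
  set L := normalizer (M : Set G) with hL
  set e := C.relIndex L with he
  -- the class of `g`
  have hmg : ∀ p : ℕ, (center G).relIndex (cf.pPart p) ∣ m := by
    intro p
    have h1 := cf.dvd_card_class_diff p hg (Finset.univ.filter (fun x => IsConj g x))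
      (fun x => by simp)
    have h2 : (Finset.univ.filter (fun x => IsConj g x)).filter (· ∉ M) =
        Finset.univ.filter (fun x => IsConj g x) := by
      apply Finset.filter_true_of_mem
      intro x hx
      rw [Finset.mem_filter] at hx
      obtain ⟨c, hc⟩ := isConj_iff.1 hx.2
      rw [← hc]
      exact hcon c
    rw [h2, card_class, idx_of_not_mem cf.hyp hg hgZ] at h1
    exact h1
  -- the class of `y`
  have hme : ∀ p : ℕ, (center G).relIndex (cf.pPart p) ∣ e := by
    intro p
    have hyN : y ∈ N := cf.M_le_N hyM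
    set Ω := Finset.univ.filter (fun x => IsConj y x) with hΩ
    have h1 := cf.dvd_card_class_diff p hyN Ω (fun x => by simp [hΩ])
    have h2 : (Ω.filter (· ∈ M)).card = e := by
      apply conj_orbit_card L C y
      · intro w
        rw [Finset.mem_filter, hΩ, Finset.mem_filter]
        constructor
        · rintro ⟨⟨-, hw1⟩, hw2⟩
          obtain ⟨c, hc⟩ := isConj_iff.1 hw1
          refine ⟨c, ?_, hc⟩
          apply cf.mem_normalizer_of_conj hyM hyZ
          rw [hc]; exact hw2
        · rintro ⟨t, ht, rfl⟩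
          exact ⟨⟨Finset.mem_univ _, isConj_iff.2 ⟨t, rfl⟩⟩, (mem_normalizer_iff.1 ht y).1 hyM⟩
      · intro t _
        constructor
        · intro h3
          exact cf.mem_C_of_commute hyM hyZ h3
        · intro htC
          exact cf.hcentral y hyM t htC
    have h3 := Finset.card_filter_add_card_filter_not (s := Ω) (fun u => u ∈ M)
    rw [h2, hΩ, card_class, idx_of_not_mem cf.hyp hyN hyZ] at h3
    have h4 := hmg p
    rw [← hΩ] at h3
    have h5 : (center G).relIndex (cf.pPart p) ∣ e + (Ω.filter (fun u => ¬ u ∈ M)).card := by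
      rw [h3]; exact h4
    exact (Nat.dvd_add_left h1).1 h5
  have h1 := cf.mu_lt hqr (hme q) ⟨x, hx, hxZ⟩
  have h2 := cf.mu_lt (Ne.symm hqr) (hme r) ⟨y, hy, hyZ⟩
  omega


/-- The final step: with two primes present, `N` is nilpotent. -/
theorem isNilpotent [Finite G] [N.Normal] (cf : Cfg N m C M) {q r : ℕ} [hq : Fact q.Prime]
    [hr : Fact r.Prime] (hqr : q ≠ r) {y x : G} (hy : y ∈ cf.pPart q) (hyZ : y ∉ center G)
    (hx : x ∈ cf.pPart r) (hxZ : x ∉ center G) : Group.IsNilpotent ↥N := by
  have hyM : y ∈ M := cf.pPart_le q hy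
  by_cases hNM : N ≤ M
  · refine ⟨1, Subgroup.upperCentralSeries_one_eq_top_iff.2 ⟨⟨fun a b => ?_⟩⟩⟩
    exact Subtype.ext (cf.comm (hNM a.2) (hNM b.2))
  set k := M.relIndex N with hk
  have hMk : Nat.card ↥M * k = Nat.card ↥N := card_mul_relIndex_of_le cf.M_le_N
  have hMpos : 0 < Nat.card ↥M := Nat.card_pos
  have hk0 : k ≠ 0 := by
    intro h0
    rw [h0, mul_zero] at hMk
    exact Nat.card_pos.ne' hMk.symm
  have hk1 : k ≠ 1 := fun h1 => hNM (relIndex_eq_one.1 h1)
  have hIto : ItoHyp ↥N k := by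
    refine ⟨by omega, ?_⟩
    intro w
    by_cases hwZ : (w : G) ∈ center G
    · left
      rw [index_eq_one, eq_top_iff]
      intro c _
      rw [mem_centralizer_singleton_iff]
      exact Subtype.ext (mem_center_iff.1 hwZ (c : G))
    · right
      obtain ⟨a, ha⟩ := cf.exists_conj_mem hqr hy hyZ hx hxZ w.2
      have hvZ : a * (w : G) * a⁻¹ ∉ center G := conj_not_center hwZ
      have hmap : (centralizer ({w} : Set ↥N)).map N.subtype =
          M.map (MulAut.conj a⁻¹).toMonoidHom := by
        ext c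
        constructor
        · rintro ⟨c', hc', rfl⟩
          rw [SetLike.mem_coe, mem_centralizer_singleton_iff] at hc'
          have hc'' : (c' : G) * (w : G) = (w : G) * (c' : G) := congrArg Subtype.val hc'
          refine ⟨a * (c' : G) * a⁻¹, ?_, ?_⟩
          · apply cf.mem_M_of_commute ha hvZ ((inferInstance : N.Normal).conj_mem _ c'.2 _)
            calc a * (c' : G) * a⁻¹ * (a * (w : G) * a⁻¹) = a * ((c' : G) * (w : G)) * a⁻¹ := by
                  group
              _ = a * ((w : G) * (c' : G)) * a⁻¹ := by rw [hc'']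
              _ = a * (w : G) * a⁻¹ * (a * (c' : G) * a⁻¹) := by group
          · simp only [MulEquiv.coe_toMonoidHom, MulAut.conj_apply, inv_inv, Subgroup.coe_subtype]
            group
        · rintro ⟨u, hu, rfl⟩
          have huN : a⁻¹ * u * a ∈ N := by
            have := (inferInstance : N.Normal).conj_mem _ (cf.M_le_N hu) a⁻¹
            simpa using this
          refine ⟨⟨a⁻¹ * u * a, huN⟩, ?_, ?_⟩
          · rw [SetLike.mem_coe, mem_centralizer_singleton_iff]
            apply Subtype.ext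
            show a⁻¹ * u * a * (w : G) = (w : G) * (a⁻¹ * u * a)
            have h1 : u * (a * (w : G) * a⁻¹) = (a * (w : G) * a⁻¹) * u := cf.comm hu ha
            calc a⁻¹ * u * a * (w : G) = a⁻¹ * (u * (a * (w : G) * a⁻¹)) * a := by group
              _ = a⁻¹ * ((a * (w : G) * a⁻¹) * u) * a := by rw [h1]
              _ = (w : G) * (a⁻¹ * u * a) := by group
          · simp only [MulEquiv.coe_toMonoidHom, MulAut.conj_apply, inv_inv, Subgroup.coe_subtype]
      have hcard : Nat.card ↥(centralizer ({w} : Set ↥N)) = Nat.card ↥M := by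
        rw [← card_map_of_injective N.subtype_injective, hmap,
          card_map_of_injective (MulEquiv.injective _)]
      have h1 := (centralizer ({w} : Set ↥N)).card_mul_index
      rw [hcard, ← hMk] at h1
      exact Nat.eq_of_mul_eq_mul_left hMpos h1
  have hex : ∃ w : ↥N, w ∉ center ↥N := by
    refine ⟨⟨y, cf.M_le_N hyM⟩, ?_⟩
    intro hc
    apply hNM
    intro n hn
    apply cf.mem_M_of_commute hyM hyZ hn
    have := mem_center_iff.1 hc ⟨n, hn⟩
    exact congrArg Subtype.val this
  obtain ⟨p, hp, a, b, -, hcard⟩ := ito_quot_prime_pow hIto hex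
  haveI : Fact p.Prime := ⟨hp⟩
  have hPG : IsPGroup p (↥N ⧸ center ↥N) := IsPGroup.of_card hcard
  haveI : Group.IsNilpotent (↥N ⧸ center ↥N) := hPG.isNilpotent
  exact Subgroup.isNilpotent_of_ker_le_center (QuotientGroup.mk' (center ↥N)) (by rw [QuotientGroup.ker_mk'])

end Cfg

end Cfsg.Agent.Lib.Helper66.TwoIdx
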